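import Cfsg.Agent.Lib.Classical.AschSp.Basic
import Cfsg.Agent.Lib.Classical.TensorSmall

/-!
# Forms in coordinates of a tensor decomposition
-/

set_option autoImplicit false
set_option linter.unusedSectionVars false

namespace CfsgLib.Classical.AschSp

open Matrix Cfsg Cfsg.Geo CfsgLib.Classical.AschPrime CfsgLib.Classical.AschGen
open scoped MatrixGroups Kronecker

variable {F : Type*} [Field F] [Fintype F] {n m k : ℕ}
variable {f : (Fin n → F) → (Fin n → F) → F}

/-- Matrices on the product index set, inside the matrices of the space. -/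
noncomputable def pull (e : Fin n ≃ Fin m × Fin k) (P : GL (Fin n) F) :
    Matrix (Fin m × Fin k) (Fin m × Fin k) F →ₐ[F] Mat n F :=
  (conjHom P).comp (Matrix.reindexAlgEquiv F F e.symm : _ ≃ₐ[F] Mat n F).toAlgHom

variable (e : Fin n ≃ Fin m × Fin k) (P : GL (Fin n) F)

theorem pull_apply (X : Matrix (Fin m × Fin k) (Fin m × Fin k) F) : pull e P X =
    (P : Mat n F) * Matrix.reindex e.symm e.symm X * ((P⁻¹ : GL (Fin n) F) : Mat n F) := rfl

theorem pull_injective : Function.Injective (pull e P) := fun X Y h => by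
  rw [pull_apply, pull_apply] at h
  exact (Matrix.reindex e.symm e.symm).injective
    (P.isUnit.mul_right_injective ((P⁻¹).isUnit.mul_left_injective h))

theorem pull_std (X : Mat m F) :
    pull e P (X ⊗ₖ (1 : Mat k F)) = (P : Mat n F) * stdHom e X * ((P⁻¹ : GL (Fin n) F) : Mat n F) :=
  rfl

/-- The left factor. -/
noncomputable def leftHom : Mat m F →ₐ[F] Mat n F :=
  (pull e P).comp
    { toFun := fun X => X ⊗ₖ (1 : Mat k F)
      map_one' := Matrix.one_kronecker_one
      map_mul' := fun X Y => by rw [← Matrix.mul_kronecker_mul, mul_one]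
      map_zero' := Matrix.zero_kronecker _
      map_add' := fun X Y => Matrix.add_kronecker _ _ _
      commutes' := fun c => by
        rw [Algebra.algebraMap_eq_smul_one, Matrix.smul_kronecker, Matrix.one_kronecker_one,
          Algebra.algebraMap_eq_smul_one] }

/-- The right factor. -/
noncomputable def rightHom : Mat k F →ₐ[F] Mat n F :=
  (pull e P).comp
    { toFun := fun X => (1 : Mat m F) ⊗ₖ X
      map_one' := Matrix.one_kronecker_one
      map_mul' := fun X Y => by rw [← Matrix.mul_kronecker_mul, mul_one]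
      map_zero' := Matrix.kronecker_zero _
      map_add' := fun X Y => Matrix.kronecker_add _ _ _
      commutes' := fun c => by
        rw [Algebra.algebraMap_eq_smul_one, Matrix.kronecker_smul, Matrix.one_kronecker_one,
          Algebra.algebraMap_eq_smul_one] }

theorem leftHom_apply (X : Mat m F) : leftHom e P X = pull e P (X ⊗ₖ (1 : Mat k F)) := rfl

theorem rightHom_apply (X : Mat k F) : rightHom e P X = pull e P ((1 : Mat m F) ⊗ₖ X) := rfl

theorem rightHom_injective (hm : 0 < m) : Function.Injective (rightHom e P) := fun X Y h => by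
  have h' := pull_injective e P h
  ext a b
  have := congrFun (congrFun h' (⟨0, hm⟩, a)) (⟨0, hm⟩, b)
  simpa using this

theorem kron_left_inj (hk : 0 < k) {X Y : Mat m F}
    (h : X ⊗ₖ (1 : Mat k F) = Y ⊗ₖ (1 : Mat k F)) : X = Y := by
  ext a b
  have := congrFun (congrFun h (a, ⟨0, hk⟩)) (b, ⟨0, hk⟩)
  simpa using this

/-- The Gram matrix in the coordinates of the decomposition. -/
noncomputable def tGram (f : (Fin n → F) → (Fin n → F) → F) : Matrix (Fin m × Fin k) (Fin m × Fin k) F :=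
  Matrix.reindex e e ((P : Mat n F)ᵀ * gramMatrix f * (P : Mat n F))

theorem mem_tensor_iff {g : GL (Fin n) F} : g ∈ tensorProductSubgroup m k e P ↔
    ∃ (a : GL (Fin m) F) (b : GL (Fin k) F), (g : Mat n F) = pull e P ((a : Mat m F) ⊗ₖ (b : Mat k F)) := by
  constructor
  · rintro ⟨_, ⟨K, ⟨a, b, hK⟩, rfl⟩, rfl⟩
    refine ⟨a, b, ?_⟩
    rw [pull_apply, ← hK]
    rfl
  · rintro ⟨a, b, hg⟩
    refine ⟨_, ⟨⟨(a : Mat m F) ⊗ₖ (b : Mat k F), ((a⁻¹ : GL (Fin m) F) : Mat m F) ⊗ₖ
      ((b⁻¹ : GL (Fin k) F) : Mat k F), ?_, ?_⟩, ⟨a, b, rfl⟩, rfl⟩, Units.ext hg.symm⟩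
    · rw [← Matrix.mul_kronecker_mul, Units.mul_inv, Units.mul_inv, Matrix.one_kronecker_one]
    · rw [← Matrix.mul_kronecker_mul, Units.inv_mul, Units.inv_mul, Matrix.one_kronecker_one]

theorem conj_pull {g : GL (Fin n) F} {a : GL (Fin m) F} {b : GL (Fin k) F}
    (hg : (g : Mat n F) = pull e P ((a : Mat m F) ⊗ₖ (b : Mat k F))) (X : Mat m F) (Y : Mat k F) :
    conjHom g (pull e P (X ⊗ₖ Y)) = pull e P
      (((a : Mat m F) * X * ((a⁻¹ : GL (Fin m) F) : Mat m F)) ⊗ₖ
        ((b : Mat k F) * Y * ((b⁻¹ : GL (Fin k) F) : Mat k F))) := by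
  have hinv : ((g⁻¹ : GL (Fin n) F) : Mat n F) =
      pull e P (((a⁻¹ : GL (Fin m) F) : Mat m F) ⊗ₖ ((b⁻¹ : GL (Fin k) F) : Mat k F)) :=
    Units.inv_eq_of_mul_eq_one_right (by
      rw [hg, ← map_mul, ← Matrix.mul_kronecker_mul, Units.mul_inv, Units.mul_inv,
        Matrix.one_kronecker_one, map_one])
  rw [conjHom_apply, hg, hinv, ← map_mul, ← map_mul, ← Matrix.mul_kronecker_mul,
    ← Matrix.mul_kronecker_mul]

variable (hf : IsSymplecticForm f)
include hf

theorem tGram_unit : IsUnit (tGram e P f) := by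
  have h : IsUnit ((P : Mat n F)ᵀ * gramMatrix f * (P : Mat n F)) :=
    (((Matrix.isUnit_transpose _).mpr P.isUnit).mul (gram_unit hf)).mul P.isUnit
  exact h.map (Matrix.reindexAlgEquiv F F e)

theorem tGram_skew : (tGram e P f)ᵀ = -tGram e P f := by
  rw [tGram, Matrix.transpose_reindex, Matrix.transpose_mul, Matrix.transpose_mul,
    Matrix.transpose_transpose, gram_transpose hf]
  simp [mul_assoc]
  rfl

theorem tGram_apply (p q : Fin m × Fin k) : tGram e P f p q =
    f ((P : Mat n F) *ᵥ Pi.single (e.symm p) 1) ((P : Mat n F) *ᵥ Pi.single (e.symm q) 1) := by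
  rw [form_apply hf, Matrix.mulVec_mulVec, ← Matrix.vecMul_transpose, ← Matrix.dotProduct_mulVec,
    Matrix.mulVec_mulVec, ← mul_assoc, single_one_dotProduct, Matrix.mulVec_single_one]
  rfl

theorem form_pull (x y : Fin m × Fin k → F) :
    f ((P : Mat n F) *ᵥ (x ∘ e)) ((P : Mat n F) *ᵥ (y ∘ e)) = formOfGram id (tGram e P f) x y := by
  rw [form_apply hf, Matrix.mulVec_mulVec, ← Matrix.vecMul_transpose, ← Matrix.dotProduct_mulVec,
    Matrix.mulVec_mulVec, ← mul_assoc]
  simp only [formOfGram, dotProduct, Matrix.mulVec, Finset.mul_sum, Function.comp_apply, id_eq]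
  refine Fintype.sum_equiv e _ _ fun i => Fintype.sum_equiv e _ _ fun j => ?_
  simp [tGram, mul_assoc]

theorem adj_pull {X Y : Matrix (Fin m × Fin k) (Fin m × Fin k) F}
    (h : Xᵀ * tGram e P f = tGram e P f * Y) : adj f (pull e P X) = pull e P Y := by
  refine adj_unique hf fun u v => ?_
  have h' : (Matrix.reindex e.symm e.symm X)ᵀ * ((P : Mat n F)ᵀ * gramMatrix f * (P : Mat n F)) =
      ((P : Mat n F)ᵀ * gramMatrix f * (P : Mat n F)) * Matrix.reindex e.symm e.symm Y := by
    have h2 := congrArg (Matrix.reindexAlgEquiv F F e.symm) h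
    rw [map_mul, map_mul] at h2
    simpa [tGram, Matrix.transpose_submatrix] using h2
  have key : (pull e P X)ᵀ * gramMatrix f = gramMatrix f * pull e P Y := by
    have h3 := congrArg (fun M => ((P⁻¹ : GL (Fin n) F) : Mat n F)ᵀ * M *
      ((P⁻¹ : GL (Fin n) F) : Mat n F)) h'
    rw [pull_apply, pull_apply, Matrix.transpose_mul, Matrix.transpose_mul]
    have hPP : ((P⁻¹ : GL (Fin n) F) : Mat n F)ᵀ * (P : Mat n F)ᵀ = 1 := by
      rw [← Matrix.transpose_mul, Units.mul_inv, Matrix.transpose_one]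
    simp only [mul_assoc, Units.mul_inv, mul_one] at h3
    simp only [← mul_assoc, hPP, one_mul] at h3
    simp only [← mul_assoc]
    exact h3
  rw [form_apply hf, form_apply hf, ← Matrix.vecMul_transpose, ← Matrix.dotProduct_mulVec,
    Matrix.mulVec_mulVec, Matrix.mulVec_mulVec, key]

theorem pull_adj {X Y : Matrix (Fin m × Fin k) (Fin m × Fin k) F}
    (h : adj f (pull e P X) = pull e P Y) : Xᵀ * tGram e P f = tGram e P f * Y := by
  obtain ⟨Gu, hGu⟩ := tGram_unit e P hf
  have h2 := adj_pull e P hf (X := X)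
    (Y := ((Gu⁻¹ : (Matrix (Fin m × Fin k) (Fin m × Fin k) F)ˣ) :
      Matrix (Fin m × Fin k) (Fin m × Fin k) F) * Xᵀ * tGram e P f)
    (by rw [← hGu]; simp only [mul_assoc, Units.mul_inv_cancel_left])
  rw [h] at h2
  rw [pull_injective e P h2, ← hGu]
  simp only [mul_assoc, Units.mul_inv_cancel_left]

theorem isom_pull {g : GL (Fin n) F} (hg : g ∈ isomSubgroup f)
    {X : Matrix (Fin m × Fin k) (Fin m × Fin k) F} (hX : (g : Mat n F) = pull e P X) :
    Xᵀ * tGram e P f * X = tGram e P f := by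
  have h1 : IsUnit X := by
    have hdet : IsUnit (Matrix.reindex e.symm e.symm X).det := by
      have h := (Matrix.isUnit_iff_isUnit_det _).mp g.isUnit
      rw [hX, pull_apply, Matrix.det_mul, Matrix.det_mul] at h
      exact (IsUnit.mul_iff.mp (IsUnit.mul_iff.mp h).1).2
    rw [Matrix.det_reindex_self] at hdet
    exact (Matrix.isUnit_iff_isUnit_det _).mpr hdet
  obtain ⟨Xu, rfl⟩ := h1
  have hinv : ((g⁻¹ : GL (Fin n) F) : Mat n F) = pull e P ((Xu⁻¹ :
      (Matrix (Fin m × Fin k) (Fin m × Fin k) F)ˣ) : Matrix (Fin m × Fin k) (Fin m × Fin k) F) :=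
    Units.inv_eq_of_mul_eq_one_right (by rw [hX, ← map_mul, Units.mul_inv, map_one])
  have := pull_adj e P hf (X := (Xu : Matrix (Fin m × Fin k) (Fin m × Fin k) F))
    (Y := ((Xu⁻¹ : (Matrix (Fin m × Fin k) (Fin m × Fin k) F)ˣ) :
      Matrix (Fin m × Fin k) (Fin m × Fin k) F)) (by rw [← hX, adj_isom hf hg, hinv])
  rw [this, mul_assoc, Units.inv_mul, mul_one]

end CfsgLib.Classical.AschSp
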