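import Cfsg.Agent.Lib.Classical.AschGen.Maximal
import Cfsg.Agent.Lib.Classical.SympBasic

/-!
# Non-degenerate alternating forms given as functions: adjoints, perpendiculars, transvections
-/

set_option autoImplicit false
set_option linter.unusedSectionVars false

namespace CfsgLib.Classical.AschSp

open Matrix Cfsg Cfsg.Geo CfsgLib.Classical.AschPrime CfsgLib.Classical.AschGen
open scoped MatrixGroups

variable {F : Type*} [Field F] [Finite F] {n : ℕ}
variable {f : (Fin n → F) → (Fin n → F) → F}

/-- The isometry group of a two-argument form. -/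
def isomSubgroup (f : (Fin n → F) → (Fin n → F) → F) : Subgroup (GL (Fin n) F) where
  carrier := {g | ∀ u v, f ((g : Mat n F) *ᵥ u) ((g : Mat n F) *ᵥ v) = f u v}
  mul_mem' {a b} ha hb u v := by
    rw [Units.val_mul, ← Matrix.mulVec_mulVec, ← Matrix.mulVec_mulVec, ha, hb]
  one_mem' u v := by simp
  inv_mem' {a} ha u v := by
    have h := ha (((a⁻¹ : GL (Fin n) F) : Mat n F) *ᵥ u) (((a⁻¹ : GL (Fin n) F) : Mat n F) *ᵥ v)
    simpa [Matrix.mulVec_mulVec] using h.symm

theorem mem_isom {g : GL (Fin n) F} :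
    g ∈ isomSubgroup f ↔ ∀ u v, f ((g : Mat n F) *ᵥ u) ((g : Mat n F) *ᵥ v) = f u v := Iff.rfl

/-- The adjoint of a matrix for a bilinear form. -/
noncomputable def adj (f : (Fin n → F) → (Fin n → F) → F) (X : Mat n F) : Mat n F :=
  (gramMatrix f)⁻¹ * Xᵀ * gramMatrix f

section

variable (hf : IsSymplecticForm f)
include hf

theorem gram_unit : IsUnit (gramMatrix f) :=
  (isSesq_of_bilinear hf.bilinear).isUnit_gram hf.nondegenerate

theorem form_apply (u v : Fin n → F) : f u v = u ⬝ᵥ (gramMatrix f *ᵥ v) :=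
  (isSesq_of_bilinear hf.bilinear).apply u v

theorem gram_transpose : (gramMatrix f)ᵀ = -gramMatrix f := by
  ext i j
  exact hf.skew _ _

theorem adj_spec (X : Mat n F) (u v : Fin n → F) : f (X *ᵥ u) v = f u (adj f X *ᵥ v) := by
  rw [form_apply hf, form_apply hf, Matrix.mulVec_mulVec, adj, mul_assoc, ← mul_assoc (gramMatrix f),
    Matrix.mul_nonsing_inv _ ((Matrix.isUnit_iff_isUnit_det _).mp (gram_unit hf)), one_mul,
    ← Matrix.mulVec_mulVec, Matrix.dotProduct_mulVec u Xᵀ, Matrix.vecMul_transpose]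

theorem eq_of_form {v w : Fin n → F} (h : ∀ u, f u v = f u w) : v = w := by
  by_contra hne
  obtain ⟨x, hx⟩ := (hf.nondegenerate (v - w) (sub_ne_zero.mpr hne)).1
  refine hx ?_
  have := hf.bilinear.add_right x (v - w) w
  rw [sub_add_cancel, h] at this
  linear_combination -this

theorem adj_unique {X Y : Mat n F} (h : ∀ u v, f (X *ᵥ u) v = f u (Y *ᵥ v)) : adj f X = Y := by
  refine Matrix.ext_of_mulVec_single fun i => eq_of_form hf fun u => ?_
  rw [← adj_spec hf, h]

theorem adj_adj (X : Mat n F) : adj f (adj f X) = X :=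
  adj_unique hf fun u v => by rw [hf.skew, ← adj_spec hf, hf.skew, neg_neg]

theorem adj_mul (X Y : Mat n F) : adj f (X * Y) = adj f Y * adj f X :=
  adj_unique hf fun u v => by
    rw [← Matrix.mulVec_mulVec, adj_spec hf, adj_spec hf, Matrix.mulVec_mulVec]

theorem adj_add (X Y : Mat n F) : adj f (X + Y) = adj f X + adj f Y := by
  simp only [adj, Matrix.transpose_add, mul_add, add_mul]

theorem adj_smul_one (c : F) : adj f (c • (1 : Mat n F)) = c • 1 :=
  adj_unique hf fun u v => by
    simp only [Matrix.smul_mulVec, Matrix.one_mulVec, hf.bilinear.smul_left, hf.bilinear.smul_right]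

theorem adj_one : adj f (1 : Mat n F) = 1 := by simpa using adj_smul_one hf (1 : F)

theorem adj_zero : adj f (0 : Mat n F) = 0 := by simpa using adj_smul_one hf (0 : F)

theorem adj_smul (c : F) (X : Mat n F) : adj f (c • X) = c • adj f X := by
  simp only [adj, Matrix.transpose_smul, Matrix.mul_smul, Matrix.smul_mul]

/-- The adjoint of an isometry is its inverse. -/
theorem adj_isom {g : GL (Fin n) F} (hg : g ∈ isomSubgroup f) :
    adj f (g : Mat n F) = ((g⁻¹ : GL (Fin n) F) : Mat n F) :=
  adj_unique hf fun u v => by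
    conv_lhs => rw [show v = (g : Mat n F) *ᵥ (((g⁻¹ : GL (Fin n) F) : Mat n F) *ᵥ v) by
      simp [Matrix.mulVec_mulVec]]
    rw [hg]

theorem adj_conjHom {g : GL (Fin n) F} (hg : g ∈ isomSubgroup f) (X : Mat n F) :
    adj f (conjHom g X) = conjHom g (adj f X) := by
  rw [conjHom_apply, conjHom_apply, adj_mul hf, adj_mul hf, adj_isom hf hg,
    adj_isom hf ((isomSubgroup f).inv_mem hg), inv_inv, mul_assoc]

/-- The algebra of a group of isometries is closed under adjoints. -/
theorem adj_algOf {N : Subgroup (GL (Fin n) F)} (hN : N ≤ isomSubgroup f) {X : Mat n F}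
    (hX : X ∈ algOf N) : adj f X ∈ algOf N := by
  let S : Subalgebra F (Mat n F) :=
    { carrier := {X | adj f X ∈ algOf N}
      mul_mem' := fun {a b} (ha : _ ∈ _) (hb : _ ∈ _) => show adj f _ ∈ algOf N by
        rw [adj_mul hf]; exact (algOf N).mul_mem hb ha
      add_mem' := fun {a b} (ha : _ ∈ _) (hb : _ ∈ _) => show adj f _ ∈ algOf N by
        rw [adj_add hf]; exact (algOf N).add_mem ha hb
      algebraMap_mem' := fun c => show adj f _ ∈ algOf N by
        rw [one_smul_eq, adj_smul_one hf, ← one_smul_eq]; exact (algOf N).algebraMap_mem c }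
  have hle : algOf N ≤ S := Algebra.adjoin_le (by
    rintro _ ⟨x, hx, rfl⟩
    show adj f (x : Mat n F) ∈ algOf N
    rw [adj_isom hf (hN hx)]
    exact mem_algOf (N.inv_mem hx))
  exact hle hX

/-- The form as a bilinear map. -/
def bil : (Fin n → F) →ₗ[F] (Fin n → F) →ₗ[F] F :=
  LinearMap.mk₂ F f hf.bilinear.add_left hf.bilinear.smul_left hf.bilinear.add_right
    hf.bilinear.smul_right

theorem bil_apply (u v : Fin n → F) : bil hf u v = f u v := rfl

theorem bil_sepRight : (bil hf).SeparatingRight := fun v hv => by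
  by_contra h
  obtain ⟨x, hx⟩ := (hf.nondegenerate v h).1
  exact hx (hv x)

theorem nondegOn_iff' (W : Submodule F (Fin n → F)) :
    NondegOn (bil hf) W ↔ IsNondegenerateOn f W := by
  rw [nondegOn_iff]
  constructor
  · intro h w hw hw0
    obtain ⟨x, hx, hxw⟩ : ∃ x ∈ W, f x w ≠ 0 := by
      by_contra hno
      push Not at hno
      exact hw0 (h w hw hno)
    exact ⟨⟨x, hx, hxw⟩, x, hx, by rw [hf.skew]; exact neg_ne_zero.mpr hxw⟩
  · intro h x hx hall
    by_contra hx0
    obtain ⟨⟨y, hy, hyx⟩, -⟩ := h x hx hx0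
    exact hyx (hall y hy)

/-- The perpendicular subspace. -/
def fperp (W : Submodule F (Fin n → F)) : Submodule F (Fin n → F) := perp (bil hf) W

theorem mem_fperp {W : Submodule F (Fin n → F)} {x : Fin n → F} :
    x ∈ fperp hf W ↔ ∀ w ∈ W, f w x = 0 := mem_perp

theorem fperp_invariant {H : Subgroup (GL (Fin n) F)} (hH : H ≤ isomSubgroup f)
    {W : Submodule F (Fin n → F)} (hW : ∀ g ∈ H, ∀ v ∈ W, (g : Mat n F) *ᵥ v ∈ W) :
    ∀ g ∈ H, ∀ v ∈ fperp hf W, (g : Mat n F) *ᵥ v ∈ fperp hf W := by
  intro g hg v hv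
  rw [mem_fperp] at hv ⊢
  intro w hw
  have h := hv _ (hW g⁻¹ (H.inv_mem hg) w hw)
  have := hH hg (((g⁻¹ : GL (Fin n) F) : Mat n F) *ᵥ w) v
  rw [h, Matrix.mulVec_mulVec, ← Units.val_mul, mul_inv_cancel, Units.val_one, Matrix.one_mulVec] at this
  exact this

theorem finrank_add_fperp {W : Submodule F (Fin n → F)} (h : IsNondegenerateOn f W) :
    Module.finrank F W + Module.finrank F (fperp hf W) = n := by
  have := ((nondegOn_iff' hf W).mpr h).finrank_perp
  rwa [Module.finrank_fintype_fun_eq_card, Fintype.card_fin] at this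

theorem isCompl_fperp {W : Submodule F (Fin n → F)} (h : IsNondegenerateOn f W) :
    IsCompl W (fperp hf W) := ((nondegOn_iff' hf W).mpr h).isCompl

theorem nondeg_fperp {W : Submodule F (Fin n → F)} (h : IsNondegenerateOn f W) :
    IsNondegenerateOn f (fperp hf W) :=
  (nondegOn_iff' hf _).mp (nondegOn_perp (bil_sepRight hf) ((nondegOn_iff' hf W).mpr h))

theorem ts_finrank {W : Submodule F (Fin n → F)} (hW : IsTotallySingularFor f W) :
    2 * Module.finrank F W ≤ n := by
  classical
  let b := Module.finBasis F W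
  let T : (Fin n → F) →ₗ[F] (Fin (Module.finrank F W) → F) :=
    LinearMap.pi fun i => bil hf (b i : Fin n → F)
  have hker : W ≤ LinearMap.ker T := fun x hx => by
    rw [LinearMap.mem_ker]; funext i; exact hW _ (b i).2 _ hx
  have hsurj : Function.Surjective T := by
    rw [← LinearMap.dualMap_injective_iff, ← LinearMap.ker_eq_bot, eq_bot_iff]
    intro φ hφ
    rw [Submodule.mem_bot]
    have hsum : ∀ x, f (∑ i, φ (Pi.single i 1) • (b i : Fin n → F)) x = φ (T x) := fun x => by
      rw [← bil_apply hf, map_sum, LinearMap.sum_apply]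
      conv_rhs => rw [pi_eq_sum_univ' (T x), map_sum]
      refine Finset.sum_congr rfl fun i _ => ?_
      rw [map_smul, map_smul, LinearMap.smul_apply, smul_eq_mul, smul_eq_mul, mul_comm]
      rfl
    have h0 : (∑ i, φ (Pi.single i 1) • b i : W) = 0 := by
      by_contra hne
      obtain ⟨x, hx⟩ := (hf.nondegenerate _ (fun e => hne (Subtype.ext e))).2
      refine hx ?_
      rw [AddSubmonoidClass.coe_finset_sum]
      simp only [Submodule.coe_smul]
      rw [hsum]
      exact LinearMap.congr_fun (LinearMap.mem_ker.mp hφ) x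
    have := Fintype.linearIndependent_iff.mp b.linearIndependent _ h0
    ext i
    simpa using this i
  have h1 := LinearMap.finrank_range_add_finrank_ker T
  rw [LinearMap.range_eq_top.mpr hsurj, finrank_top, Module.finrank_fintype_fun_eq_card,
    Module.finrank_fintype_fun_eq_card, Fintype.card_fin, Fintype.card_fin] at h1
  have h2 := Submodule.finrank_mono hker
  omega

theorem nondeg_finrank_even {W : Submodule F (Fin n → F)} (hW : IsNondegenerateOn f W) :
    Even (Module.finrank F W) := by
  classical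
  by_contra hodd
  rw [Nat.not_even_iff_odd] at hodd
  let b := Module.finBasis F W
  let M : Mat (Module.finrank F W) F := Matrix.of fun i j => f (b i) (b j)
  have hdet : M.det = 0 :=
    det_alternating hodd (fun i j => hf.skew _ _) fun i => hf.alternating _
  obtain ⟨c, hc0, hc⟩ := Matrix.exists_mulVec_eq_zero_iff.mpr hdet
  have hne : (∑ j, c j • b j : W) ≠ 0 := fun h =>
    hc0 (funext (Fintype.linearIndependent_iff.mp b.linearIndependent c h))
  obtain ⟨⟨x, hx, hxw⟩, -⟩ := hW _ (∑ j, c j • b j : W).2 fun h => hne (Subtype.ext h)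
  refine hxw ?_
  have hb : ∀ i, f (b i) (∑ j, c j • b j : W) = 0 := fun i => by
    rw [AddSubmonoidClass.coe_finset_sum, ← bil_apply hf, map_sum]
    have := congrFun hc i
    simp only [Matrix.mulVec, dotProduct, Pi.zero_apply] at this
    rw [← this]
    refine Finset.sum_congr rfl fun j _ => ?_
    rw [Submodule.coe_smul, map_smul, smul_eq_mul, mul_comm]
    rfl
  have hx' : (⟨x, hx⟩ : W) = ∑ i, b.repr ⟨x, hx⟩ i • b i := (b.sum_repr _).symm
  rw [show x = ((⟨x, hx⟩ : W) : Fin n → F) from rfl, hx', AddSubmonoidClass.coe_finset_sum,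
    ← bil_apply hf, map_sum, LinearMap.sum_apply]
  refine Finset.sum_eq_zero fun i _ => ?_
  rw [Submodule.coe_smul, map_smul, LinearMap.smul_apply, bil_apply hf, hb, smul_zero]

/-- A transvection. -/
def tvGL (v : Fin n → F) (c : F) : GL (Fin n) F where
  val := 1 + c • Matrix.vecMulVec v (gramMatrix f *ᵥ v)
  inv := 1 - c • Matrix.vecMulVec v (gramMatrix f *ᵥ v)
  val_inv := by
    have h : Matrix.vecMulVec v (gramMatrix f *ᵥ v) * Matrix.vecMulVec v (gramMatrix f *ᵥ v) = 0 := by
      rw [Matrix.vecMulVec_mul_vecMulVec]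
      rw [show (gramMatrix f *ᵥ v) ⬝ᵥ v = 0 by rw [dotProduct_comm, ← form_apply hf, hf.alternating]]
      simp
    simp [mul_sub, add_mul, h]
  inv_val := by
    have h : Matrix.vecMulVec v (gramMatrix f *ᵥ v) * Matrix.vecMulVec v (gramMatrix f *ᵥ v) = 0 := by
      rw [Matrix.vecMulVec_mul_vecMulVec]
      rw [show (gramMatrix f *ᵥ v) ⬝ᵥ v = 0 by rw [dotProduct_comm, ← form_apply hf, hf.alternating]]
      simp
    simp [sub_mul, mul_add, h]

theorem tvGL_apply (v : Fin n → F) (c : F) (x : Fin n → F) :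
    (tvGL hf v c : Mat n F) *ᵥ x = x + (c * f x v) • v := by
  show (1 + c • Matrix.vecMulVec v (gramMatrix f *ᵥ v)) *ᵥ x = _
  rw [Matrix.add_mulVec, Matrix.one_mulVec, Matrix.smul_mulVec, Matrix.vecMulVec_mulVec,
    op_smul_eq_smul, smul_smul, dotProduct_comm, ← form_apply hf]

theorem tvGL_mem (v : Fin n → F) (c : F) : tvGL hf v c ∈ isomSubgroup f := fun x y => by
  rw [tvGL_apply, tvGL_apply, hf.bilinear.add_left, hf.bilinear.add_right, hf.bilinear.add_right,
    hf.bilinear.smul_left, hf.bilinear.smul_left, hf.bilinear.smul_right, hf.bilinear.smul_right,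
    hf.alternating, hf.skew v y]
  ring

end

end CfsgLib.Classical.AschSp
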