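import Cfsg.Agent.Lib.Classical.AschSp.Field

/-!
# A normalised subalgebra, closed under adjoints, with non-scalar centre
-/

set_option autoImplicit false
set_option linter.unusedSectionVars false

namespace CfsgLib.Classical.AschSp

open Matrix Cfsg Cfsg.Geo CfsgLib.Classical.AschPrime CfsgLib.Classical.AschGen
open scoped MatrixGroups

variable {F : Type*} [Field F] [Fintype F] {n : ℕ}
variable {f : (Fin n → F) → (Fin n → F) → F}

/-- The group fixes a quadratic form polarising to the form, in characteristic two. -/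
def QuadCase (f : (Fin n → F) → (Fin n → F) → F) (H : Subgroup (GL (Fin n) F)) : Prop :=
  ¬ Odd (Fintype.card F) ∧ ∃ Q : (Fin n → F) → F, IsNondegenerateQuadraticForm Q ∧
    (∀ u v, QuadraticMap.polar Q u v = f u v) ∧ FixesQuadForm (matrixSet H) Q

/-- The classes coming from a non-scalar centre. -/
def CentreCases (f : (Fin n → F) → (Fin n → F) → F) (H : Subgroup (GL (Fin n) F)) : Prop :=
  (∃ (t k : ℕ) (D : Fin t → Submodule F (Fin n → F)), IsNondegenerateMDecomposition f k D ∧
      H ≤ decompositionStabilizer D) ∨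
  (Odd (Fintype.card F) ∧ ∃ (k : ℕ) (D : Fin 2 → Submodule F (Fin n → F)), IsMDecomposition k D ∧
      (∀ i, IsTotallySingularFor f (D i)) ∧ 2 * k = n ∧ H ≤ decompositionStabilizer D) ∨
  (∃ (r : ℕ) (K : Subalgebra F (Mat n F)), r.Prime ∧ IsFieldSubalgebra r K ∧ IsSelfAdjointFor f K ∧
      (∀ k ∈ K, ∀ v, f (k *ᵥ v) v = 0) ∧ H ≤ subalgebraNormalizer K) ∨
  (Odd (Fintype.card F) ∧ ∃ K : Subalgebra F (Mat n F), IsFieldSubalgebra 2 K ∧
      IsAdjointClosedFor f K ∧ ¬ IsSelfAdjointFor f K ∧ H ≤ subalgebraNormalizer K) ∨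
  QuadCase f H

theorem two_eq_zero_of_not_odd (h : ¬ Odd (Fintype.card F)) : (2 : F) = 0 := by
  by_contra h2
  exact h (odd_card_of_two_ne_zero h2)

theorem exists_primitive {Z : Subalgebra F (Mat n F)} (hcomm : ∀ x ∈ Z, ∀ y ∈ Z, x * y = y * x)
    {S : Finset (Mat n F)}
    (hS : ∀ e, e ∈ S ↔ e ∈ Z ∧ e * e = e ∧ e ≠ 0) {e : Mat n F} (he : e ∈ S) :
    ∃ a ∈ S, (∀ g ∈ S, g * a = g → g = a) ∧ a * e = a := by
  classical
  obtain ⟨a, ha, hmin⟩ := Finset.exists_min_image (S.filter fun a => a * e = a)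
    (fun a => (S.filter fun g => g * a = g).card) ⟨e, by simp [he, ((hS e).mp he).2.1]⟩
  rw [Finset.mem_filter] at ha
  refine ⟨a, ha.1, fun g hg hga => ?_, ha.2⟩
  by_contra hne
  have hge : g * e = g := by rw [← hga, mul_assoc, ha.2]
  have hsub : (S.filter fun x => x * g = x) ⊆ S.filter fun x => x * a = x := fun x hx => by
    rw [Finset.mem_filter] at hx ⊢
    exact ⟨hx.1, by rw [← hx.2, mul_assoc, hga]⟩
  have hlt := (hmin g (Finset.mem_filter.mpr ⟨hg, hge⟩))
  have heq := Finset.eq_of_subset_of_card_le hsub hlt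
  have hag : a ∈ S.filter fun x => x * g = x :=
    heq.symm ▸ Finset.mem_filter.mpr ⟨ha.1, ((hS a).mp ha.1).2.1⟩
  obtain ⟨-, h⟩ := Finset.mem_filter.mp hag
  refine hne ?_
  rw [← hga, hcomm g ((hS g).mp hg).1 a ((hS a).mp ha.1).1, h]

/-- The analysis of a normalised subalgebra, closed under adjoints, whose centre is not scalar. -/
theorem centre_cases (hf : IsSymplecticForm f) (hn : 0 < n) {H : Subgroup (GL (Fin n) F)}
    (hH : H ≤ isomSubgroup f) (hirr : ActsIrreducibly (matrixSet H)) {A : Subalgebra F (Mat n F)}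
    (hA : NormalisedBy A H) (hadjA : ∀ x ∈ A, adj f x ∈ A)
    (hsc : ∃ z ∈ centre A, ∀ c : F, z ≠ c • 1) : CentreCases f H := by
  classical
  haveI := isSemisimple hirr hA
  set Z := centre A with hZdef
  have hZc : ∀ x ∈ Z, ∀ y ∈ Z, x * y = y * x := centre_comm
  have hZn : NormalisedBy Z H := centre_normalised hA
  have hZa : ∀ x ∈ Z, adj f x ∈ Z := fun x hx => by
    rw [hZdef, mem_centre] at hx ⊢
    refine ⟨hadjA x hx.1, fun a ha => ?_⟩
    have h := congrArg (adj f) (hx.2 _ (hadjA a ha))
    rw [adj_mul hf, adj_mul hf, adj_adj hf] at h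
    exact h.symm
  by_cases hidem : ∃ e ∈ Z, e * e = e ∧ e ≠ 0 ∧ e ≠ 1
  · -- the primitive idempotents
    obtain ⟨e₀, he₀, hee, he0, he1⟩ := hidem
    let S : Finset (Mat n F) := (Set.toFinite {e : Mat n F | e ∈ Z ∧ e * e = e ∧ e ≠ 0}).toFinset
    have hS : ∀ e, e ∈ S ↔ e ∈ Z ∧ e * e = e ∧ e ≠ 0 := fun e => Set.Finite.mem_toFinset _
    set T := S.filter fun a => ∀ g ∈ S, g * a = g → g = a with hTdef
    have hTS : ∀ {e}, e ∈ T → e ∈ S := fun h => (Finset.mem_filter.mp h).1
    have hidemT : ∀ e ∈ T, e * e = e := fun e he => ((hS e).mp (hTS he)).2.1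
    have hneT : ∀ e ∈ T, e ≠ 0 := fun e he => ((hS e).mp (hTS he)).2.2
    have hZT : ∀ e ∈ T, e ∈ Z := fun e he => ((hS e).mp (hTS he)).1
    have horth : ∀ a ∈ T, ∀ b ∈ T, a ≠ b → a * b = 0 := by
      intro a ha b hb hab
      by_contra h0
      obtain ⟨haZ, haa, -⟩ := (hS a).mp (hTS ha)
      obtain ⟨hbZ, hbb, -⟩ := (hS b).mp (hTS hb)
      have hab' : a * b * (a * b) = a * b := by
        rw [mul_assoc, ← mul_assoc b, hZc b hbZ a haZ, mul_assoc a b b, hbb, ← mul_assoc, haa]
      have hmem : a * b ∈ S := (hS _).mpr ⟨Z.mul_mem haZ hbZ, hab', h0⟩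
      have h1 := (Finset.mem_filter.mp ha).2 _ hmem (by
        rw [mul_assoc, hZc b hbZ a haZ, ← mul_assoc, haa])
      have h2 := (Finset.mem_filter.mp hb).2 _ hmem (by rw [mul_assoc, hbb])
      exact hab (h1.symm.trans h2)
    have hsum : ∑ e ∈ T, e = 1 := by
      by_contra hne
      have hsq := sum_idem hidemT horth (Finset.Subset.refl T)
      have hc : (1 - ∑ e ∈ T, e) * (1 - ∑ e ∈ T, e) = 1 - ∑ e ∈ T, e := by
        rw [sub_mul, one_mul, mul_sub, mul_one, hsq, sub_self, sub_zero]
      obtain ⟨a, haS, hamin, hae⟩ := exists_primitive hZc hS ((hS _).mpr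
        ⟨Z.sub_mem Z.one_mem (sum_mem fun e he => hZT e he), hc, sub_ne_zero.mpr (Ne.symm hne)⟩)
      have ha : a ∈ T := Finset.mem_filter.mpr ⟨haS, hamin⟩
      rw [mul_sub, mul_one, Finset.mul_sum,
        Finset.sum_eq_single a (fun b hb hba => horth a ha b hb hba.symm) (fun h => absurd ha h),
        hidemT a ha, sub_self] at hae
      exact hneT a ha hae.symm
    have hstabS : ∀ g ∈ H, ∀ e ∈ S, conjHom g e ∈ S := by
      intro g hg e he
      obtain ⟨h1, h2, h3⟩ := (hS e).mp he
      exact (hS _).mpr ⟨hZn g hg e h1, by rw [← map_mul, h2],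
        fun h => h3 (conjHom_injective g (h.trans (map_zero _).symm))⟩
    have hstab : ∀ g ∈ H, ∀ e ∈ T, conjHom g e ∈ T := by
      intro g hg e he
      refine Finset.mem_filter.mpr ⟨hstabS g hg e (hTS he), fun x hx hxe => ?_⟩
      have h := (Finset.mem_filter.mp he).2 _ (hstabS g⁻¹ (H.inv_mem hg) x hx) (by
        refine conjHom_injective g ?_
        rw [map_mul, conj_inv_cancel, hxe])
      rw [← h, conj_inv_cancel]
    have hadjS : ∀ e ∈ S, adj f e ∈ S := by
      intro e he
      obtain ⟨h1, h2, h3⟩ := (hS e).mp he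
      exact (hS _).mpr ⟨hZa e h1, by rw [← adj_mul hf, h2],
        fun h => h3 (by rw [← adj_adj hf e, h, adj_zero hf])⟩
    have hadjT : ∀ e ∈ T, adj f e ∈ T := by
      intro e he
      refine Finset.mem_filter.mpr ⟨hadjS e (hTS he), fun x hx hxe => ?_⟩
      have hxZ := ((hS x).mp hx).1
      have h := (Finset.mem_filter.mp he).2 _ (hadjS x hx) (by
        have := congrArg (adj f) hxe
        rw [adj_mul hf, adj_adj hf] at this
        rw [hZc _ (hZa x hxZ) _ (hZT e he), this])
      rw [← h, adj_adj hf]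
    have hT2 : 2 ≤ T.card := by
      by_contra hlt
      push Not at hlt
      obtain ⟨a, haS, hamin, hae⟩ := exists_primitive hZc hS ((hS e₀).mpr ⟨he₀, hee, he0⟩)
      have ha : a ∈ T := Finset.mem_filter.mpr ⟨haS, hamin⟩
      have hTa : T = {a} := Finset.eq_singleton_iff_unique_mem.mpr
        ⟨ha, fun b hb => Finset.card_le_one.mp (by omega) b hb a ha⟩
      rw [hTa, Finset.sum_singleton] at hsum
      rw [hsum, one_mul] at hae
      exact he1 hae
    -- all fixed, or none fixed
    by_cases hall : ∀ e ∈ T, adj f e = e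
    · exact .inl (decomp_of_orthogonal hf hirr hT2 hidemT hneT hall horth hsum hstab)
    have hmove : ∀ e ∈ T, adj f e ≠ e := by
      intro e he hfix
      refine hall fun x hx => ?_
      have h := stable_subset hirr hidemT hneT horth (T := T.filter fun x => adj f x = x)
        (Finset.filter_subset _ _) (fun g hg x hx => by
          rw [Finset.mem_filter] at hx ⊢
          exact ⟨hstab g hg x hx.1, by rw [adj_conjHom hf (hH hg), hx.2]⟩)
        ⟨e, Finset.mem_filter.mpr ⟨he, hfix⟩⟩
      exact (Finset.mem_filter.mp (h.symm ▸ hx : x ∈ T.filter fun x => adj f x = x)).2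
    set S' := T.image fun e => e + adj f e with hS'
    have horth' : ∀ e ∈ T, e * adj f e = 0 := fun e he =>
      horth e he _ (hadjT e he) (hmove e he).symm
    have hidem' : ∀ x ∈ S', x * x = x := by
      intro x hx
      obtain ⟨e, he, rfl⟩ := Finset.mem_image.mp hx
      rw [add_mul, mul_add, mul_add, hidemT e he, hidemT _ (hadjT e he), horth' e he,
        hZc _ (hZT _ (hadjT e he)) _ (hZT e he), horth' e he, add_zero, zero_add]
    have hself' : ∀ x ∈ S', adj f x = x := by
      intro x hx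
      obtain ⟨e, he, rfl⟩ := Finset.mem_image.mp hx
      rw [adj_add hf, adj_adj hf, add_comm]
    have hne' : ∀ x ∈ S', x ≠ 0 := by
      intro x hx h0
      obtain ⟨e, he, rfl⟩ := Finset.mem_image.mp hx
      have h := congrArg (fun z => e * z) h0
      simp only [mul_add, hidemT e he, horth' e he, add_zero, mul_zero] at h
      exact hneT e he h
    have horthS' : ∀ a ∈ S', ∀ b ∈ S', a ≠ b → a * b = 0 := by
      intro x hx y hy hxy
      obtain ⟨a, ha, rfl⟩ := Finset.mem_image.mp hx
      obtain ⟨b, hb, rfl⟩ := Finset.mem_image.mp hy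
      have h1 : a ≠ b := fun h => hxy (by rw [h])
      have h2 : a ≠ adj f b := fun h => hxy (by rw [h, adj_adj hf, add_comm])
      have h3 : adj f a ≠ b := fun h => hxy (by rw [← h, adj_adj hf, add_comm])
      have h4 : adj f a ≠ adj f b := fun h => h1 (by rw [← adj_adj hf a, h, adj_adj hf])
      rw [add_mul, mul_add, mul_add, horth a ha b hb h1, horth a ha _ (hadjT b hb) h2,
        horth _ (hadjT a ha) b hb h3, horth _ (hadjT a ha) _ (hadjT b hb) h4]
      simp
    have hstab' : ∀ g ∈ H, ∀ x ∈ S', conjHom g x ∈ S' := by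
      intro g hg x hx
      obtain ⟨e, he, rfl⟩ := Finset.mem_image.mp hx
      exact Finset.mem_image.mpr ⟨_, hstab g hg e he, by rw [map_add, adj_conjHom hf (hH hg)]⟩
    have hsum' : ∑ x ∈ S', x = 1 := by
      have hsq := sum_idem hidem' horthS' (Finset.Subset.refl S')
      have hcomp : ∀ e ∈ T, e * (∑ x ∈ S', x) = e := by
        intro e he
        have hmem : e + adj f e ∈ S' := Finset.mem_image_of_mem _ he
        rw [Finset.mul_sum, Finset.sum_eq_single _ (fun y hy hne => ?_) (fun h => absurd hmem h),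
          mul_add, hidemT e he, horth' e he, add_zero]
        have h := horthS' _ hmem y hy hne.symm
        have := congrArg (fun z => e * z) h
        simp only [← mul_assoc, mul_add, hidemT e he, horth' e he, add_zero, mul_zero] at this
        exact this
      rw [← one_mul (∑ x ∈ S', x), ← hsum, Finset.sum_mul]
      exact Finset.sum_congr rfl hcomp
    by_cases hS2 : 2 ≤ S'.card
    · exact .inl (decomp_of_orthogonal hf hirr hS2 hidem' hne' hself' horthS' hsum' hstab')
    obtain ⟨e, he⟩ : T.Nonempty := Finset.card_pos.mp (by omega)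
    have hone : e + adj f e = 1 := by
      have hmem : e + adj f e ∈ S' := Finset.mem_image_of_mem _ he
      rw [← hsum', Finset.eq_singleton_iff_unique_mem.mpr ⟨hmem,
        fun y hy => (Finset.card_le_one.mp (by omega : S'.card ≤ 1)) y hy _ hmem⟩,
        Finset.sum_singleton]
    have hT : ∀ x ∈ T, x = e ∨ x = adj f e := by
      intro x hx
      by_contra hne
      push Not at hne
      refine hneT x hx ?_
      rw [← mul_one x, ← hone, mul_add, horth x hx e he hne.1, horth x hx _ (hadjT e he) hne.2,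
        add_zero]
    have hconj : ∀ g ∈ H, conjHom g e = e ∨ conjHom g e = adj f e := fun g hg =>
      hT _ (hstab g hg e he)
    by_cases hodd : Odd (Fintype.card F)
    swap
    · exact .inr (.inr (.inr (.inr ⟨hodd, quad_of_split hf (two_eq_zero_of_not_odd hodd) hH hone hconj⟩)))
    set E : Fin 2 → Mat n F := ![e, adj f e] with hE
    have hidemE : ∀ i, E i * E i = E i := Fin.forall_fin_two.mpr
      ⟨hidemT e he, hidemT _ (hadjT e he)⟩
    have hadjE : ∀ i, adj f (E i) * E i = 0 := Fin.forall_fin_two.mpr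
      ⟨show adj f e * e = 0 by rw [hZc _ (hZT _ (hadjT e he)) _ (hZT e he), horth' e he],
       show adj f (adj f e) * adj f e = 0 by rw [adj_adj hf, horth' e he]⟩
    have hts : ∀ i, IsTotallySingularFor f (eRange (E i)) := fun i u hu v hv => by
      rw [← (mem_eRange (hidemE i)).mp hu, ← (mem_eRange (hidemE i)).mp hv, adj_spec hf,
        Matrix.mulVec_mulVec, hadjE i, Matrix.zero_mulVec]
      exact (bil hf u).map_zero
    obtain ⟨hind, htop⟩ := idem_indep (E := E) hidemE
      (fun i j hij => by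
        fin_cases i <;> fin_cases j
        · exact absurd rfl hij
        · exact horth' e he
        · show adj f e * e = 0
          rw [hZc _ (hZT _ (hadjT e he)) _ (hZT e he), horth' e he]
        · exact absurd rfl hij)
      (by rw [Fin.sum_univ_two]; exact hone)
    have hsumdim : Module.finrank F (eRange (E 0)) + Module.finrank F (eRange (E 1)) = n := by
      have hc : IsCompl (eRange (E 0)) (eRange (E 1)) := by
        refine IsCompl.of_eq (disjoint_iff.mp (hind.pairwiseDisjoint (by decide : (0 : Fin 2) ≠ 1))) ?_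
        rw [eq_top_iff, ← htop]
        exact iSup_le (Fin.forall_fin_two.mpr ⟨le_sup_left, le_sup_right⟩)
      simpa [Module.finrank_fintype_fun_eq_card] using Submodule.finrank_add_eq_of_isCompl hc
    have h0 := ts_finrank hf (hts 0)
    have h1 := ts_finrank hf (hts 1)
    refine .inr (.inl ⟨hodd, Module.finrank F (eRange (E 0)), fun i => eRange (E i),
      ⟨le_rfl, by omega, Fin.forall_fin_two.mpr ⟨rfl, by omega⟩, hind, htop⟩, hts, by omega,
      fun g hg => ?_⟩)
    rcases hconj g hg with h | h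
    · exact ⟨1, Fin.forall_fin_two.mpr ⟨map_eRange (hidemE 0) h,
        map_eRange (hidemE 1) (show conjHom g (adj f e) = adj f e by
          rw [← adj_conjHom hf (hH hg), h])⟩⟩
    · exact ⟨Equiv.swap 0 1, Fin.forall_fin_two.mpr
        ⟨by rw [Equiv.swap_apply_left]; exact map_eRange (hidemE 0) h,
         by
          rw [Equiv.swap_apply_right]
          exact map_eRange (hidemE 1)
            (show conjHom g (adj f e) = e by rw [← adj_conjHom hf (hH hg), h, adj_adj hf])⟩⟩
  -- a field
  push Not at hidem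
  have hinv : ∀ x ∈ Z, x ≠ 0 → ∃ y ∈ Z, x * y = 1 := by
    intro x hx hx0
    haveI : Finite Z := Subtype.finite
    obtain ⟨k, hk, hid⟩ := exists_idempotent (⟨x, hx⟩ : Z)
    have hid' : x ^ k * x ^ k = x ^ k := by simpa using congrArg Subtype.val hid
    have h1 : x ^ k = 1 := hidem _ (Z.pow_mem hx k) hid' fun h => hx0 (centre_reduced hx h)
    exact ⟨x ^ (k - 1), Z.pow_mem hx _, by rw [← pow_succ', Nat.sub_add_cancel hk, h1]⟩
  rcases field_dichotomy hf hn hH hZn hZc hinv hZa hsc with h | ⟨K, hK, hc, hns, hle, hsplit⟩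
  · exact .inr (.inr (.inl h))
  by_cases hodd : Odd (Fintype.card F)
  · exact .inr (.inr (.inr (.inl ⟨hodd, K, hK, hc, hns, hle⟩)))
  obtain ⟨k, hk, hconj⟩ := hsplit (two_eq_zero_of_not_odd hodd)
  exact .inr (.inr (.inr (.inr ⟨hodd, quad_of_split hf (two_eq_zero_of_not_odd hodd) hH hk hconj⟩)))

end CfsgLib.Classical.AschSp
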