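import Cfsg.Agent.Lib.Classical.AschSp.Centre

/-!
# Over the field of two elements an orthogonal sum of planes carries an invariant quadratic form
-/

set_option autoImplicit false
set_option linter.unusedSectionVars false

namespace CfsgLib.Classical.AschSp

open Matrix Cfsg Cfsg.Geo CfsgLib.Classical.AschPrime CfsgLib.Classical.AschGen
open scoped MatrixGroups

variable {F : Type*} [Field F] [Fintype F] {n : ℕ}
variable {f : (Fin n → F) → (Fin n → F) → F}

theorem zero_or_one (hq : Fintype.card F = 2) (c : F) : c = 0 ∨ c = 1 := by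
  classical
  have h : ({0, 1} : Finset F) = Finset.univ :=
    Finset.eq_univ_of_card _ (by rw [Finset.card_pair zero_ne_one, hq])
  have hc := Finset.mem_univ c
  rw [← h] at hc
  simpa using hc

/-- In a non-degenerate plane over the field of two elements two distinct non-zero vectors pair to one. -/
theorem plane_pair (hf : IsSymplecticForm f) (hq : Fintype.card F = 2)
    {W : Submodule F (Fin n → F)} (hnd : IsNondegenerateOn f W) (hW : Module.finrank F W = 2)
    {a b : Fin n → F} (ha : a ∈ W) (hb : b ∈ W) (ha0 : a ≠ 0) (hb0 : b ≠ 0) (hab : a ≠ b) :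
    f a b = 1 := by
  refine (zero_or_one hq _).resolve_left fun h0 => ?_
  have hli : LinearIndependent F ![a, b] := by
    rw [LinearIndependent.pair_iff]
    intro s t h
    rcases zero_or_one hq s with rfl | rfl <;> rcases zero_or_one hq t with rfl | rfl
    · exact ⟨rfl, rfl⟩
    · simp [hb0] at h
    · simp [ha0] at h
    · exfalso
      have h2 : (1 : F) + 1 = 0 := by
        rcases zero_or_one hq (1 + 1) with h2 | h2
        · exact h2
        · exact absurd (add_eq_left.mp h2) one_ne_zero
      have hba : a + a = 0 := by rw [← two_smul F a, show (2 : F) = 1 + 1 from by norm_num, h2, zero_smul]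
      rw [one_smul, one_smul, ← hba] at h
      exact hab (add_left_cancel h).symm
  have hspan : Submodule.span F (Set.range ![a, b]) = W :=
    Submodule.eq_of_le_of_finrank_eq (Submodule.span_le.mpr (by
      rintro _ ⟨i, rfl⟩
      fin_cases i <;> assumption))
      (by rw [finrank_span_eq_card hli, Fintype.card_fin, hW])
  obtain ⟨⟨x, hx, hxa⟩, -⟩ := hnd a ha ha0
  rw [← hspan, Matrix.range_cons, Matrix.range_cons, Matrix.range_empty, Set.union_empty,
    Set.singleton_union, Submodule.mem_span_pair] at hx
  obtain ⟨s, t, rfl⟩ := hx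
  rw [hf.bilinear.add_left, hf.bilinear.smul_left, hf.bilinear.smul_left, hf.alternating,
    hf.skew b a, h0] at hxa
  exact hxa (by ring)

/-- An orthogonal decomposition into planes over the field of two elements: the group fixes the
quadratic form counting the non-zero components. -/
theorem quad_of_planes (hf : IsSymplecticForm f) (hq : Fintype.card F = 2)
    {H : Subgroup (GL (Fin n) F)} (hH : H ≤ isomSubgroup f) {t : ℕ}
    {D : Fin t → Submodule F (Fin n → F)} (hD : IsNondegenerateMDecomposition f 2 D)
    (hle : H ≤ decompositionStabilizer D) : QuadCase f H := by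
  classical
  let ind : Fin t → (Fin n → F) → F := fun i v => if ∃ u ∈ D i, f u v ≠ 0 then 1 else 0
  let Q : (Fin n → F) → F := fun v => ∑ i, ind i v
  have hsplit : ∀ v : Fin n → F, ∃ μ : ∀ i, D i, ∑ i, (μ i : Fin n → F) = v := fun v => by
    have hv : v ∈ ⨆ i ∈ (Finset.univ : Finset (Fin t)), D i := by
      simp only [Finset.mem_univ, iSup_pos, hD.decomp.iSup_eq_top, Submodule.mem_top]
    exact (Submodule.mem_iSup_finset_iff_exists_sum D v).mp hv
  have hproj : ∀ (μ : ∀ i, D i) (i : Fin t), ∀ u ∈ D i,
      f u (∑ j, (μ j : Fin n → F)) = f u (μ i) := fun μ i u hu => by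
    rw [← bil_apply hf, map_sum]
    exact Finset.sum_eq_single i (fun j _ hj => hD.orthogonal i j (Ne.symm hj) u hu _ (μ j).2)
      fun h => absurd (Finset.mem_univ i) h
  have hind : ∀ (μ : ∀ i, D i) (i : Fin t),
      ind i (∑ j, (μ j : Fin n → F)) = if (μ i : Fin n → F) = 0 then 0 else 1 := fun μ i => by
    by_cases h : (μ i : Fin n → F) = 0
    · rw [if_pos h]
      refine if_neg ?_
      rintro ⟨u, hu, hne⟩
      rw [hproj μ i u hu, h, ← bil_apply hf, map_zero] at hne
      exact hne rfl
    · rw [if_neg h]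
      obtain ⟨⟨u, hu, hne⟩, -⟩ := hD.nondegenerate i _ (μ i).2 h
      exact if_pos ⟨u, hu, by rw [hproj μ i u hu]; exact hne⟩
  have h11 : (1 : F) + 1 = 0 := by
    rcases zero_or_one hq (1 + 1) with h2 | h2
    · exact h2
    · exact absurd (add_eq_left.mp h2) one_ne_zero
  have hneg : ∀ c : F, -c = c := fun c => by
    rw [neg_eq_iff_add_eq_zero, ← two_mul, show (2 : F) = 1 + 1 from by norm_num, h11, zero_mul]
  have hpolar : ∀ u v, QuadraticMap.polar Q u v = f u v := by
    intro u v
    obtain ⟨μ, rfl⟩ := hsplit u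
    obtain ⟨ν, rfl⟩ := hsplit v
    have hsum : ∑ j, (μ j : Fin n → F) + ∑ j, (ν j : Fin n → F) =
        ∑ j, ((μ j + ν j : D j) : Fin n → F) := by
      rw [← Finset.sum_add_distrib]; rfl
    have hf' : f (∑ j, (μ j : Fin n → F)) (∑ j, (ν j : Fin n → F)) =
        ∑ i, f (μ i) (ν i) := by
      rw [← bil_apply hf, LinearMap.map_sum₂]
      exact Finset.sum_congr rfl fun i _ => hproj ν i _ (μ i).2
    simp only [QuadraticMap.polar, Q]
    rw [hf', hsum, ← Finset.sum_sub_distrib, ← Finset.sum_sub_distrib]
    refine Finset.sum_congr rfl fun i _ => ?_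
    rw [hind (fun j => μ j + ν j), hind, hind]
    have hcoe : ((μ i + ν i : D i) : Fin n → F) = (μ i : Fin n → F) + ν i := rfl
    rw [hcoe]
    by_cases ha : (μ i : Fin n → F) = 0
    · rw [ha, zero_add, if_pos rfl, ← bil_apply hf, map_zero, LinearMap.zero_apply]
      ring
    by_cases hb : (ν i : Fin n → F) = 0
    · rw [hb, add_zero, if_pos rfl, ← bil_apply hf, map_zero]
      ring
    rw [if_neg ha, if_neg hb]
    by_cases hab : (μ i : Fin n → F) = ν i
    · rw [hab, hf.alternating, if_pos (by
        rw [← two_smul F (ν i : Fin n → F), show (2 : F) = 1 + 1 from by norm_num, h11, zero_smul])]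
      linear_combination -h11
    · rw [plane_pair hf hq (hD.nondegenerate i) (hD.decomp.finrank_eq i) (μ i).2 (ν i).2 ha hb hab,
        if_neg (fun h => hab (by
          rw [add_eq_zero_iff_eq_neg.mp h, ← one_smul F (ν i : Fin n → F), ← neg_smul, hneg]))]
      linear_combination -h11
  refine ⟨by rw [hq]; decide, Q, ⟨fun c v => ?_, ?_, ?_⟩, hpolar, ?_⟩
  · rcases zero_or_one hq c with rfl | rfl
    · simp only [Q, ind, zero_smul, sq, zero_mul]
      refine Finset.sum_eq_zero fun i _ => if_neg ?_
      rintro ⟨u, -, hne⟩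
      rw [← bil_apply hf, map_zero] at hne
      exact hne rfl
    · simp
  · rw [show QuadraticMap.polar Q = f from funext fun u => funext (hpolar u)]
    exact hf.bilinear
  · rw [show QuadraticMap.polar Q = f from funext fun u => funext (hpolar u)]
    exact hf.nondegenerate
  · rintro _ ⟨g, hg, rfl⟩ v
    obtain ⟨σ, hσ⟩ := hle hg
    have hiso := hH hg
    show ∑ i, ind i ((g : Mat n F) *ᵥ v) = ∑ i, ind i v
    rw [← Equiv.sum_comp σ]
    refine Finset.sum_congr rfl fun i _ => if_congr ?_ rfl rfl
    rw [← hσ i]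
    constructor
    · rintro ⟨_, ⟨u, hu, rfl⟩, hne⟩
      rw [Matrix.toLin'_apply, hiso] at hne
      exact ⟨u, hu, hne⟩
    · rintro ⟨u, hu, hne⟩
      exact ⟨_, ⟨u, hu, rfl⟩, by rwa [Matrix.toLin'_apply, hiso]⟩

end CfsgLib.Classical.AschSp
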