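import Cfsg.Agent.Lib.Classical.AschSp.ClassesDef
import Cfsg.Agent.Lib.Classical.AschSp.PlanesTwo

/-!
# Aschbacher's theorem for symplectic groups on any index type
-/

set_option autoImplicit false
set_option linter.unusedSectionVars false

namespace CfsgLib.Classical.AschSp

open Matrix Cfsg Cfsg.Geo CfsgLib.Classical.AschPrime CfsgLib.Classical.AschGen
open CfsgLib.Classical.OrthPrime (coord mulVec_coord mulVec_coord_symm)
open scoped MatrixGroups

variable {ι : Type} [Fintype ι] [DecidableEq ι] {F : Type*} [Field F] [Fintype F]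
variable {f : (ι → F) → (ι → F) → F}

/-- Every subgroup of a symplectic group lies in a proper member of a class or is residual. -/
theorem sp_le {d : ℕ} (hd : Fintype.card ι = d) (hf : IsSymplecticForm f) (hd3 : 3 ≤ d)
    {H : Subgroup (GL ι F)} (hH : H ≤ isomI f) : SpLe d f H := by
  classical
  obtain ⟨e⟩ : Nonempty (ι ≃ Fin d) := ⟨Fintype.equivFinOfCardEq hd⟩
  set φ := (glReindex (F := F) e).toMonoidHom with hφ
  have hf' := ft_symp e hf
  have hH' : H.map φ ≤ isomSubgroup (ft e f) := map_isom e (f := f) ▸ Subgroup.map_mono hH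
  have hback : ∀ (X : Subgroup (GL (Fin d) F)) (Y : Subgroup (GL ι F)),
      (∀ g, glReindex e g ∈ X ↔ g ∈ Y) → H.map φ ≤ X → ¬ isomSubgroup (ft e f) ≤ X →
        LiesIn f H Y := by
    intro X Y hXY hle hX
    refine ⟨fun g hg => (hXY g).mp (hle ⟨g, hg, rfl⟩), fun hall => hX ?_⟩
    rw [← map_isom e (f := f)]
    rintro _ ⟨g, hg, rfl⟩
    exact (hXY g).mpr (hall hg)
  have quadCase : QuadCase (ft e f) (H.map φ) → SpLe d f H := by
    rintro ⟨ho, Q, hQ, hpol, hfix⟩
    have hp : QuadraticMap.polar (fun v => Q (coord e v)) = f := by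
      funext u v
      have := hpol (coord e u) (coord e v)
      simpa [QuadraticMap.polar, ft] using this
    refine .inr (.inr (.inr (.inr (.inr (.inr (.inr (.inr (.inl ⟨ho, fun v => Q (coord e v),
      ⟨fun c v => by simp only [map_smul, hQ.smul], ?_, ?_⟩, fun u v => ?_,
      hback (quadSimilarityGroup Q) _ (fun g => ?_) (fun g hg => ⟨1, fun v => ?_⟩)
        (isom_not_le_quad hf' hd3 hQ hpol (two_eq_zero_of_not_odd ho))⟩))))))))
    · rw [hp]; exact hf.bilinear
    · rw [hp]; exact hf.nondegenerate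
    · exact congrFun (congrFun hp u) v
    · refine exists_congr fun c => ⟨fun hg v => ?_, fun hg v => ?_⟩
      · show Q (coord e ((g : Matrix ι ι F) *ᵥ v)) = _
        rw [← mulVec_coord]
        exact hg (coord e v)
      · have := hg ((coord e).symm v)
        simp only [← mulVec_coord, LinearEquiv.apply_symm_apply] at this
        exact this
    · rw [Units.val_one, one_mul]
      exact hfix _ (mem_matrixSet hg) v
  rcases sp_full hf' hd3 hH' with ⟨U, h0, hts, hle⟩ | ⟨U, h0, hnd, hlt, hle⟩ |
    (⟨t, k, D, hD, hle⟩ | ⟨ho, k, D, hD, hts, hk, hle⟩ | ⟨r, K, hr, hK, hsa, halt, hle⟩ |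
      ⟨ho, K, hK, hac, hnsa, hle⟩ | hquad) |
    ⟨ho, n₁, n₂, eT, P, f₁, f₂, h1, h2, h3, hf1, hf2, hst, hle⟩ |
    ⟨F₀, l, P, ζ, hl, hcard, hζ, hrs, hle⟩ | hres |
    ⟨R, p, k, hdk, hsym, habs, hRI, hp, hpodd, hq, hcard, hcen, hmin, hinv, hle⟩ |
    ⟨k, t, eT, P, f₁, ho, hto, ht, hk, hkt, hne, hf1, hst, hle⟩
  · refine .inl ⟨backW e U, by simpa [backW] using h0, backW_ts e hts,
      hback _ _ (fun g => OrthPrime.mem_stab_iff e g U) hle (isom_not_le_subspace hf' h0 fun h => ?_)⟩
    have := ts_finrank hf' hts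
    rw [h, finrank_top, Module.finrank_fintype_fun_eq_card, Fintype.card_fin] at this
    omega
  · refine .inr (.inl ⟨backW e U, by simpa [backW] using h0, backW_nondeg e hnd,
      by rw [backW, LinearEquiv.finrank_map_eq]; exact hlt,
      hback _ _ (fun g => OrthPrime.mem_stab_iff e g U) hle (isom_not_le_subspace hf' h0 fun h => ?_)⟩)
    rw [h, finrank_top, Module.finrank_fintype_fun_eq_card, Fintype.card_fin] at hlt
    omega
  · have ht := hD.decomp.two_le
    have hk : Even k :=
      hD.decomp.finrank_eq ⟨0, by omega⟩ ▸ nondeg_finrank_even hf' (hD.nondegenerate _)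
    have hk2 : 2 ≤ k := by
      have := hD.decomp.pos
      rcases hk with ⟨c, hc⟩
      omega
    by_cases hq : k = 2 ∧ Fintype.card F = 2
    · obtain ⟨rfl, hq⟩ := hq
      exact quadCase (quad_of_planes hf' hq hH' hD hle)
    have hq3 : k = 2 → 3 ≤ Fintype.card F := fun h => by
      have := Fintype.one_lt_card (α := F)
      have : Fintype.card F ≠ 2 := fun h' => hq ⟨h, h'⟩
      omega
    refine .inr (.inr (.inl ⟨t, k, fun i => backW e (D i), hk, hk2, ht, decomp_card hD.decomp, hq3,
      ⟨backW_decomp e hD.decomp, fun i => backW_nondeg e (hD.nondegenerate i), ?_⟩,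
      hback _ _ (fun g => OrthPrime.mem_decomp_iff e g D) hle (isom_not_le_decomp hf' hD.decomp hk2)⟩))
    rintro i j hij _ ⟨u, hu, rfl⟩ _ ⟨v, hv, rfl⟩
    exact hD.orthogonal i j hij u hu v hv
  · exact .inr (.inr (.inr (.inl ⟨ho, k, fun i => backW e (D i), hk, backW_decomp e hD,
      fun i => backW_ts e (hts i),
      hback _ _ (fun g => OrthPrime.mem_decomp_iff e g D) hle
        (isom_not_le_decomp hf' hD (by omega))⟩)))
  · refine .inr (.inr (.inr (.inr (.inl ⟨r, backK e K, hr, selfAdj_dvd hf' hK hsa halt,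
      backK_field e hK, (backK_selfAdj e).mpr hsa, fun k hk v => ?_,
      hback _ _ (fun g => mem_normalizer_reindex e g K) hle
        (isom_not_le_field hf' hd3 hr.two_le hK)⟩))))
    have := halt _ ((mem_backK e).mp hk) (coord e v)
    simpa only [ft, reindex_mulVec, LinearEquiv.symm_apply_apply] using this
  · exact .inr (.inr (.inr (.inr (.inr (.inl ⟨ho, backK e K, backK_field e hK, backK_adjClosed e hac,
      fun h => hnsa ((backK_selfAdj e).mp h),
      hback _ _ (fun g => mem_normalizer_reindex e g K) hle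
        (isom_not_le_field hf' hd3 le_rfl hK)⟩)))))
  · exact quadCase hquad
  · refine .inr (.inr (.inr (.inr (.inr (.inr (.inl ⟨ho, n₁, n₂, e.trans eT, (glReindex e).symm P, f₁, f₂,
      h1, ?_, h2, ?_, fun h => five_le_of_odd ho fun h' => h3 ⟨h', h⟩, hf1, hf2, ?_,
      hback _ _ (mem_tensor_reindex e eT P) hle (isom_not_le_tensor hf' h1 h2 eT P)⟩))))))
    · exact Nat.not_odd_iff_even.mp fun h => not_symplectic h hf1
    · simpa using (Fintype.card_congr eT).symm
    obtain ⟨c, hc0, hc⟩ := hst
    refine ⟨c, hc0, fun x y => ?_⟩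
    obtain ⟨R, rfl⟩ := (glReindex (F := F) e).surjective P
    rw [MulEquiv.symm_apply_apply]
    have hx : ∀ z : Fin n₁ × Fin n₂ → F, (coord e).symm (z ∘ eT) = z ∘ (e.trans eT) := fun z => rfl
    have := hc x y
    simp only [ft] at this
    rw [← mulVec_coord_symm, ← mulVec_coord_symm, hx, hx] at this
    exact this
  · refine .inr (.inr (.inr (.inr (.inr (.inr (.inr (.inl ⟨F₀, l, (glReindex e).symm P, ζ, hl, hcard, hζ,
      fun u v hu hv => ?_, hback _ _ (fun g => OrthPrime.mem_subfield_iff e g F₀ P) hle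
        (isom_not_le_subfield hf' (by omega) (subfield_ne_top hl hcard) P)⟩)))))))
    obtain ⟨R, rfl⟩ := (glReindex (F := F) e).surjective P
    rw [MulEquiv.symm_apply_apply]
    have := hrs (coord e u) (coord e v) (fun i => hu (e.symm i)) (fun i => hv (e.symm i))
    rw [mulVec_coord, mulVec_coord] at this
    simpa [ft] using this
  · exact .inr (.inr (.inr (.inr (.inr (.inr (.inr (.inr (.inr (.inr (.inr
      (residual_transport_sp e hres)))))))))))
  · have h2 : (2 : F) ≠ 0 := fun h2 => by
      haveI : CharP F 2 := CharTwo.of_one_ne_zero_of_two_eq_zero one_ne_zero h2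
      have := FiniteField.even_card_iff_char_two.mp (ringChar.eq F 2)
      rcases hpodd with ⟨c, hc⟩
      omega
    refine .inr (.inr (.inr (.inr (.inr (.inr (.inr (.inr (.inr (.inl ⟨backR e R, p, k, hdk,
      backR_symplecticType e hsym, backR_absIrred e habs, fun g hg => ⟨1, fun u v => ?_⟩, hp, hpodd, hq,
      ?_, ?_, backR_minus e hmin,
      hback _ _ (fun g => mem_subgroupNormalizer_reindex e g R) hle
        (isom_not_le_symType hf' (by omega) h2 hRI (by rw [hsym.exponent_eq]; rfl) hinv)⟩)))))))))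
    · rw [Units.val_one, one_mul]
      exact (mem_isom_iff e g).mp (hRI hg) u v
    · rw [Nat.card_congr (backEquiv e R).toEquiv, hcard]
    · rw [backR_center e R, hcen]
  · refine .inr (.inr (.inr (.inr (.inr (.inr (.inr (.inr (.inr (.inr (.inl ⟨k, t, e.trans eT,
      (glReindex e).symm P, f₁, ho, hto, ht, hk, hkt, hne, hf1, ?_,
      hback _ _ (mem_wreath_reindex e eT P) hle
        (isom_not_le_power hf' hk (by omega) hf1 hst)⟩))))))))))
    obtain ⟨c, hc0, hc⟩ := hst
    refine ⟨c, hc0, fun x y => ?_⟩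
    obtain ⟨R, rfl⟩ := (glReindex (F := F) e).surjective P
    rw [MulEquiv.symm_apply_apply]
    have hx : ∀ z : (Fin t → Fin k) → F, (coord e).symm (z ∘ eT) = z ∘ (e.trans eT) := fun z => rfl
    have := hc x y
    simp only [ft] at this
    rw [← mulVec_coord_symm, ← mulVec_coord_symm, hx, hx] at this
    exact this

end CfsgLib.Classical.AschSp
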