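import Cfsg.Agent.Lib.Classical.AschSp.Maximal
import Cfsg.Agent.Lib.Classical.OrthPrime.Transport
import Cfsg.Agent.Lib.Classical.SympMatrix

/-!
# Maximal subgroups of symplectic groups, for any index type
-/

set_option autoImplicit false
set_option linter.unusedSectionVars false

namespace CfsgLib.Classical.AschSp

open Matrix Cfsg Cfsg.Geo CfsgLib.Classical.AschPrime
open CfsgLib.Classical.OrthPrime (coord mulVec_coord mulVec_coord_symm mem_scalars_reindex qt qt_nondeg)
open scoped MatrixGroups Kronecker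

variable {n : ℕ} {ι : Type} [Fintype ι] [DecidableEq ι] {F : Type*} [Field F]

/-- The isometries of a form on any index type. -/
abbrev isomI (f : (ι → F) → (ι → F) → F) : Subgroup (GL ι F) := preserving (glToMat ι F) f

/-- The form in the new coordinates. -/
noncomputable def ft (e : ι ≃ Fin n) (f : (ι → F) → (ι → F) → F) :
    (Fin n → F) → (Fin n → F) → F :=
  fun u v => f ((coord e).symm u) ((coord e).symm v)

/-- The pull back of a subspace. -/
noncomputable def backW (e : ι ≃ Fin n) (U : Submodule F (Fin n → F)) : Submodule F (ι → F) :=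
  U.map ((coord (F := F) e).symm : (Fin n → F) →ₗ[F] (ι → F))

/-- The pull back of a subalgebra. -/
noncomputable def backK (e : ι ≃ Fin n) (K : Subalgebra F (Mat n F)) : Subalgebra F (Matrix ι ι F) :=
  K.map ((Matrix.reindexAlgEquiv F F e).symm : Mat n F →ₐ[F] Matrix ι ι F)

variable (e : ι ≃ Fin n) {f : (ι → F) → (ι → F) → F}

theorem ft_symp (hf : IsSymplecticForm f) : IsSymplecticForm (ft e f) where
  bilinear :=
    { add_left := fun x y v => by simp only [ft, map_add, hf.bilinear.add_left]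
      smul_left := fun c x v => by simp only [ft, map_smul, hf.bilinear.smul_left]
      add_right := fun v x y => by simp only [ft, map_add, hf.bilinear.add_right]
      smul_right := fun c v x => by simp only [ft, map_smul, hf.bilinear.smul_right] }
  skew v w := hf.skew _ _
  alternating v := hf.alternating _
  nondegenerate v hv := by
    obtain ⟨⟨x, hx⟩, y, hy⟩ := hf.nondegenerate ((coord e).symm v) (by simpa using hv)
    exact ⟨⟨coord e x, by simpa [ft] using hx⟩, coord e y, by simpa [ft] using hy⟩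

theorem mem_isom_iff (g : GL ι F) :
    glReindex e g ∈ isomSubgroup (ft e f) ↔ g ∈ isomI f := by
  constructor
  · intro h u v
    have := h (coord e u) (coord e v)
    simpa [ft, mulVec_coord, glToMat] using this
  · intro h u v
    have := h ((coord e).symm u) ((coord e).symm v)
    simpa [ft, ← mulVec_coord_symm, glToMat] using this

theorem map_isom : (isomI f).map (glReindex (F := F) e).toMonoidHom = isomSubgroup (ft e f) := by
  ext g
  obtain ⟨x, rfl⟩ := (glReindex (F := F) e).surjective g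
  exact ⟨fun ⟨y, hy, hye⟩ => (mem_isom_iff e x).mpr ((glReindex e).injective hye ▸ hy),
    fun h => ⟨x, (mem_isom_iff e x).mp h, rfl⟩⟩

theorem mem_backK {K : Subalgebra F (Mat n F)} {k : Matrix ι ι F} :
    k ∈ backK e K ↔ Matrix.reindexAlgEquiv F F e k ∈ K := by
  constructor
  · rintro ⟨y, hy, rfl⟩
    show Matrix.reindexAlgEquiv F F e ((Matrix.reindexAlgEquiv F F e).symm y) ∈ K
    rwa [AlgEquiv.apply_symm_apply]
  · intro h
    exact ⟨_, h, (Matrix.reindexAlgEquiv F F e).symm_apply_apply k⟩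

theorem mem_normalizer_reindex (g : GL ι F) (K : Subalgebra F (Mat n F)) :
    glReindex e g ∈ subalgebraNormalizer K ↔ g ∈ subalgebraNormalizer (backK e K) := by
  set φ := Matrix.reindexAlgEquiv F F e
  have hconj : ∀ k, (glReindex e g : Mat n F) * φ k * (((glReindex e g)⁻¹ : GL (Fin n) F) : Mat n F) =
      φ ((g : Matrix ι ι F) * k * ((g⁻¹ : GL ι F) : Matrix ι ι F)) := fun k => by
    rw [map_mul, map_mul, ← map_inv]
    rfl
  constructor
  · intro h k
    rw [mem_backK, mem_backK, ← hconj]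
    exact h (φ k)
  · intro h k
    obtain ⟨k', rfl⟩ := φ.surjective k
    rw [hconj, ← mem_backK, ← mem_backK]
    exact h k'

theorem backK_field {r : ℕ} {K : Subalgebra F (Mat n F)} (hK : IsFieldSubalgebra r K) :
    IsFieldSubalgebra r (backK e K) where
  comm x hx y hy := (Matrix.reindexAlgEquiv F F e).injective (by
    rw [map_mul, map_mul]
    exact hK.comm _ ((mem_backK e).mp hx) _ ((mem_backK e).mp hy))
  inv x hx hx0 := by
    obtain ⟨y, hy, hxy⟩ := hK.inv _ ((mem_backK e).mp hx)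
      fun h => hx0 ((Matrix.reindexAlgEquiv F F e).injective (h.trans (map_zero _).symm))
    obtain ⟨y', rfl⟩ := (Matrix.reindexAlgEquiv F F e).surjective y
    exact ⟨y', (mem_backK e).mpr hy, (Matrix.reindexAlgEquiv F F e).injective (by
      rw [map_mul, hxy, map_one])⟩
  finrank_eq := by
    rw [← hK.finrank_eq]
    exact (K.equivMapOfInjective _ (Matrix.reindexAlgEquiv F F e).symm.injective).toLinearEquiv.finrank_eq.symm

theorem reindex_mulVec (k : Matrix ι ι F) (v : Fin n → F) :
    (coord e).symm (Matrix.reindexAlgEquiv F F e k *ᵥ v) = k *ᵥ (coord e).symm v := by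
  ext i
  simp only [coord, LinearEquiv.funCongrLeft_symm, LinearEquiv.funCongrLeft_apply, Matrix.mulVec,
    dotProduct]
  show (∑ j, Matrix.reindex e e k (e i) j * v j) = ∑ j, k i j * v (e j)
  exact (Fintype.sum_equiv e _ _ fun j => by simp).symm

theorem backK_selfAdj {K : Subalgebra F (Mat n F)} :
    IsSelfAdjointFor f (backK e K) ↔ IsSelfAdjointFor (ft e f) K := by
  constructor
  · intro h k hk u v
    obtain ⟨k', rfl⟩ := (Matrix.reindexAlgEquiv F F e).surjective k
    simp only [ft, reindex_mulVec]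
    exact h k' ((mem_backK e).mpr hk) _ _
  · intro h k hk u v
    have := h _ ((mem_backK e).mp hk) (coord e u) (coord e v)
    simpa only [ft, reindex_mulVec, LinearEquiv.symm_apply_apply] using this

theorem backK_adjClosed {K : Subalgebra F (Mat n F)} (h : IsAdjointClosedFor (ft e f) K) :
    IsAdjointClosedFor f (backK e K) := by
  intro k hk
  obtain ⟨k', hk', hkk⟩ := h _ ((mem_backK e).mp hk)
  obtain ⟨l, rfl⟩ := (Matrix.reindexAlgEquiv F F e).surjective k'
  refine ⟨l, (mem_backK e).mpr hk', fun u v => ?_⟩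
  have := hkk (coord e u) (coord e v)
  simpa only [ft, reindex_mulVec, LinearEquiv.symm_apply_apply] using this

theorem backW_nondeg {U : Submodule F (Fin n → F)} (h : IsNondegenerateOn (ft e f) U) :
    IsNondegenerateOn f (backW e U) := by
  rintro _ ⟨u, hu, rfl⟩ h0
  obtain ⟨⟨x, hx, hxu⟩, y, hy, hyu⟩ := h u hu fun e0 => h0 (by rw [e0, map_zero])
  exact ⟨⟨_, ⟨x, hx, rfl⟩, hxu⟩, _, ⟨y, hy, rfl⟩, hyu⟩

theorem backW_ts {U : Submodule F (Fin n → F)} (h : IsTotallySingularFor (ft e f) U) :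
    IsTotallySingularFor f (backW e U) := by
  rintro _ ⟨u, hu, rfl⟩ _ ⟨v, hv, rfl⟩
  exact h u hu v hv

theorem backW_decomp {t m : ℕ} {D : Fin t → Submodule F (Fin n → F)} (hD : IsMDecomposition m D) :
    IsMDecomposition m (fun i => backW e (D i)) where
  two_le := hD.two_le
  pos := hD.pos
  finrank_eq i := by rw [backW, LinearEquiv.finrank_map_eq, hD.finrank_eq]
  indep := hD.indep.map_orderIso (f := Submodule.orderIsoMapComap (coord (F := F) e).symm)
  iSup_eq_top := by
    simp only [backW]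
    rw [← Submodule.map_iSup, hD.iSup_eq_top, Submodule.map_top]
    exact LinearMap.range_eq_top.mpr (coord e).symm.surjective

theorem mem_tensor_reindex {n₁ n₂ : ℕ} (eT : Fin n ≃ Fin n₁ × Fin n₂) (P : GL (Fin n) F) (g : GL ι F) :
    glReindex e g ∈ tensorProductSubgroup n₁ n₂ eT P ↔
      g ∈ tensorProductSubgroup n₁ n₂ (e.trans eT) ((glReindex e).symm P) := by
  obtain ⟨R, rfl⟩ := (glReindex (F := F) e).surjective P
  rw [MulEquiv.symm_apply_apply]
  have key : ∀ w : GL (Fin n₁ × Fin n₂) F,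
      glReindex e (R * glReindex (e.trans eT).symm w * R⁻¹) =
        glReindex e R * glReindex eT.symm w * (glReindex e R)⁻¹ := fun w => by
    rw [map_mul, map_mul, map_inv]
    congr 2
    refine Units.ext (Matrix.ext fun i j => ?_)
    show Matrix.reindex e e (Matrix.reindex (e.trans eT).symm (e.trans eT).symm
      (w : Matrix (Fin n₁ × Fin n₂) (Fin n₁ × Fin n₂) F)) i j = Matrix.reindex eT.symm eT.symm
      (w : Matrix (Fin n₁ × Fin n₂) (Fin n₁ × Fin n₂) F) i j
    simp
  constructor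
  · rintro ⟨_, ⟨w, hw, rfl⟩, hg⟩
    exact ⟨_, ⟨w, hw, rfl⟩, (glReindex e).injective ((key w).trans hg)⟩
  · rintro ⟨_, ⟨w, hw, rfl⟩, rfl⟩
    exact ⟨_, ⟨w, hw, rfl⟩, (key w).symm⟩

theorem residual_transport_sp {H : Subgroup (GL ι F)}
    (h : InSymplecticResidualClass (H.map (glReindex e).toMonoidHom)) :
    InSymplecticResidualClass H := by
  classical
  obtain ⟨P', hP', hnoQ, hno⟩ := h
  set φ := (glReindex (F := F) e).toMonoidHom
  set P := P'.comap φ
  have hmem : ∀ g, g ∈ P ↔ glReindex e g ∈ P' := fun g => Iff.rfl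
  have hPmap : P.map φ = P' := Subgroup.map_comap_eq_self_of_surjective (glReindex e).surjective _
  let ψ : P ≃* P' :=
    ((glReindex (F := F) e).subgroupMap P).trans (MulEquiv.subgroupCongr hPmap)
  have hmap : ((scalars ι F).subgroupOf P).map ψ.toMonoidHom = (scalars (Fin n) F).subgroupOf P' := by
    ext y
    constructor
    · rintro ⟨x, hx, rfl⟩
      exact (mem_scalars_reindex e _).mpr hx
    · intro hy
      refine ⟨ψ.symm y, ?_, ψ.apply_symm_apply y⟩
      show ((ψ.symm y : P) : GL ι F) ∈ scalars ι F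
      rw [← mem_scalars_reindex e]
      have : glReindex e ((ψ.symm y : P) : GL ι F) = (y : GL (Fin n) F) :=
        congrArg Subtype.val (ψ.apply_symm_apply y)
      rw [this]; exact hy
  let χ : (P ⧸ (scalars ι F).subgroupOf P) ≃* (P' ⧸ (scalars (Fin n) F).subgroupOf P') :=
    QuotientGroup.congr _ _ ψ hmap
  refine ⟨P, ⟨fun g hg => ?_, fun h hh x hx => ?_, ?_, ?_, ?_, fun h hh hc => ?_, ?_, ?_⟩, ?_, ?_⟩
  · obtain ⟨x, hx, hxe⟩ := hP'.le ((hmem g).mp hg)
    exact (glReindex e).injective hxe ▸ hx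
  · rw [hmem, map_mul, map_mul, map_inv]
    exact hP'.normal _ ⟨h, hh, rfl⟩ _ hx
  · refine Subgroup.map_injective (f := φ) (glReindex e).injective ?_
    rw [Subgroup.map_commutator, hPmap, hP'.perfect]
  · haveI := hP'.simple
    exact χ.isSimpleGroup
  · intro hc
    exact hP'.nonabelian ⟨⟨fun a b => χ.symm.injective (by rw [map_mul, map_mul, hc.is_comm.comm])⟩⟩
  · rw [← mem_scalars_reindex e]
    refine hP'.centralizer_scalar _ ⟨h, hh, rfl⟩ fun y hy => ?_
    obtain ⟨x, hx, rfl⟩ := hPmap.symm ▸ hy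
    show glReindex e h * glReindex e x * (glReindex e h)⁻¹ * (glReindex e x)⁻¹ ∈ _
    rw [← map_inv, ← map_inv, ← map_mul, ← map_mul, ← map_mul, mem_scalars_reindex]
    exact hc x hx
  · refine ⟨fun W hW => ?_, fun M hM => ?_⟩
    · have := irr_iff.mp hP'.absIrred.1 (W.map (coord (F := F) e : (ι → F) →ₗ[F] (Fin n → F))) (by
        rintro _ ⟨y, hy, rfl⟩ v hv
        obtain ⟨x, hx, rfl⟩ := hPmap.symm ▸ hy
        obtain ⟨w, hw, rfl⟩ := hv
        refine ⟨(x : Matrix ι ι F) *ᵥ w, ?_, (mulVec_coord e x w).symm⟩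
        have h1 := hW _ ⟨x, hx, rfl⟩
        exact h1 ⟨w, hw, by simp⟩)
      rcases this with h | h
      · exact .inl (by simpa using h)
      · right
        refine Submodule.map_injective_of_injective (f := (coord (F := F) e : (ι → F) →ₗ[F] (Fin n → F)))
          (coord e).injective ?_
        rw [h, Submodule.map_top]
        exact (LinearMap.range_eq_top.mpr (coord e).surjective).symm
    · obtain ⟨c, hc⟩ := hP'.absIrred.2 (Matrix.reindexAlgEquiv F F e M) (by
        rintro _ ⟨y, hy, rfl⟩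
        obtain ⟨x, hx, rfl⟩ := hPmap.symm ▸ hy
        show _ * Matrix.reindexAlgEquiv F F e (x : Matrix ι ι F) =
          Matrix.reindexAlgEquiv F F e (x : Matrix ι ι F) * _
        rw [← map_mul, ← map_mul, hM _ ⟨x, hx, rfl⟩])
      refine ⟨c, (Matrix.reindexAlgEquiv F F e).injective ?_⟩
      rw [hc, map_smul, map_one]
  · intro F₀ hF₀ hreal
    obtain ⟨B, hB⟩ := hreal
    refine hP'.no_subfield F₀ hF₀ ⟨glReindex e B, ?_⟩
    rintro _ ⟨y, hy, rfl⟩ i j
    obtain ⟨x, hx, rfl⟩ := hPmap.symm ▸ hy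
    have := hB _ ⟨x, hx, rfl⟩ (e.symm i) (e.symm j)
    rw [← map_inv]
    show (Matrix.reindexAlgEquiv F F e (B : Matrix ι ι F) * Matrix.reindexAlgEquiv F F e
      (x : Matrix ι ι F) * Matrix.reindexAlgEquiv F F e ((B⁻¹ : GL ι F) : Matrix ι ι F)) i j ∈ F₀
    rw [← map_mul, ← map_mul]
    exact this
  · rintro ⟨Q, hQ, hfix⟩
    refine hnoQ ⟨qt e Q, qt_nondeg e hQ, ?_⟩
    rintro _ ⟨y, hy, rfl⟩ v
    obtain ⟨x, hx, rfl⟩ := hPmap.symm ▸ hy
    show Q ((coord e).symm ((glReindex e x : Mat n F) *ᵥ v)) = _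
    rw [← mulVec_coord_symm]
    exact hfix _ ⟨x, hx, rfl⟩ _
  · rintro ⟨σ, g, hg, hfix⟩
    refine hno ⟨σ, fun u v => g ((coord e).symm u) ((coord e).symm v),
      ⟨hg.ne_refl, hg.involutive, fun x y v => by simp only [map_add, hg.add_left],
        fun c x v => by simp only [map_smul, hg.smul_left], fun v w => hg.herm _ _, fun v hv => ?_⟩,
      ?_⟩
    · obtain ⟨⟨x, hx⟩, y, hy⟩ := hg.nondegenerate ((coord e).symm v) (by simpa using hv)
      exact ⟨⟨coord e x, by simpa using hx⟩, coord e y, by simpa using hy⟩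
    · rintro _ ⟨y, hy, rfl⟩ u v
      obtain ⟨x, hx, rfl⟩ := hPmap.symm ▸ hy
      show g ((coord e).symm ((glReindex e x : Mat n F) *ᵥ u))
        ((coord e).symm ((glReindex e x : Mat n F) *ᵥ v)) = _
      rw [← mulVec_coord_symm, ← mulVec_coord_symm]
      exact hfix _ ⟨x, hx, rfl⟩ _ _

/-- A maximal subgroup of the isometry group of `f` is a member of one of these classes, or residual. -/
def SpCases [Fintype F] (d : ℕ) (f : (ι → F) → (ι → F) → F) (H : Subgroup (GL ι F)) : Prop :=
  (∃ W : Submodule F (ι → F), W ≠ ⊥ ∧ IsTotallySingularFor f W ∧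
      H = subspaceStabilizer W ⊓ isomI f) ∨
  (∃ W : Submodule F (ι → F), W ≠ ⊥ ∧ IsNondegenerateOn f W ∧ 2 * Module.finrank F W < d ∧
      H = subspaceStabilizer W ⊓ isomI f) ∨
  (∃ (t k : ℕ) (D : Fin t → Submodule F (ι → F)), Even k ∧ 2 ≤ k ∧ 2 ≤ t ∧ t * k = d ∧
      (k = 2 → 3 ≤ Fintype.card F) ∧ IsNondegenerateMDecomposition f k D ∧
      H = decompositionStabilizer D ⊓ isomI f) ∨
  (Odd (Fintype.card F) ∧ ∃ (k : ℕ) (D : Fin 2 → Submodule F (ι → F)), 2 * k = d ∧
      IsMDecomposition k D ∧ (∀ i, IsTotallySingularFor f (D i)) ∧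
      H = decompositionStabilizer D ⊓ isomI f) ∨
  (∃ (r : ℕ) (K : Subalgebra F (Matrix ι ι F)), r.Prime ∧ 2 * r ∣ d ∧ IsFieldSubalgebra r K ∧
      IsSelfAdjointFor f K ∧ (∀ k ∈ K, ∀ v, f (k *ᵥ v) v = 0) ∧
      H = subalgebraNormalizer K ⊓ isomI f) ∨
  (Odd (Fintype.card F) ∧ ∃ K : Subalgebra F (Matrix ι ι F), IsFieldSubalgebra 2 K ∧
      IsAdjointClosedFor f K ∧ ¬ IsSelfAdjointFor f K ∧
      H = subalgebraNormalizer K ⊓ isomI f) ∨
  (Odd (Fintype.card F) ∧ ∃ (n₁ n₂ : ℕ) (eT : ι ≃ Fin n₁ × Fin n₂) (P : GL ι F)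
      (f₁ : (Fin n₁ → F) → (Fin n₁ → F) → F) (f₂ : (Fin n₂ → F) → (Fin n₂ → F) → F),
      2 ≤ n₁ ∧ Even n₁ ∧ 3 ≤ n₂ ∧ n₁ * n₂ = d ∧ (n₂ = 3 → 5 ≤ Fintype.card F) ∧
      IsSymplecticForm f₁ ∧ IsSymmetricForm f₂ ∧
      IsTensorFormStructure id f f₁ f₂ eT P ∧ H = tensorProductSubgroup n₁ n₂ eT P ⊓ isomI f) ∨
  (∃ (F₀ : Subfield F) (r : ℕ) (P : GL ι F) (ζ : F), r.Prime ∧
      Fintype.card F = Nat.card F₀ ^ r ∧ ζ ≠ 0 ∧ IsFormRationalStructure f F₀ ζ P ∧
      H = subfieldSubgroup F₀ P ⊓ isomI f) ∨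
  (¬ Odd (Fintype.card F) ∧ ∃ Q : (ι → F) → F, IsNondegenerateQuadraticForm Q ∧
      (∀ u v, QuadraticMap.polar Q u v = f u v) ∧ H = quadSimilarityGroup Q ⊓ isomI f) ∨
  InSymplecticResidualClass H

/-- Aschbacher's theorem for the maximal subgroups of a symplectic group on any index type. -/
theorem sp_cases [Fintype F] {d : ℕ} (hd : Fintype.card ι = d) (hf : IsSymplecticForm f) (hd3 : 3 ≤ d)
    (hpp : ∀ r k : ℕ, r.Prime → 1 ≤ k → d ≠ r ^ k)
    (hpw : ∀ m t : ℕ, 2 ≤ m → 2 ≤ t → m ^ t ≠ d)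
    {H : Subgroup (GL ι F)} (hH : IsMaximalIn (isomI f) H) : SpCases d f H := by
  classical
  obtain ⟨e⟩ : Nonempty (ι ≃ Fin d) := ⟨Fintype.equivFinOfCardEq hd⟩
  set φ := (glReindex (F := F) e).toMonoidHom with hφ
  have hinj : Function.Injective φ := (glReindex e).injective
  have hG : (isomI f).map φ = isomSubgroup (ft e f) := map_isom e
  have hmax : IsMaximalIn (isomSubgroup (ft e f)) (H.map φ) := by
    rw [← hG]
    refine ⟨Subgroup.map_lt_map_iff_of_injective hinj |>.2 hH.1, fun M hM hMG => ?_⟩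
    have e1 : (M.comap φ).map φ = M :=
      Subgroup.map_comap_eq_self_of_surjective (glReindex e).surjective _
    rcases hH.2 (M.comap φ) (Subgroup.map_le_iff_le_comap.mp hM) (fun x hx => by
      obtain ⟨y, hy, hxy⟩ := hMG hx
      exact hinj hxy ▸ hy) with h | h
    · exact .inl (by rw [← e1, h])
    · exact .inr (by rw [← e1, h])
  have hback : ∀ (X : Subgroup (GL (Fin d) F)) (Y : Subgroup (GL ι F)),
      (∀ g, glReindex e g ∈ X ↔ g ∈ Y) → H.map φ = X ⊓ isomSubgroup (ft e f) → H = Y ⊓ isomI f := by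
    intro X Y hXY h
    ext g
    constructor
    · intro hg
      exact ⟨(hXY g).mp (h.le ⟨g, hg, rfl⟩).1, hH.1.le hg⟩
    · rintro ⟨hg, hg'⟩
      obtain ⟨y, hy, hye⟩ := h.ge ⟨(hXY g).mpr hg, (mem_isom_iff e g).mpr hg'⟩
      exact hinj hye ▸ hy
  rcases sp_maximal_cases (ft_symp e hf) hd3 hpp hpw hmax with
    ⟨U, h0, hts, h⟩ | ⟨U, h0, hnd, hlt, h⟩ | ⟨t, k, D, hk, hk2, ht, htk, hq, hD, h⟩ |
    ⟨ho, k, D, hk, hD, hts, h⟩ | ⟨r, K, hr, hdvd, hK, hsa, halt, h⟩ | ⟨ho, K, hK, hac, hnsa, h⟩ |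
    ⟨ho, n₁, n₂, eT, P, f₁, f₂, h1, hev, h2, h12, h5, hf1, hf2, hst, h⟩ |
    ⟨F₀, r, P, ζ, hr, hc, hζ, hrs, h⟩ | ⟨ho, Q, hQ, hpol, h⟩ | hres
  · exact .inl ⟨backW e U, by simpa [backW] using h0, backW_ts e hts,
      hback _ _ (fun g => OrthPrime.mem_stab_iff e g U) h⟩
  · exact .inr (.inl ⟨backW e U, by simpa [backW] using h0, backW_nondeg e hnd,
      by rw [backW, LinearEquiv.finrank_map_eq]; exact hlt,
      hback _ _ (fun g => OrthPrime.mem_stab_iff e g U) h⟩)
  · refine .inr (.inr (.inl ⟨t, k, fun i => backW e (D i), hk, hk2, ht, htk, hq,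
      ⟨backW_decomp e hD.decomp, fun i => backW_nondeg e (hD.nondegenerate i), ?_⟩,
      hback _ _ (fun g => OrthPrime.mem_decomp_iff e g D) h⟩))
    rintro i j hij _ ⟨u, hu, rfl⟩ _ ⟨v, hv, rfl⟩
    exact hD.orthogonal i j hij u hu v hv
  · exact .inr (.inr (.inr (.inl ⟨ho, k, fun i => backW e (D i), hk, backW_decomp e hD,
      fun i => backW_ts e (hts i), hback _ _ (fun g => OrthPrime.mem_decomp_iff e g D) h⟩)))
  · refine .inr (.inr (.inr (.inr (.inl ⟨r, backK e K, hr, hdvd, backK_field e hK,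
      (backK_selfAdj e).mpr hsa, fun k hk v => ?_,
      hback _ _ (fun g => mem_normalizer_reindex e g K) h⟩))))
    have := halt _ ((mem_backK e).mp hk) (coord e v)
    simpa only [ft, reindex_mulVec, LinearEquiv.symm_apply_apply] using this
  · exact .inr (.inr (.inr (.inr (.inr (.inl ⟨ho, backK e K, backK_field e hK, backK_adjClosed e hac,
      fun hsa => hnsa ((backK_selfAdj e).mp hsa),
      hback _ _ (fun g => mem_normalizer_reindex e g K) h⟩)))))
  · refine .inr (.inr (.inr (.inr (.inr (.inr (.inl ⟨ho, n₁, n₂, e.trans eT, (glReindex e).symm P, f₁, f₂,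
      h1, hev, h2, h12, h5, hf1, hf2, ?_, hback _ _ (mem_tensor_reindex e eT P) h⟩))))))
    obtain ⟨c, hc0, hc⟩ := hst
    refine ⟨c, hc0, fun x y => ?_⟩
    obtain ⟨R, rfl⟩ := (glReindex (F := F) e).surjective P
    rw [MulEquiv.symm_apply_apply]
    have hx : ∀ z : Fin n₁ × Fin n₂ → F, (coord e).symm (z ∘ eT) = z ∘ (e.trans eT) := fun z => rfl
    have := hc x y
    simp only [ft] at this
    rw [← mulVec_coord_symm, ← mulVec_coord_symm, hx, hx] at this
    exact this
  · refine .inr (.inr (.inr (.inr (.inr (.inr (.inr (.inl ⟨F₀, r, (glReindex e).symm P, ζ, hr, hc, hζ,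
      fun u v hu hv => ?_, hback _ _ (fun g => OrthPrime.mem_subfield_iff e g F₀ P) h⟩)))))))
    obtain ⟨R, rfl⟩ := (glReindex (F := F) e).surjective P
    rw [MulEquiv.symm_apply_apply]
    have := hrs (coord e u) (coord e v) (fun i => hu (e.symm i)) (fun i => hv (e.symm i))
    rw [mulVec_coord, mulVec_coord] at this
    simpa [ft] using this
  · refine .inr (.inr (.inr (.inr (.inr (.inr (.inr (.inr (.inl ⟨ho, fun v => Q (coord e v),
      ⟨fun c v => by simp only [map_smul, hQ.smul], ?_, ?_⟩, fun u v => ?_,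
      hback _ _ (fun g => ?_) h⟩))))))))
    · have hp : QuadraticMap.polar (fun v => Q (coord e v)) = f := by
        funext u v
        have := hpol (coord e u) (coord e v)
        simpa [QuadraticMap.polar, ft] using this
      rw [hp]
      exact hf.bilinear
    · have hp : QuadraticMap.polar (fun v => Q (coord e v)) = f := by
        funext u v
        have := hpol (coord e u) (coord e v)
        simpa [QuadraticMap.polar, ft] using this
      rw [hp]
      exact hf.nondegenerate
    · have := hpol (coord e u) (coord e v)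
      simpa [QuadraticMap.polar, ft] using this
    · refine exists_congr fun c => ⟨fun hg v => ?_, fun hg v => ?_⟩
      · show Q (coord e ((g : Matrix ι ι F) *ᵥ v)) = _
        rw [← mulVec_coord]
        exact hg (coord e v)
      · have := hg ((coord e).symm v)
        simp only [← mulVec_coord, LinearEquiv.apply_symm_apply] at this
        exact this
  · exact .inr (.inr (.inr (.inr (.inr (.inr (.inr (.inr (.inr (residual_transport_sp e hres)))))))))

theorem isomI_sympForm (m : ℕ) : isomI (sympForm m F) = spGL m F := rfl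

theorem sympForm_symplectic (m : ℕ) : IsSymplecticForm (sympForm m F) where
  bilinear :=
    { add_left := fun x y v => by simp only [← sympBil_apply, map_add, LinearMap.add_apply]
      smul_left := fun c x v => by
        simp only [← sympBil_apply, map_smul, LinearMap.smul_apply, smul_eq_mul]
      add_right := fun v x y => by simp only [← sympBil_apply, map_add]
      smul_right := fun c v x => by simp only [← sympBil_apply, map_smul, smul_eq_mul] }
  skew v w := by
    rw [sympForm_eq, sympForm_eq, ← Finset.sum_neg_distrib]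
    exact Finset.sum_congr rfl fun i _ => by ring
  alternating v := sympForm_self m v
  nondegenerate v hv := by
    obtain ⟨hl, hr⟩ := sympBil_nondegenerate (F := F) m
    constructor
    · by_contra h
      push Not at h
      exact hv (hr v fun x => by rw [sympBil_apply]; exact h x)
    · by_contra h
      push Not at h
      exact hv (hl v fun x => by rw [sympBil_apply]; exact h x)

end CfsgLib.Classical.AschSp
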