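import Cfsg.Agent.Lib.Classical.AschSp.ProperTwo
import Cfsg.Agent.Lib.Classical.AschSp.Transport

/-!
# The classes of subgroups of symplectic groups, for any index type
-/

set_option autoImplicit false
set_option linter.unusedSectionVars false

namespace CfsgLib.Classical.AschSp

open Matrix Cfsg Cfsg.Geo CfsgLib.Classical.AschPrime
open CfsgLib.Classical.OrthPrime (coord mulVec_coord mulVec_coord_symm mem_scalars_reindex)
open scoped MatrixGroups Kronecker

variable {n : ℕ} {ι : Type} [Fintype ι] [DecidableEq ι] {F : Type*} [Field F]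
variable (e : ι ≃ Fin n) {f : (ι → F) → (ι → F) → F}

/-- The pull back of a subgroup. -/
noncomputable def backR (e : ι ≃ Fin n) (R : Subgroup (GL (Fin n) F)) : Subgroup (GL ι F) :=
  R.comap (glReindex (F := F) e).toMonoidHom

theorem map_backR (R : Subgroup (GL (Fin n) F)) :
    (backR e R).map (glReindex (F := F) e).toMonoidHom = R :=
  Subgroup.map_comap_eq_self_of_surjective (glReindex e).surjective _

/-- The pull back as an isomorphism. -/
noncomputable def backEquiv (R : Subgroup (GL (Fin n) F)) : backR e R ≃* R :=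
  ((glReindex (F := F) e).subgroupMap (backR e R)).trans (MulEquiv.subgroupCongr (map_backR e R))

theorem mem_subgroupNormalizer_reindex (g : GL ι F) (R : Subgroup (GL (Fin n) F)) :
    glReindex e g ∈ subgroupNormalizer R ↔ g ∈ subgroupNormalizer (backR e R) := by
  rw [subgroupNormalizer, subgroupNormalizer, Subgroup.mem_normalizer_iff, Subgroup.mem_normalizer_iff]
  refine ⟨fun h x => ?_, fun h x => ?_⟩
  · show glReindex e x ∈ R ↔ glReindex e (g * x * g⁻¹) ∈ R
    rw [map_mul, map_mul, map_inv]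
    exact h _
  · obtain ⟨y, rfl⟩ := (glReindex (F := F) e).surjective x
    rw [← map_inv, ← map_mul, ← map_mul]
    exact h y

theorem backR_symplecticType {r : ℕ} {R : Subgroup (GL (Fin n) F)} (h : IsSymplecticTypeGroup r R) :
    IsSymplecticTypeGroup r (backR e R) where
  prime := h.prime
  pGroup := h.pGroup.of_equiv (backEquiv e R).symm
  cyclic_of_characteristic A hA hAc := by
    set ψ := backEquiv e R
    have hchar : (A.map ψ.toMonoidHom).Characteristic := by
      refine ⟨fun τ => ?_⟩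
      ext y
      obtain ⟨x, rfl⟩ := ψ.surjective y
      have hτ := hA.fixed ((ψ.trans τ).trans ψ.symm)
      simp only [Subgroup.mem_comap, Subgroup.mem_map_equiv]
      constructor
      · intro hy
        simp only [MulEquiv.coe_toMonoidHom, Subgroup.mem_map_equiv] at hy
        rw [MulEquiv.symm_apply_apply, ← hτ]
        exact hy
      · intro hy
        rw [MulEquiv.symm_apply_apply, ← hτ] at hy
        simp only [MulEquiv.coe_toMonoidHom, Subgroup.mem_map_equiv]
        exact hy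
    have hc : IsMulCommutative (A.map ψ.toMonoidHom) :=
      ⟨⟨by
        rintro ⟨_, a, ha, rfl⟩ ⟨_, b, hb, rfl⟩
        refine Subtype.ext ?_
        show ψ a * ψ b = ψ b * ψ a
        rw [← map_mul, ← map_mul]
        exact congrArg ψ (congrArg Subtype.val (hAc.is_comm.comm ⟨a, ha⟩ ⟨b, hb⟩))⟩⟩
    haveI : IsCyclic ↥(Subgroup.map (ψ : backR e R →* R) A) := h.cyclic_of_characteristic _ hchar hc
    exact isCyclic_of_injective (ψ.subgroupMap A).toMonoidHom (ψ.subgroupMap A).injective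
  exponent_eq := by
    rw [← h.exponent_eq]
    exact Monoid.exponent_eq_of_mulEquiv (backEquiv e R)

theorem backR_center (R : Subgroup (GL (Fin n) F)) :
    Nat.card (Subgroup.center (backR e R)) = Nat.card (Subgroup.center R) :=
  Nat.card_congr (Subgroup.centerCongr (backEquiv e R)).toEquiv

theorem backR_minus {k : ℕ} {R : Subgroup (GL (Fin n) F)} (h : IsOfMinusType k R) :
    IsOfMinusType k (backR e R) := by
  intro A hAc hA2
  set ψ := backEquiv e R
  have hc : IsMulCommutative (A.map ψ.toMonoidHom) :=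
    ⟨⟨by
      rintro ⟨_, a, ha, rfl⟩ ⟨_, b, hb, rfl⟩
      refine Subtype.ext ?_
      show ψ a * ψ b = ψ b * ψ a
      rw [← map_mul, ← map_mul]
      exact congrArg ψ (congrArg Subtype.val (hAc.is_comm.comm ⟨a, ha⟩ ⟨b, hb⟩))⟩⟩
  have := h (A.map ψ.toMonoidHom) hc (by
    rintro _ ⟨a, ha, rfl⟩
    show ψ a * ψ a = 1
    rw [← map_mul, hA2 a ha, map_one])
  rwa [Subgroup.card_map_of_injective ψ.injective] at this

theorem backR_absIrred {R : Subgroup (GL (Fin n) F)} (h : ActsAbsolutelyIrreducibly (matrixSet R)) :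
    ActsAbsolutelyIrreducibly (matrixSet (backR e R)) := by
  classical
  set φ := (glReindex (F := F) e).toMonoidHom
  have hPmap := map_backR e R
  refine ⟨fun W hW => ?_, fun M hM => ?_⟩
  · have := irr_iff.mp h.1 (W.map (coord (F := F) e : (ι → F) →ₗ[F] (Fin n → F))) (by
      rintro _ ⟨y, hy, rfl⟩ v hv
      obtain ⟨x, hx, rfl⟩ := hPmap.symm ▸ hy
      obtain ⟨w, hw, rfl⟩ := hv
      refine ⟨(x : Matrix ι ι F) *ᵥ w, ?_, (mulVec_coord e x w).symm⟩
      have h1 := hW _ ⟨x, hx, rfl⟩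
      exact h1 ⟨w, hw, by simp⟩)
    rcases this with h | h
    · exact .inl (by simpa using h)
    · right
      refine Submodule.map_injective_of_injective (f := (coord (F := F) e : (ι → F) →ₗ[F] (Fin n → F)))
        (coord e).injective ?_
      rw [h, Submodule.map_top]
      exact (LinearMap.range_eq_top.mpr (coord e).surjective).symm
  · obtain ⟨c, hc⟩ := h.2 (Matrix.reindexAlgEquiv F F e M) (by
      rintro _ ⟨y, hy, rfl⟩
      obtain ⟨x, hx, rfl⟩ := hPmap.symm ▸ hy
      show _ * Matrix.reindexAlgEquiv F F e (x : Matrix ι ι F) =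
        Matrix.reindexAlgEquiv F F e (x : Matrix ι ι F) * _
      rw [← map_mul, ← map_mul, hM _ ⟨x, hx, rfl⟩])
    refine ⟨c, (Matrix.reindexAlgEquiv F F e).injective ?_⟩
    rw [hc, map_smul, map_one]

theorem mem_wreath_reindex {k t : ℕ} (eT : Fin n ≃ (Fin t → Fin k)) (P : GL (Fin n) F) (g : GL ι F) :
    glReindex e g ∈ tensorWreathSubgroup k t eT P ↔
      g ∈ tensorWreathSubgroup k t (e.trans eT) ((glReindex e).symm P) := by
  obtain ⟨R, rfl⟩ := (glReindex (F := F) e).surjective P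
  rw [MulEquiv.symm_apply_apply]
  have key : ∀ w : GL (Fin t → Fin k) F,
      glReindex e (R * glReindex (e.trans eT).symm w * R⁻¹) =
        glReindex e R * glReindex eT.symm w * (glReindex e R)⁻¹ := fun w => by
    rw [map_mul, map_mul, map_inv]
    congr 2
    refine Units.ext (Matrix.ext fun i j => ?_)
    show Matrix.reindex e e (Matrix.reindex (e.trans eT).symm (e.trans eT).symm
      (w : Matrix (Fin t → Fin k) (Fin t → Fin k) F)) i j = Matrix.reindex eT.symm eT.symm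
      (w : Matrix (Fin t → Fin k) (Fin t → Fin k) F) i j
    simp
  constructor
  · rintro ⟨_, ⟨w, hw, rfl⟩, hg⟩
    exact ⟨_, ⟨w, hw, rfl⟩, (glReindex e).injective ((key w).trans hg)⟩
  · rintro ⟨_, ⟨w, hw, rfl⟩, rfl⟩
    exact ⟨_, ⟨w, hw, rfl⟩, (key w).symm⟩

/-- `H` lies in the member `X`, which does not contain the isometry group. -/
def LiesIn (f : (ι → F) → (ι → F) → F) (H X : Subgroup (GL ι F)) : Prop :=
  H ≤ X ∧ ¬ isomI f ≤ X

theorem LiesIn.eq {H X : Subgroup (GL ι F)} (h : LiesIn f H X) (hH : IsMaximalIn (isomI f) H) :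
    H = X ⊓ isomI f := by
  rcases hH.2 (X ⊓ isomI f) (le_inf h.1 hH.1.le) inf_le_right with e | e
  · exact e.symm
  · exact absurd (inf_eq_right.mp e) h.2

/-- The proper members of the classes in which a subgroup of a symplectic group can lie. -/
def SpLe [Fintype F] (d : ℕ) (f : (ι → F) → (ι → F) → F) (H : Subgroup (GL ι F)) : Prop :=
  (∃ W : Submodule F (ι → F), W ≠ ⊥ ∧ IsTotallySingularFor f W ∧
      LiesIn f H (subspaceStabilizer W)) ∨
  (∃ W : Submodule F (ι → F), W ≠ ⊥ ∧ IsNondegenerateOn f W ∧ 2 * Module.finrank F W < d ∧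
      LiesIn f H (subspaceStabilizer W)) ∨
  (∃ (t k : ℕ) (D : Fin t → Submodule F (ι → F)), Even k ∧ 2 ≤ k ∧ 2 ≤ t ∧ t * k = d ∧
      (k = 2 → 3 ≤ Fintype.card F) ∧
      IsNondegenerateMDecomposition f k D ∧ LiesIn f H (decompositionStabilizer D)) ∨
  (Odd (Fintype.card F) ∧ ∃ (k : ℕ) (D : Fin 2 → Submodule F (ι → F)), 2 * k = d ∧
      IsMDecomposition k D ∧ (∀ i, IsTotallySingularFor f (D i)) ∧
      LiesIn f H (decompositionStabilizer D)) ∨
  (∃ (r : ℕ) (K : Subalgebra F (Matrix ι ι F)), r.Prime ∧ 2 * r ∣ d ∧ IsFieldSubalgebra r K ∧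
      IsSelfAdjointFor f K ∧ (∀ k ∈ K, ∀ v, f (k *ᵥ v) v = 0) ∧
      LiesIn f H (subalgebraNormalizer K)) ∨
  (Odd (Fintype.card F) ∧ ∃ K : Subalgebra F (Matrix ι ι F), IsFieldSubalgebra 2 K ∧
      IsAdjointClosedFor f K ∧ ¬ IsSelfAdjointFor f K ∧ LiesIn f H (subalgebraNormalizer K)) ∨
  (Odd (Fintype.card F) ∧ ∃ (n₁ n₂ : ℕ) (eT : ι ≃ Fin n₁ × Fin n₂) (P : GL ι F)
      (f₁ : (Fin n₁ → F) → (Fin n₁ → F) → F) (f₂ : (Fin n₂ → F) → (Fin n₂ → F) → F),
      2 ≤ n₁ ∧ Even n₁ ∧ 3 ≤ n₂ ∧ n₁ * n₂ = d ∧ (n₂ = 3 → 5 ≤ Fintype.card F) ∧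
      IsSymplecticForm f₁ ∧ IsSymmetricForm f₂ ∧
      IsTensorFormStructure id f f₁ f₂ eT P ∧ LiesIn f H (tensorProductSubgroup n₁ n₂ eT P)) ∨
  (∃ (F₀ : Subfield F) (r : ℕ) (P : GL ι F) (ζ : F), r.Prime ∧
      Fintype.card F = Nat.card F₀ ^ r ∧ ζ ≠ 0 ∧ IsFormRationalStructure f F₀ ζ P ∧
      LiesIn f H (subfieldSubgroup F₀ P)) ∨
  (¬ Odd (Fintype.card F) ∧ ∃ Q : (ι → F) → F, IsNondegenerateQuadraticForm Q ∧
      (∀ u v, QuadraticMap.polar Q u v = f u v) ∧ LiesIn f H (quadSimilarityGroup Q)) ∨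
  (∃ (R : Subgroup (GL ι F)) (p k : ℕ), d = 2 ^ k ∧ IsSymplecticTypeGroup 2 R ∧
      ActsAbsolutelyIrreducibly (matrixSet R) ∧ R ≤ similarityGroup f ∧ p.Prime ∧ Odd p ∧
      Fintype.card F = p ∧ Nat.card R = 2 ^ (1 + 2 * k) ∧ Nat.card (Subgroup.center R) = 2 ∧
      IsOfMinusType k R ∧ LiesIn f H (subgroupNormalizer R)) ∨
  (∃ (k t : ℕ) (eT : ι ≃ (Fin t → Fin k)) (P : GL ι F) (f₁ : (Fin k → F) → (Fin k → F) → F),
      Odd (Fintype.card F) ∧ Odd t ∧ 3 ≤ t ∧ 2 ≤ k ∧ k ^ t = d ∧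
      ¬ (Fintype.card F = 3 ∧ k = 2) ∧ IsSymplecticForm f₁ ∧
      IsTensorPowerFormStructure id f f₁ eT P ∧ LiesIn f H (tensorWreathSubgroup k t eT P)) ∨
  InSymplecticResidualClass H

end CfsgLib.Classical.AschSp
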