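import Cfsg.Agent.Lib.Classical.AschSp.CubeEight

/-!
# Degree eight on any index type
-/

set_option autoImplicit false
set_option linter.unusedSectionVars false

namespace CfsgLib.Classical.AschSp

open Matrix Cfsg Cfsg.Geo CfsgLib.Classical.AschPrime CfsgLib.Classical.AschGen
open CfsgLib.Classical.OrthPrime (coord mulVec_coord mulVec_coord_symm)
open scoped MatrixGroups

variable {ι : Type} [Fintype ι] [DecidableEq ι] {F : Type*} [Field F] [Fintype F]
variable {f : (ι → F) → (ι → F) → F}

/-- The plus type tensor class in degree eight, on any index type. -/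
theorem plus_back (e : ι ≃ Fin 8) (hf : IsSymplecticForm f) (ho : Odd (Fintype.card F))
    {eT : ι ≃ Fin 2 × Fin 4} {P : GL ι F}
    {f₁ : (Fin 2 → F) → (Fin 2 → F) → F} {f₂ : (Fin 4 → F) → (Fin 4 → F) → F}
    (hf1 : IsSymplecticForm f₁) (hf2 : IsSymmetricForm f₂)
    (hplus : IsPlusTypeOn (fun v => f₂ v v) ⊤) (hst : IsTensorFormStructure id f f₁ f₂ eT P)
    {H : Subgroup (GL ι F)} (hH : H ≤ isomI f) (hle : H ≤ tensorProductSubgroup 2 4 eT P) :
    (5 ≤ Fintype.card F ∧ ∃ (eW : ι ≃ (Fin 3 → Fin 2)) (P' : GL ι F) (g : (Fin 2 → F) → (Fin 2 → F) → F),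
      IsSymplecticForm g ∧ IsTensorPowerFormStructure id f g eW P' ∧
      LiesIn f H (tensorWreathSubgroup 2 3 eW P')) ∨
    (∃ R : Subgroup (GL ι F), Fintype.card F = 3 ∧ IsSymplecticTypeGroup 2 R ∧
      ActsAbsolutelyIrreducibly (matrixSet R) ∧ R ≤ similarityGroup f ∧ Nat.card R = 128 ∧
      Nat.card (Subgroup.center R) = 2 ∧ IsOfMinusType 3 R ∧ LiesIn f H (subgroupNormalizer R)) := by
  classical
  have hf' := ft_symp e hf
  set φ := (glReindex (F := F) e).toMonoidHom
  have hH' : H.map φ ≤ isomSubgroup (ft e f) := map_isom e (f := f) ▸ Subgroup.map_mono hH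
  have hback : ∀ (X : Subgroup (GL (Fin 8) F)) (Y : Subgroup (GL ι F)),
      (∀ g, glReindex e g ∈ X ↔ g ∈ Y) → H.map φ ≤ X → ¬ isomSubgroup (ft e f) ≤ X →
        LiesIn f H Y := by
    intro X Y hXY hle hX
    refine ⟨fun g hg => (hXY g).mp (hle ⟨g, hg, rfl⟩), fun hall => hX ?_⟩
    rw [← map_isom e (f := f)]
    rintro _ ⟨g, hg, rfl⟩
    exact (hXY g).mpr (hall hg)
  have h2 : (2 : F) ≠ 0 := fun h => by
    haveI : CharP F 2 := CharTwo.of_one_ne_zero_of_two_eq_zero one_ne_zero h
    have := FiniteField.even_card_iff_char_two.mp (ringChar.eq F 2)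
    obtain ⟨c, hc⟩ := ho
    omega
  have hee : e.trans (e.symm.trans eT) = eT := by ext i <;> simp
  have hst' : IsTensorFormStructure id (ft e f) f₁ f₂ (e.symm.trans eT) (glReindex e P) := by
    obtain ⟨c, hc0, hc⟩ := hst
    refine ⟨c, hc0, fun x y => ?_⟩
    have hx : ∀ z : Fin 2 × Fin 4 → F, z ∘ eT = (coord e).symm (z ∘ e.symm.trans eT) := fun z => by
      funext i
      show z (eT i) = z (eT (e.symm (e i)))
      rw [e.symm_apply_apply]
    have h := hc x y
    rw [hx, hx, mulVec_coord_symm, mulVec_coord_symm] at h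
    exact h
  have hle' : H.map φ ≤ tensorProductSubgroup 2 4 (e.symm.trans eT) (glReindex e P) := by
    rintro _ ⟨g, hg, rfl⟩
    refine (mem_tensor_reindex e (e.symm.trans eT) (glReindex e P) g).mpr ?_
    rw [hee, MulEquiv.symm_apply_apply]
    exact hle hg
  obtain ⟨eW, P', c, hc0, hW, hHW⟩ := plus_cube hf' h2 hf1 hf2 hplus hst' hH' hle'
  by_cases h5 : 5 ≤ Fintype.card F
  · left
    have hstW : IsTensorPowerFormStructure id (ft e f) (formOfGram id (planeGram : Mat 2 F)) eW P' :=
      ⟨c, hc0, fun x y => by rw [hW, powGram_sum]⟩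
    refine ⟨h5, e.trans eW, (glReindex e).symm P', _, planeForm_symplectic, ?_,
      hback _ _ (mem_wreath_reindex e eW P') hHW
        (isom_not_le_power hf' le_rfl (by norm_num) planeForm_symplectic hstW)⟩
    obtain ⟨c', hc', hc⟩ := hstW
    refine ⟨c', hc', fun x y => ?_⟩
    obtain ⟨R, rfl⟩ := (glReindex (F := F) e).surjective P'
    rw [MulEquiv.symm_apply_apply]
    have hx : ∀ z : (Fin 3 → Fin 2) → F, (coord e).symm (z ∘ eW) = z ∘ (e.trans eW) := fun z => rfl
    have := hc x y
    simp only [ft] at this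
    rw [← mulVec_coord_symm, ← mulVec_coord_symm, hx, hx] at this
    exact this
  · right
    have hq : Fintype.card F = 3 := by
      have := Fintype.one_lt_card (α := F)
      obtain ⟨c', hc'⟩ := ho
      omega
    obtain ⟨R, p, k, hdk, hsym, habs, hRI, hp, hpodd, hpq, hcard, hcen, hmin, hinv, hleR⟩ :=
      wreath_symType eW P' hf' hq (by norm_num) hW hH' hHW
    obtain rfl : k = 3 := Nat.pow_right_injective le_rfl (show 2 ^ k = 2 ^ 3 by rw [← hdk])
    refine ⟨backR e R, hq, backR_symplecticType e hsym, backR_absIrred e habs,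
      fun g hg => ⟨1, fun u v => ?_⟩, by rw [Nat.card_congr (backEquiv e R).toEquiv, hcard]; rfl,
      by rw [backR_center e R, hcen], backR_minus e hmin,
      hback _ _ (fun g => mem_subgroupNormalizer_reindex e g R) hleR
        (isom_not_le_symType hf' (by norm_num) h2 hRI (by rw [hsym.exponent_eq]; rfl) hinv)⟩
    rw [Units.val_one, one_mul]
    exact (mem_isom_iff e g).mp (hRI hg) u v

end CfsgLib.Classical.AschSp
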