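import Cfsg.Agent.Lib.Classical.AschSp.WreathThree
import Cfsg.Agent.Lib.Classical.AschSp.Classes

/-!
# Degree eight: the tensor class with a factor of plus type
-/

set_option autoImplicit false
set_option linter.unusedSectionVars false

namespace CfsgLib.Classical.AschSp

open Matrix Cfsg Cfsg.Geo CfsgLib.Classical.AschPrime CfsgLib.Classical.AschGen
open CfsgLib.Classical.OrthPrime (coord mulVec_coord mulVec_coord_symm)
open scoped MatrixGroups Kronecker

variable {F : Type*} [Field F] [Fintype F]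

theorem powGram_sum {t : ℕ} (x y : (Fin t → Fin 2) → F) :
    ∑ a, ∑ b, x a * (∏ i, gramMatrix (formOfGram id (planeGram : Mat 2 F)) (a i) (b i)) * id (y b) =
      x ⬝ᵥ (powGram F t *ᵥ y) := by
  simp only [gram_fog, dotProduct, Matrix.mulVec, Finset.mul_sum, id_eq, mul_assoc]
  rfl

theorem planeForm_symplectic : IsSymplecticForm (formOfGram id (planeGram : Mat 2 F)) := by
  refine fog_symplectic (.of_mul_eq_one _ plane_mul_neg) ⟨?_, fun i => by fin_cases i <;> simp [planeGram]⟩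
  rw [plane_transpose, neg_smul, one_smul]

theorem fog_dot {ι : Type} [Fintype ι] (G : Matrix ι ι F) (x y : ι → F) :
    formOfGram id G x y = x ⬝ᵥ (G *ᵥ y) := by
  simp only [formOfGram, dotProduct, Matrix.mulVec, Finset.mul_sum, id_eq, mul_assoc]

/-- The split of the index set. -/
def cubeEquiv : (Fin 3 → Fin 2) ≃ Fin 2 × Fin 4 where
  toFun x := (x 0, finProdFinEquiv (m := 2) (n := 2) (x 1, x 2))
  invFun p := ![p.1, ((finProdFinEquiv (m := 2) (n := 2)).symm p.2).1, ((finProdFinEquiv (m := 2) (n := 2)).symm p.2).2]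
  left_inv := by decide
  right_inv := by decide

theorem cube_perm : ∀ x y : Fin 3 → Fin 2, y = x ∘ Equiv.swap (1 : Fin 3) 2 ↔
    (x 0 = y 0 ∧ (y 1, y 2) = Prod.swap (x 1, x 2)) := by decide

/-- A tensor decomposition with a plus type factor refines to a cube of the plane. -/
theorem plus_cube {f : (Fin 8 → F) → (Fin 8 → F) → F} (hf : IsSymplecticForm f) (h2 : (2 : F) ≠ 0)
    {e : Fin 8 ≃ Fin 2 × Fin 4} {P : GL (Fin 8) F}
    {f₁ : (Fin 2 → F) → (Fin 2 → F) → F} {f₂ : (Fin 4 → F) → (Fin 4 → F) → F}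
    (hf1 : IsSymplecticForm f₁) (hf2 : IsSymmetricForm f₂)
    (hplus : IsPlusTypeOn (fun v => f₂ v v) ⊤) (hst : IsTensorFormStructure id f f₁ f₂ e P)
    {H : Subgroup (GL (Fin 8) F)} (hH : H ≤ isomSubgroup f) (hle : H ≤ tensorProductSubgroup 2 4 e P) :
    ∃ (eT : Fin 8 ≃ (Fin 3 → Fin 2)) (P' : GL (Fin 8) F) (c : F), c ≠ 0 ∧
      (∀ x y : (Fin 3 → Fin 2) → F, f ((P' : Mat 8 F) *ᵥ (x ∘ eT)) ((P' : Mat 8 F) *ᵥ (y ∘ eT)) =
        c * (x ⬝ᵥ (powGram F 3 *ᵥ y))) ∧ H ≤ tensorWreathSubgroup 2 3 eT P' := by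
  classical
  obtain ⟨c, hc0, hc⟩ := hst
  set G1 := gramMatrix f₁ with hG1
  set G2 := gramMatrix f₂ with hG2
  set g := G1 0 1 with hg
  have hG1e : G1 = g • planeGram := by
    ext i j
    fin_cases i <;> fin_cases j <;> simp [planeGram, hg, hG1, gramMatrix]
    · exact hf1.alternating _
    · rw [hf1.skew]
    · exact hf1.alternating _
  have hG10 : G1 ≠ 0 := ((isSesq_of_bilinear hf1.bilinear).isUnit_gram hf1.nondegenerate).ne_zero
  have hg0 : g ≠ 0 := fun h => hG10 (by rw [hG1e, h, zero_smul])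
  have hG20 : G2 ≠ 0 := ((isSesq_of_bilinear hf2.bilinear).isUnit_gram hf2.nondegenerate).ne_zero
  obtain ⟨Q, hQ⟩ := plus_normal_form h2 hf2 hplus
  let e4 : Fin 4 ≃ Fin 2 × Fin 2 := (finProdFinEquiv (m := 2) (n := 2)).symm
  set J2 : M22 F := (planeGram : Mat 2 F) ⊗ₖ planeGram with hJ2
  let Q' : Mat 4 F := Q.submatrix id e4
  have hQ' : Q'ᵀ * G2 * Q' = J2.submatrix e4 e4 := by
    ext i j
    rw [Matrix.submatrix_apply, ← hQ]
    simp [Q', Matrix.mul_apply, hG2]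
  have hQu : IsUnit Q' := by
    refine (Matrix.isUnit_iff_isUnit_det _).mpr ?_
    have h := congrArg Matrix.det hQ'
    rw [Matrix.det_mul, Matrix.det_mul, Matrix.det_submatrix_equiv_self, Matrix.det_kronecker] at h
    have hd : (planeGram : Mat 2 F).det = 1 := by simp [planeGram, Matrix.det_fin_two]
    rw [hd, one_pow, one_mul] at h
    exact IsUnit.of_mul_eq_one_right _ h
  let q : GL (Fin 4) F := hQu.unit
  have hqv : (q : Mat 4 F) = Q' := rfl
  let S : GL (Fin 2 × Fin 4) F := ⟨(1 : Mat 2 F) ⊗ₖ (q : Mat 4 F),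
    (1 : Mat 2 F) ⊗ₖ ((q⁻¹ : GL (Fin 4) F) : Mat 4 F),
    by rw [← Matrix.mul_kronecker_mul, mul_one, Units.mul_inv, Matrix.one_kronecker_one],
    by rw [← Matrix.mul_kronecker_mul, mul_one, Units.inv_mul, Matrix.one_kronecker_one]⟩
  let P' : GL (Fin 8) F := P * glReindex e.symm S
  let eT : Fin 8 ≃ (Fin 3 → Fin 2) := e.trans cubeEquiv.symm
  have hP' : ∀ x : (Fin 3 → Fin 2) → F, (P' : Mat 8 F) *ᵥ (x ∘ eT) =
      (P : Mat 8 F) *ᵥ (((S : Matrix (Fin 2 × Fin 4) (Fin 2 × Fin 4) F) *ᵥ (x ∘ cubeEquiv.symm)) ∘ e) := by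
    intro x
    rw [show (P' : Mat 8 F) = (P : Mat 8 F) *
      (S : Matrix (Fin 2 × Fin 4) (Fin 2 × Fin 4) F).submatrix e e from rfl, ← Matrix.mulVec_mulVec]
    congr 1
    rw [Matrix.submatrix_mulVec_equiv]
    congr 2
    funext p
    simp [eT]
  refine ⟨eT, P', c * g, mul_ne_zero hc0 hg0, fun x y => ?_, fun h hh => ?_⟩
  · rw [hP', hP', hc, fog_dot, Matrix.mulVec_mulVec, ← Matrix.vecMul_transpose,
      ← Matrix.dotProduct_mulVec, Matrix.mulVec_mulVec, ← mul_assoc]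
    have hid : (S : Matrix (Fin 2 × Fin 4) (Fin 2 × Fin 4) F)ᵀ * (G1 ⊗ₖ G2) *
        (S : Matrix (Fin 2 × Fin 4) (Fin 2 × Fin 4) F) =
          g • (powGram F 3).submatrix cubeEquiv.symm cubeEquiv.symm := by
      show ((1 : Mat 2 F) ⊗ₖ (q : Mat 4 F))ᵀ * (G1 ⊗ₖ G2) * ((1 : Mat 2 F) ⊗ₖ (q : Mat 4 F)) = _
      rw [← Matrix.kroneckerMap_transpose, ← Matrix.mul_kronecker_mul, ← Matrix.mul_kronecker_mul,
        Matrix.transpose_one, one_mul, mul_one, hqv, hQ', hG1e, Matrix.smul_kronecker]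
      congr 1
      ext ⟨i, i'⟩ ⟨j, j'⟩
      simp [powGram, pureT_apply, Fin.prod_univ_three, cubeEquiv, e4, hJ2, Matrix.kroneckerMap_apply,
        mul_assoc]
    rw [hid, Matrix.smul_mulVec, dotProduct_smul, smul_eq_mul, mul_assoc, Matrix.submatrix_mulVec_equiv]
    congr 2
    simp only [dotProduct]
    exact Fintype.sum_equiv cubeEquiv.symm _ _ fun i => by simp [Function.comp_def]
  obtain ⟨a, b, hab⟩ := (mem_tensor_iff e P).mp (hle hh)
  have hb : ∃ μ : F, (b : Mat 4 F)ᵀ * G2 * (b : Mat 4 F) = μ • G2 := by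
    have hG : tGram e P f = (c • G1) ⊗ₖ G2 := by
      ext p p'
      rw [tGram_apply e P hf]
      have hs : ∀ p, (Pi.single p 1 : Fin 2 × Fin 4 → F) ∘ e = Pi.single (e.symm p) 1 := fun p => by
        funext l; simp [Pi.single_apply, Equiv.eq_symm_apply]
      rw [← hs, ← hs, hc, fog_dot, single_one_dotProduct, Matrix.mulVec_single_one,
        Matrix.smul_kronecker]
      rfl
    obtain ⟨a', b', μ, -, hab', hb', -⟩ := factor_sim hf hG
      (fun h0 => hG10 ((smul_eq_zero.mp h0).resolve_left hc0)) hG20 (hH hh) (hle hh)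
    have hk := pull_injective e P (hab'.symm.trans hab)
    obtain ⟨ν, hν, hbν, -⟩ := kron_eq hk.symm a'.ne_zero b'.ne_zero
    refine ⟨ν * ν * μ, ?_⟩
    rw [hbν, Matrix.transpose_smul, Matrix.smul_mul, Matrix.smul_mul, Matrix.mul_smul, smul_smul, hb',
      smul_smul]
  obtain ⟨μ, hb⟩ := hb
  -- the middle matrix
  set qi : Mat 4 F := ((q⁻¹ : GL (Fin 4) F) : Mat 4 F)
  let B4 : GL (Fin 4) F := q⁻¹ * b * q
  let B : (M22 F)ˣ := glReindex e4 B4
  have hB : (B : M22 F)ᵀ * J2 * (B : M22 F) = μ • J2 := by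
    have h4 : (B4 : Mat 4 F)ᵀ * J2.submatrix e4 e4 * (B4 : Mat 4 F) = μ • J2.submatrix e4 e4 := by
      rw [← hQ', ← hqv, Units.val_mul, Units.val_mul]
      calc (qi * (b : Mat 4 F) * (q : Mat 4 F))ᵀ * ((q : Mat 4 F)ᵀ * G2 * (q : Mat 4 F)) *
            (qi * (b : Mat 4 F) * (q : Mat 4 F))
          = (q : Mat 4 F)ᵀ * ((b : Mat 4 F)ᵀ * (((q : Mat 4 F) * qi)ᵀ * G2 * ((q : Mat 4 F) * qi)) *
              (b : Mat 4 F)) * (q : Mat 4 F) := by simp only [Matrix.transpose_mul, mul_assoc]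
        _ = _ := by
          rw [show (q : Mat 4 F) * qi = 1 from Units.mul_inv q, Matrix.transpose_one, one_mul, mul_one,
            hb, Matrix.mul_smul, Matrix.smul_mul]
    have := congrArg (fun M : Mat 4 F => M.submatrix e4.symm e4.symm) h4
    simp only [← Matrix.submatrix_mul_equiv _ _ _ e4.symm, Matrix.submatrix_smul, Pi.smul_apply,
      Matrix.submatrix_submatrix, Equiv.self_comp_symm, Matrix.submatrix_id_id] at this
    exact this
  obtain ⟨x, y, hxy⟩ := similitude_pure h2 B hB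
  -- back to the cube
  have hgen : ∀ w : GL (Fin 3 → Fin 2) F, (w ∈ tensorWreathStandard 2 3 F) →
      ∀ k : GL (Fin 2 × Fin 4) F, (∀ i j, (w : Matrix (Fin 3 → Fin 2) (Fin 3 → Fin 2) F)
        (cubeEquiv.symm i) (cubeEquiv.symm j) = (k : Matrix (Fin 2 × Fin 4) (Fin 2 × Fin 4) F) i j) →
      P * glReindex e.symm (S * k * S⁻¹) * P⁻¹ ∈ tensorWreathSubgroup 2 3 eT P' := by
    intro w hw k hk
    refine ⟨_, ⟨w, hw, rfl⟩, ?_⟩
    show P' * glReindex eT.symm w * P'⁻¹ = _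
    have : glReindex eT.symm w = glReindex e.symm k := by
      refine Units.ext (Matrix.ext fun i j => ?_)
      exact hk (e i) (e j)
    rw [this]
    simp only [P', map_mul, map_inv, _root_.mul_inv_rev, mul_assoc]
  let K : GL (Fin 2 × Fin 4) F := ⟨(a : Mat 2 F) ⊗ₖ (B4 : Mat 4 F),
    ((a⁻¹ : GL (Fin 2) F) : Mat 2 F) ⊗ₖ ((B4⁻¹ : GL (Fin 4) F) : Mat 4 F),
    by rw [← Matrix.mul_kronecker_mul, Units.mul_inv, Units.mul_inv, Matrix.one_kronecker_one],
    by rw [← Matrix.mul_kronecker_mul, Units.inv_mul, Units.inv_mul, Matrix.one_kronecker_one]⟩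
  have hhK : h = P * glReindex e.symm (S * K * S⁻¹) * P⁻¹ := by
    refine Units.ext ?_
    have h1 : ((S * K * S⁻¹ : GL (Fin 2 × Fin 4) F) : Matrix (Fin 2 × Fin 4) (Fin 2 × Fin 4) F) =
        (a : Mat 2 F) ⊗ₖ (b : Mat 4 F) := by
      show ((1 : Mat 2 F) ⊗ₖ (q : Mat 4 F)) * ((a : Mat 2 F) ⊗ₖ (B4 : Mat 4 F)) * ((1 : Mat 2 F) ⊗ₖ qi) = _
      rw [← Matrix.mul_kronecker_mul, ← Matrix.mul_kronecker_mul, one_mul, mul_one, Units.val_mul,
        Units.val_mul]
      simp only [mul_assoc, show (q : Mat 4 F) * qi = 1 from Units.mul_inv q, mul_one, qi,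
        Units.mul_inv_cancel_left]
    rw [Units.val_mul, Units.val_mul, show ((glReindex e.symm (S * K * S⁻¹) : GL (Fin 8) F) : Mat 8 F) =
      Matrix.reindex e.symm e.symm ((S * K * S⁻¹ : GL (Fin 2 × Fin 4) F) :
        Matrix (Fin 2 × Fin 4) (Fin 2 × Fin 4) F) from rfl, h1, hab, pull_apply]
  have hB4 : ∀ i j, (B4 : Mat 4 F) i j = (B : M22 F) (e4 i) (e4 j) := fun i j => by
    show _ = (B4 : Mat 4 F) (e4.symm (e4 i)) (e4.symm (e4 j))
    simp
  rw [hhK]
  rcases hxy with hxy | hxy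
  · refine hgen (pureUnit ![a, x, y]) (Subgroup.subset_closure (.inl (pureUnit_isPure _))) K fun i j => ?_
    obtain ⟨i, i'⟩ := i
    obtain ⟨j, j'⟩ := j
    show pureT _ _ _ = (a : Mat 2 F) i j * (B4 : Mat 4 F) i' j'
    rw [hB4, hxy]
    simp [pureT_apply, Fin.prod_univ_three, cubeEquiv, e4, Matrix.kroneckerMap_apply, mul_assoc]
  · refine hgen (permUnit (Equiv.swap (1 : Fin 3) 2) * pureUnit ![a, x, y])
      (Subgroup.mul_mem _ (Subgroup.subset_closure (.inr (permUnit_isPerm _)))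
        (Subgroup.subset_closure (.inl (pureUnit_isPure _)))) K fun i j => ?_
    obtain ⟨i, i'⟩ := i
    obtain ⟨j, j'⟩ := j
    set s := cubeEquiv.symm (i, i')
    show ((Matrix.of fun u v : Fin 3 → Fin 2 => if v = u ∘ Equiv.swap (1 : Fin 3) 2 then (1 : F) else 0) *
      pureT (fun l => ((![a, x, y] l : GL (Fin 2) F) : Mat 2 F))) s (cubeEquiv.symm (j, j')) =
        (a : Mat 2 F) i j * (B4 : Mat 4 F) i' j'
    rw [hB4, hxy, swap22_mul, Matrix.mul_apply, Finset.sum_eq_single (s ∘ Equiv.swap (1 : Fin 3) 2)]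
    · have h0 : (Equiv.swap (1 : Fin 3) 2) 0 = 0 := by decide
      simp [s, pureT_apply, Fin.prod_univ_three, cubeEquiv, e4, Matrix.kroneckerMap_apply, h0, mul_assoc]
    · intro v _ hv
      simp [hv]
    · exact fun hn => absurd (Finset.mem_univ _) hn

end CfsgLib.Classical.AschSp
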