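import Cfsg.Agent.Lib.Classical.AschSp.Idempotents

/-!
# Field subalgebras closed under adjoints
-/

set_option autoImplicit false
set_option linter.unusedSectionVars false

namespace CfsgLib.Classical.AschSp

open Matrix Cfsg Cfsg.Geo CfsgLib.Classical.AschPrime CfsgLib.Classical.AschGen
open scoped MatrixGroups

variable {F : Type*} [Field F] [Fintype F] {n : ℕ}
variable {f : (Fin n → F) → (Fin n → F) → F}

/-- The structure of a field on a field subalgebra. -/
theorem isField_of {K : Subalgebra F (Mat n F)} (hn : 0 < n) (hcomm : ∀ x ∈ K, ∀ y ∈ K, x * y = y * x)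
    (hinv : ∀ x ∈ K, x ≠ 0 → ∃ y ∈ K, x * y = 1) : IsField K := by
  haveI : NeZero n := ⟨hn.ne'⟩
  exact { exists_pair_ne := ⟨0, 1, fun h => zero_ne_one (congrArg Subtype.val h)⟩
          mul_comm := fun x y => Subtype.ext (hcomm x x.2 y y.2)
          mul_inv_cancel := fun {x} hx => by
            obtain ⟨y, hy, h⟩ := hinv x x.2 fun h => hx (Subtype.ext h)
            exact ⟨⟨y, hy⟩, Subtype.ext h⟩ }

theorem adj_pow (hf : IsSymplecticForm f) (X : Mat n F) (k : ℕ) : adj f (X ^ k) = adj f X ^ k := by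
  induction k with
  | zero => rw [pow_zero, pow_zero, adj_one hf]
  | succ k ih => rw [pow_succ, adj_mul hf, ih, pow_succ']

/-- A subfield of a field subalgebra is closed under adjoints. -/
theorem adj_closed_sub (hf : IsSymplecticForm f) (hn : 0 < n) {Z K : Subalgebra F (Mat n F)}
    (hcomm : ∀ x ∈ Z, ∀ y ∈ Z, x * y = y * x) (hinv : ∀ x ∈ Z, x ≠ 0 → ∃ y ∈ Z, x * y = 1)
    (hZa : ∀ x ∈ Z, adj f x ∈ Z) (hKZ : K ≤ Z) {r : ℕ} (hK : IsFieldSubalgebra r K) :
    ∀ x ∈ K, adj f x ∈ K := by
  classical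
  intro x hx
  by_contra hax
  haveI : Finite K := Subtype.finite
  haveI : Fintype K := Fintype.ofFinite K
  haveI : Finite Z := Subtype.finite
  set N := Fintype.card K with hN
  have hN1 : 1 < N := by
    haveI : NeZero n := ⟨hn.ne'⟩
    exact Fintype.one_lt_card_iff.mpr ⟨0, 1, fun h => zero_ne_one (congrArg Subtype.val h)⟩
  have hpow : ∀ y ∈ K, y ^ N = y := by
    intro y hy
    letI : Field K := (isField_of hn hK.comm hK.inv).toField
    have h := congrArg Subtype.val (FiniteField.pow_card (⟨y, hy⟩ : K))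
    simpa using h
  letI : Field Z := (isField_of hn hcomm hinv).toField
  let ι : K → Z := fun y => ⟨(y : Mat n F), hKZ y.2⟩
  let a : Z := ⟨adj f x, hZa x (hKZ hx)⟩
  have hsub : ∀ z ∈ insert a (Finset.univ.image ι), z ^ N = z := by
    intro z hz
    rcases Finset.mem_insert.mp hz with rfl | hz
    · refine Subtype.ext ?_
      show (adj f x) ^ N = adj f x
      rw [← adj_pow hf, hpow x hx]
    · obtain ⟨y, -, rfl⟩ := Finset.mem_image.mp hz
      exact Subtype.ext (hpow y y.2)
  have hle : (insert a (Finset.univ.image ι)).card ≤ N := by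
    refine le_trans (Finset.card_le_card (t := (Polynomial.X ^ N - Polynomial.X : Polynomial Z).roots.toFinset)
      fun z hz => ?_) (le_trans (Multiset.toFinset_card_le _) ((Polynomial.card_roots' _).trans
      (FiniteField.X_pow_card_sub_X_natDegree_eq Z hN1).le))
    rw [Multiset.mem_toFinset, Polynomial.mem_roots (FiniteField.X_pow_card_sub_X_ne_zero Z hN1)]
    simp [hsub z hz]
  have hι : Function.Injective ι := fun y z h =>
    Subtype.ext (congrArg (fun w : Z => (w : Mat n F)) h)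
  rw [Finset.card_insert_of_notMem, Finset.card_image_of_injective _ hι] at hle
  · rw [Finset.card_univ] at hle; omega
  · rw [Finset.mem_image]
    rintro ⟨y, -, hy⟩
    have hy' : (y : Mat n F) = adj f x := congrArg (fun w : Z => (w : Mat n F)) hy
    exact hax (hy' ▸ y.2)

/-- A self-adjoint field: the form vanishes on `(k v, v)`. -/
theorem selfAdj_alternating (hf : IsSymplecticForm f) (hn : 0 < n) {r : ℕ}
    {K : Subalgebra F (Mat n F)} (hK : IsFieldSubalgebra r K) (hfix : ∀ k ∈ K, adj f k = k) :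
    ∀ k ∈ K, ∀ v, f (k *ᵥ v) v = 0 := by
  intro k hk v
  have hskew : f (k *ᵥ v) v = -f (k *ᵥ v) v := by
    conv_lhs => rw [hf.skew, ← hfix k hk, ← adj_spec hf]
  by_cases h2 : (2 : F) = 0
  swap
  · have : (2 : F) * f (k *ᵥ v) v = 0 := by linear_combination hskew
    exact (mul_eq_zero.mp this).resolve_left h2
  haveI : Finite K := Subtype.finite
  haveI : NeZero n := ⟨hn.ne'⟩
  letI : Field K := (isField_of hn hK.comm hK.inv).toField
  haveI : CharP F 2 := CharTwo.of_one_ne_zero_of_two_eq_zero one_ne_zero h2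
  haveI : CharP K 2 := charP_of_injective_algebraMap (algebraMap F K).injective 2
  obtain ⟨l, hl⟩ := FiniteField.isSquare_of_char_two (ringChar.eq K 2) (⟨k, hk⟩ : K)
  have hl' : k = (l : Mat n F) * (l : Mat n F) := by simpa using congrArg Subtype.val hl
  rw [hl', ← Matrix.mulVec_mulVec, adj_spec hf, hfix _ l.2, hf.alternating]

/-- The field cases. -/
def FieldCases (f : (Fin n → F) → (Fin n → F) → F) (H : Subgroup (GL (Fin n) F)) : Prop :=
  (∃ (r : ℕ) (K : Subalgebra F (Mat n F)), r.Prime ∧ IsFieldSubalgebra r K ∧ IsSelfAdjointFor f K ∧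
      (∀ k ∈ K, ∀ v, f (k *ᵥ v) v = 0) ∧ H ≤ subalgebraNormalizer K) ∨
  (∃ K : Subalgebra F (Mat n F), IsFieldSubalgebra 2 K ∧
      IsAdjointClosedFor f K ∧ ¬ IsSelfAdjointFor f K ∧ H ≤ subalgebraNormalizer K ∧
      ((2 : F) = 0 → ∃ k : Mat n F, k + adj f k = 1 ∧
        ∀ g ∈ H, conjHom g k = k ∨ conjHom g k = adj f k))

theorem field_dichotomy (hf : IsSymplecticForm f) (hn : 0 < n) {H : Subgroup (GL (Fin n) F)}
    (hH : H ≤ isomSubgroup f) {Z : Subalgebra F (Mat n F)} (hZn : NormalisedBy Z H)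
    (hcomm : ∀ x ∈ Z, ∀ y ∈ Z, x * y = y * x) (hinv : ∀ x ∈ Z, x ≠ 0 → ∃ y ∈ Z, x * y = 1)
    (hZa : ∀ x ∈ Z, adj f x ∈ Z) (hne : ∃ z ∈ Z, ∀ c : F, z ≠ c • 1) : FieldCases f H := by
  classical
  obtain ⟨r, K, hr, hK, hKZ, hle⟩ := prime_subfield hZn hcomm hinv hn hne
  have hKa := adj_closed_sub hf hn hcomm hinv hZa hKZ hK
  by_cases hfix : ∀ k ∈ K, adj f k = k
  · exact .inl ⟨r, K, hr, hK, fun k hk u v => by rw [adj_spec hf, hfix k hk],
      selfAdj_alternating hf hn hK hfix, hle⟩
  push Not at hfix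
  obtain ⟨z, hz, hzne⟩ := hfix
  haveI : Finite K := Subtype.finite
  haveI : NeZero n := ⟨hn.ne'⟩
  letI : Field K := (isField_of hn hK.comm hK.inv).toField
  haveI : Module.Finite F K := Module.Finite.of_finite
  let σ : K ≃ₐ[F] K :=
    { toFun := fun x => ⟨adj f x, hKa x x.2⟩
      invFun := fun x => ⟨adj f x, hKa x x.2⟩
      left_inv := fun x => Subtype.ext (adj_adj hf _)
      right_inv := fun x => Subtype.ext (adj_adj hf _)
      map_mul' := fun x y => Subtype.ext (by
        show adj f ((x : Mat n F) * (y : Mat n F)) = adj f (x : Mat n F) * adj f (y : Mat n F)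
        rw [adj_mul hf, hK.comm _ (hKa _ y.2) _ (hKa _ x.2)])
      map_add' := fun x y => Subtype.ext (adj_add hf _ _)
      commutes' := fun c => Subtype.ext (by
        show adj f (algebraMap F (Mat n F) c) = algebraMap F (Mat n F) c
        rw [one_smul_eq, adj_smul_one hf]) }
  have hord : orderOf σ = 2 := by
    refine orderOf_eq_prime (AlgEquiv.ext fun x => Subtype.ext (adj_adj hf _)) fun h => hzne ?_
    exact congrArg Subtype.val (AlgEquiv.congr_fun h ⟨z, hz⟩)
  have hr2 : r = 2 := by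
    have h := orderOf_dvd_natCard σ
    rw [hord, IsGalois.card_aut_eq_finrank, hK.finrank_eq] at h
    exact ((Nat.prime_dvd_prime_iff_eq Nat.prime_two hr).mp h).symm
  subst hr2
  have hnotself : ¬ IsSelfAdjointFor f K := fun h => hzne (adj_unique hf (h z hz))
  have hclosed : IsAdjointClosedFor f K := fun k hk => ⟨adj f k, hKa k hk, adj_spec hf k⟩
  refine .inr ⟨K, hK, hclosed, hnotself, hle, fun h2 => ?_⟩
  -- the fixed elements are scalars
  have hscal : ∀ y ∈ K, adj f y = y → ∃ c : F, y = c • 1 := by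
    intro y hy hyf
    let Kf : Subalgebra F K :=
      { carrier := {x | σ x = x}
        mul_mem' := fun {a b} (ha : σ a = a) (hb : σ b = b) => show σ (a * b) = a * b by
          rw [map_mul, ha, hb]
        add_mem' := fun {a b} (ha : σ a = a) (hb : σ b = b) => show σ (a + b) = a + b by
          rw [map_add, ha, hb]
        algebraMap_mem' := fun c => σ.commutes c }
    have h1 : Module.finrank F Kf = 1 := by
      have hlt : Subalgebra.toSubmodule Kf < ⊤ := lt_top_iff_ne_top.mpr fun h => hzne (by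
        have hm : (⟨z, hz⟩ : K) ∈ Subalgebra.toSubmodule Kf := h ▸ Submodule.mem_top
        exact congrArg Subtype.val (hm : σ ⟨z, hz⟩ = ⟨z, hz⟩))
      have h2' := Submodule.finrank_lt hlt.ne
      rw [Subalgebra.finrank_toSubmodule, hK.finrank_eq] at h2'
      have : 0 < Module.finrank F Kf := Module.finrank_pos
      omega
    have hbot := Subalgebra.eq_bot_of_finrank_one h1
    have hm : (⟨y, hy⟩ : K) ∈ Kf := Subtype.ext hyf
    rw [hbot, Algebra.mem_bot] at hm
    obtain ⟨c, hc⟩ := hm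
    exact ⟨c, by rw [← one_smul_eq]; exact (congrArg Subtype.val hc).symm⟩
  obtain ⟨d, hd⟩ := hscal (z + adj f z) (K.add_mem hz (hKa z hz))
    (by rw [adj_add hf, adj_adj hf, add_comm])
  have hd0 : d ≠ 0 := fun h0 => hzne (by
    rw [h0, zero_smul, add_eq_zero_iff_eq_neg] at hd
    have hneg : -adj f z = adj f z := by
      rw [← neg_one_smul F (adj f z), show (-1 : F) = 1 by linear_combination -h2, one_smul]
    rw [hneg] at hd
    exact hd.symm)
  set k := d⁻¹ • z with hk
  have hkK : k ∈ K := K.smul_mem hz _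
  have hk1 : k + adj f k = 1 := by
    rw [hk, adj_smul hf, ← smul_add, hd, smul_smul, inv_mul_cancel₀ hd0, one_smul]
  refine ⟨k, hk1, fun g hg => ?_⟩
  obtain ⟨c, hc⟩ := hscal (k * adj f k) (K.mul_mem hkK (hKa k hkK)) (by
    rw [adj_mul hf, adj_adj hf])
  set k' := conjHom g k with hk'
  have hk'K : k' ∈ K := (hle hg k).mp hkK
  have hk'1 : k' + adj f k' = 1 := by
    rw [hk', adj_conjHom hf (hH hg), ← map_add, hk1, map_one]
  have hk'c : k' * adj f k' = c • 1 := by
    rw [hk', adj_conjHom hf (hH hg), ← map_mul, hc, map_smul, map_one]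
  have hprod : (k' - k) * (k' - adj f k) = 0 := by
    have hcm : k * k' = k' * k := hK.comm k hkK k' hk'K
    rw [sub_mul, mul_sub, mul_sub, hcm, hc]
    have e1 : adj f k = 1 - k := eq_sub_of_add_eq' hk1
    have e2 : adj f k' = 1 - k' := eq_sub_of_add_eq' hk'1
    rw [e2, mul_sub, mul_one] at hk'c
    rw [e1, mul_sub, mul_one, ← hk'c]
    abel
  by_contra hne'
  push Not at hne'
  obtain ⟨y, hy, hxy⟩ := hK.inv _ (K.sub_mem hk'K hkK) (sub_ne_zero.mpr hne'.1)
  refine hne'.2 (sub_eq_zero.mp ?_)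
  rw [← one_mul (k' - adj f k), ← hxy, hK.comm _ (K.sub_mem hk'K hkK) y hy, mul_assoc, hprod,
    mul_zero]

end CfsgLib.Classical.AschSp
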