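import Cfsg.Agent.Lib.Classical.AschSp.FourThree
import Cfsg.Agent.Lib.Classical.AschSp.Field

/-!
# A unitary plane over nine elements inside the symplectic group of degree four
-/

set_option autoImplicit false
set_option linter.unusedSectionVars false

namespace CfsgLib.Classical.AschSp

open Matrix Cfsg Cfsg.Geo CfsgLib.Classical.AschPrime CfsgLib.Classical.AschGen
open scoped MatrixGroups Kronecker

variable {F : Type*} [Field F] [Fintype F] {n : ℕ}
variable {f : (Fin n → F) → (Fin n → F) → F}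

theorem three_cases (hq : Fintype.card F = 3) (c : F) : c = 0 ∨ c = 1 ∨ c = -1 := by
  rcases eq_or_ne c 0 with h | h
  · exact .inl h
  · have h1 := FiniteField.pow_card_sub_one_eq_one c h
    rw [hq] at h1
    exact .inr (mul_self_eq_one_iff.mp (by simpa [pow_two] using h1))

/-- A skew square root of minus one in a field that is not self-adjoint. -/
theorem exists_skew_root (hf : IsSymplecticForm f) (hn : 0 < n) (hq : Fintype.card F = 3)
    {K : Subalgebra F (Mat n F)} (hK : IsFieldSubalgebra 2 K) (hac : IsAdjointClosedFor f K)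
    (hnsa : ¬ IsSelfAdjointFor f K) :
    ∃ k ∈ K, k * k = -1 ∧ adj f k = -k ∧ ∀ y ∈ K, ∃ a b : F, y = a • 1 + b • k := by
  classical
  haveI : NeZero n := ⟨hn.ne'⟩
  have hcl : ∀ x ∈ K, adj f x ∈ K := fun x hx => by
    obtain ⟨x', hx', h⟩ := hac x hx
    rwa [adj_unique hf h]
  obtain ⟨x, hx, hne⟩ : ∃ x ∈ K, adj f x ≠ x := by
    by_contra hall
    push Not at hall
    exact hnsa fun x hx u v => by rw [adj_spec hf, hall x hx]
  set k := x - adj f x with hk
  have hkK : k ∈ K := K.sub_mem hx (hcl x hx)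
  have hadj : adj f k = -k := by
    have h := adj_add hf k (adj f x)
    rw [hk, sub_add_cancel, adj_adj hf] at h
    rw [hk]
    linear_combination (norm := abel) -h
  have hk0 : k ≠ 0 := sub_ne_zero.mpr (Ne.symm hne)
  have h2 : (2 : F) ≠ 0 := fun h => one_ne_zero (α := F) (by
    linear_combination three_eq_zero hq - h)
  have hsc : ∀ c : F, k ≠ c • 1 := by
    intro c hc
    have h := hadj
    rw [hc, adj_smul_one hf, ← neg_smul] at h
    have := congrFun (congrFun h 0) 0
    simp at this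
    have : c = 0 := (mul_eq_zero.mp (show (2 : F) * c = 0 by linear_combination this)).resolve_left h2
    exact hk0 (by rw [hc, this, zero_smul])
  have hli : LinearIndependent F ![(1 : Mat n F), k] := by
    rw [LinearIndependent.pair_iff]
    intro s t h
    by_cases ht : t = 0
    · rw [ht, zero_smul, add_zero] at h
      exact ⟨(smul_eq_zero.mp h).resolve_right one_ne_zero, ht⟩
    · exfalso
      refine hsc (-(s / t)) ?_
      have := congrArg (fun M => t⁻¹ • M) h
      simp only [smul_add, smul_smul, inv_mul_cancel₀ ht, one_smul, smul_zero] at this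
      rw [eq_neg_of_add_eq_zero_right this, neg_smul, div_eq_inv_mul]
  have hspan : ∀ y ∈ K, ∃ a b : F, y = a • 1 + b • k := by
    intro y hy
    have hsub : Submodule.span F (Set.range ![(1 : Mat n F), k]) = Subalgebra.toSubmodule K := by
      refine Submodule.eq_of_le_of_finrank_le (Submodule.span_le.mpr ?_) ?_
      · rintro _ ⟨i, rfl⟩
        fin_cases i
        · exact K.one_mem
        · exact hkK
      · rw [finrank_span_eq_card hli, Fintype.card_fin]
        exact hK.finrank_eq.le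
    have hy' : y ∈ Subalgebra.toSubmodule K := hy
    rw [← hsub, Matrix.range_cons, Matrix.range_cons, Matrix.range_empty, Set.union_empty,
      Submodule.span_union] at hy'
    obtain ⟨p, hp, q, hq', rfl⟩ := Submodule.mem_sup.mp hy'
    obtain ⟨a, rfl⟩ := Submodule.mem_span_singleton.mp hp
    obtain ⟨b, rfl⟩ := Submodule.mem_span_singleton.mp hq'
    exact ⟨a, b, rfl⟩
  obtain ⟨a, b, hab⟩ := hspan _ (K.mul_mem hkK hkK)
  have hb : b = 0 := by
    have h := adj_mul hf k k
    rw [hadj, neg_mul_neg, hab, adj_add hf, adj_smul_one hf, adj_smul hf, hadj] at h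
    have h' : (2 * b) • k = 0 := by
      rw [mul_smul, two_smul]
      linear_combination (norm := module) -h
    have := (smul_eq_zero.mp h').resolve_right hk0
    exact (mul_eq_zero.mp this).resolve_left h2
  rw [hb, zero_smul, add_zero] at hab
  refine ⟨k, hkK, ?_, hadj, hspan⟩
  rcases three_cases hq a with rfl | rfl | rfl
  · exfalso
    obtain ⟨y, hy, hky⟩ := hK.inv k hkK hk0
    apply hk0
    calc k = k * (k * y) := by rw [hky, mul_one]
      _ = 0 := by rw [← mul_assoc, hab, zero_smul, zero_mul]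
  · exfalso
    rw [one_smul] at hab
    have hne1 : k - 1 ≠ 0 := fun h => hsc 1 (by rw [one_smul]; exact sub_eq_zero.mp h)
    obtain ⟨y, hy, hky⟩ := hK.inv _ (K.sub_mem hkK K.one_mem) hne1
    have h0 : (k + 1) * (k - 1) = 0 := by
      rw [add_mul, mul_sub k k 1, hab, one_mul, mul_one]; abel
    refine hsc (-1) ?_
    have : k + 1 = 0 := by
      calc k + 1 = (k + 1) * ((k - 1) * y) := by rw [hky, mul_one]
        _ = 0 := by rw [← mul_assoc, h0, zero_mul]
    rw [neg_smul, one_smul]
    exact eq_neg_of_add_eq_zero_left this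
  · rw [hab, neg_smul, one_smul]

/-- The members of the commutant of the quarter turn. -/
theorem commute_form {M : Matrix (Fin 2 × Fin 2) (Fin 2 × Fin 2) F}
    (h : M * ((1 : Mat 2 F) ⊗ₖ qI) = ((1 : Mat 2 F) ⊗ₖ qI) * M) :
    M = (Matrix.of fun a b => M (a, 0) (b, 0)) ⊗ₖ (1 : Mat 2 F) +
      (Matrix.of fun a b => M (a, 1) (b, 0)) ⊗ₖ (qI : Mat 2 F) := by
  have key : ∀ a b c d, _ := fun a b c d => congrFun (congrFun h (a, c)) (b, d)
  ext ⟨a, c⟩ ⟨b, d⟩
  have h00 := key a b 0 0
  have h01 := key a b 0 1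
  have h10 := key a b 1 0
  simp only [Matrix.mul_apply, Fintype.sum_prod_type, Matrix.kroneckerMap_apply, Fin.sum_univ_two,
    Matrix.one_apply] at h00 h01 h10
  fin_cases a <;> fin_cases b <;> fin_cases c <;> fin_cases d <;>
    simp [qI, Matrix.kroneckerMap_apply, Matrix.one_apply] at h00 h01 h10 ⊢ <;>
    first | rfl | linear_combination h00 | linear_combination -h00 | linear_combination h10 |
      linear_combination -h10 | linear_combination h01 | linear_combination -h01

/-- An isometry centralising the quarter turn is a pure tensor. -/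
theorem pure_of_commute (hq : Fintype.card F = 3) {M : Matrix (Fin 2 × Fin 2) (Fin 2 × Fin 2) F}
    (h : M * ((1 : Mat 2 F) ⊗ₖ qI) = ((1 : Mat 2 F) ⊗ₖ qI) * M)
    (hM : Mᵀ * ((qAlt : Mat 2 F) ⊗ₖ (1 : Mat 2 F)) * M = qAlt ⊗ₖ 1) :
    ∃ (a b : GL (Fin 2) F), M = (a : Mat 2 F) ⊗ₖ (b : Mat 2 F) := by
  obtain ⟨A, B, hMe⟩ : ∃ A B : Mat 2 F, M = A ⊗ₖ (1 : Mat 2 F) + B ⊗ₖ (qI : Mat 2 F) :=
    ⟨_, _, commute_form h⟩
  subst hMe
  have hI : (qI : Mat 2 F)ᵀ = -qI := by ext i j; fin_cases i <;> fin_cases j <;> simp [qI]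
  have hII : (qI : Mat 2 F) * qI = -1 := by
    ext i j; fin_cases i <;> fin_cases j <;> simp [qI, Matrix.mul_apply, Fin.sum_univ_two]
  rw [Matrix.transpose_add, ← Matrix.kroneckerMap_transpose, ← Matrix.kroneckerMap_transpose,
    Matrix.transpose_one, hI] at hM
  simp only [add_mul, mul_add, ← Matrix.mul_kronecker_mul, qAlt_conj, mul_one, one_mul, neg_mul,
    hII, neg_neg] at hM
  have e00 : ∀ p r, A.det * qAlt p r + B.det * qAlt p r = qAlt p r := fun p r => by
    have := congrFun (congrFun hM (p, 0)) (r, 0)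
    simpa [qI, Matrix.kroneckerMap_apply] using this
  have e10 : ∀ p r : Fin 2, (Aᵀ * (qAlt : Mat 2 F) * B) p r = (Bᵀ * (qAlt : Mat 2 F) * A) p r := fun p r => by
    have := congrFun (congrFun hM (p, 1)) (r, 0)
    simp [qI, Matrix.kroneckerMap_apply] at this
    linear_combination this
  have hdet : A.det + B.det = 1 := by
    have := e00 0 1
    simp [qAlt] at this
    exact this
  -- proportionality
  have hprop : ∃ c : F, A.adjugate * B = c • 1 := by
    refine ⟨(A.adjugate * B) 0 0, ?_⟩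
    have h01 := e10 0 1
    have h11 := e10 1 1
    have h00' := e10 0 0
    simp [qAlt, Matrix.mul_apply, Fin.sum_univ_two] at h00' h01 h11
    have h2 : (2 : F) ≠ 0 := fun h => one_ne_zero (α := F) (by
      linear_combination three_eq_zero hq - h)
    ext i j
    fin_cases i <;> fin_cases j <;>
      simp [Matrix.adjugate_fin_two, Matrix.mul_apply, Fin.sum_univ_two]
    · exact (mul_eq_zero.mp (show (2 : F) * _ = 0 by linear_combination -h11)).resolve_left h2
    · exact (mul_eq_zero.mp (show (2 : F) * _ = 0 by linear_combination h00')).resolve_left h2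
    · linear_combination h01
  obtain ⟨c, hc⟩ := hprop
  have mk : ∀ (U N : Mat 2 F), U.det ≠ 0 → N.det ≠ 0 →
      ∃ (a b : GL (Fin 2) F), U ⊗ₖ N = (a : Mat 2 F) ⊗ₖ (b : Mat 2 F) := fun U N hU hN =>
    ⟨Matrix.GeneralLinearGroup.mkOfDetNeZero U hU, Matrix.GeneralLinearGroup.mkOfDetNeZero N hN, rfl⟩
  have hdetN : ∀ u v : F, (u ≠ 0 ∨ v ≠ 0) → (u • (1 : Mat 2 F) + v • qI).det ≠ 0 := by
    intro u v huv hz
    have : u * u + v * v = 0 := by
      simp [qI, Matrix.det_fin_two] at hz
      linear_combination hz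
    rcases three_cases hq u with rfl | rfl | rfl <;> rcases three_cases hq v with rfl | rfl | rfl <;>
      simp at huv this
    all_goals exact one_ne_zero (α := F) (by linear_combination three_eq_zero hq - this)
  by_cases hA : A.det = 0
  · have hB : B.det = 1 := by rw [hA, zero_add] at hdet; exact hdet
    have hs : A = (B.adjugate * A) 0 0 • B := by
      have h1 : B.adjugate * A = (A.adjugate * B).adjugate := by
        rw [Matrix.adjugate_mul_distrib, Matrix.adjugate_adjugate' A]
        simp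
      rw [hc, Matrix.adjugate_smul, Matrix.adjugate_one] at h1
      calc A = (B * B.adjugate) * A := by rw [Matrix.mul_adjugate, hB, one_smul, one_mul]
        _ = _ := by rw [mul_assoc, h1]; simp
    obtain ⟨a, b, hab⟩ := mk B ((B.adjugate * A) 0 0 • 1 + (1 : F) • qI) (by rw [hB]; exact one_ne_zero)
      (hdetN _ _ (.inr one_ne_zero))
    refine ⟨a, b, ?_⟩
    rw [← hab, Matrix.kronecker_add, Matrix.kronecker_smul, Matrix.kronecker_smul, one_smul,
      ← Matrix.smul_kronecker, ← hs]
  · have hs : B = (c / A.det) • A := by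
      calc B = (A.det)⁻¹ • ((A * A.adjugate) * B) := by
            rw [Matrix.mul_adjugate, Matrix.smul_mul, one_mul, smul_smul, inv_mul_cancel₀ hA, one_smul]
        _ = _ := by rw [mul_assoc, hc, Matrix.mul_smul, mul_one, smul_smul, div_eq_inv_mul]
    obtain ⟨a, b, hab⟩ := mk A ((1 : F) • 1 + (c / A.det) • qI) hA (hdetN _ _ (.inl one_ne_zero))
    refine ⟨a, b, ?_⟩
    rw [← hab, Matrix.kronecker_add, Matrix.kronecker_smul, Matrix.kronecker_smul, one_smul,
      ← Matrix.smul_kronecker, ← hs]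

theorem coords_apply (k : Mat 4 F) (v : Fin 2 → Fin 4 → F) :
    ∀ a : Fin 2, ∀ c : Fin 2, (if c = 0 then v a else k *ᵥ v a) = ![v a, k *ᵥ v a] c := by
  intro a c; fin_cases c <;> simp

/-- Over three elements, a field that is not self-adjoint gives a group of symplectic type. -/
theorem field_symType {f : (Fin 4 → F) → (Fin 4 → F) → F} (hf : IsSymplecticForm f)
    (hq : Fintype.card F = 3) {H : Subgroup (GL (Fin 4) F)} (hH : H ≤ isomSubgroup f)
    {K : Subalgebra F (Mat 4 F)} (hK : IsFieldSubalgebra 2 K) (hac : IsAdjointClosedFor f K)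
    (hnsa : ¬ IsSelfAdjointFor f K) (hle : H ≤ subalgebraNormalizer K) : SymTypeCase f H := by
  classical
  have h3 := three_eq_zero hq
  obtain ⟨k, hk, hkk, hadj, hspan⟩ := exists_skew_root hf (by norm_num) hq hK hac hnsa
  have hkkv : ∀ v, k *ᵥ (k *ᵥ v) = -v := fun v => by
    rw [Matrix.mulVec_mulVec, hkk, Matrix.neg_mulVec, Matrix.one_mulVec]
  have hneg : ∀ u v, f u (-v) = -f u v := fun u v => (bil hf u).map_neg v
  have hskew : ∀ u v, f (k *ᵥ u) v = -f u (k *ᵥ v) := fun u v => by
    rw [adj_spec hf, hadj, Matrix.neg_mulVec, ← bil_apply hf, map_neg, bil_apply hf]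
  have hkiso : ∀ u v, f (k *ᵥ u) (k *ᵥ v) = f u v := fun u v => by
    rw [hskew, hkkv, hneg, neg_neg]
  have hgsym : ∀ u v, f v (k *ᵥ u) = f u (k *ᵥ v) := fun u v => by
    rw [hf.skew v, hskew, neg_neg]
  set g := fun u v => f u (k *ᵥ v) with hg
  -- an isotropic vector
  obtain ⟨v1, hv1, hiso⟩ : ∃ v, v ≠ 0 ∧ g v v = 0 := by
    by_contra hno
    push Not at hno
    let u : Fin 4 → F := Pi.single 0 1
    have hu : u ≠ 0 := by simp [u]
    let T : (Fin 4 → F) →ₗ[F] (Fin 2 → F) :=
      LinearMap.pi ![(bil hf u), (bil hf (k *ᵥ u))]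
    obtain ⟨w, hw, hw0⟩ : ∃ w, T w = 0 ∧ w ≠ 0 := by
      by_contra hnk
      push Not at hnk
      have hinj : Function.Injective T := (injective_iff_map_eq_zero T).mpr hnk
      have := LinearMap.finrank_le_finrank_of_injective hinj
      simp at this
    have e1 : f u w = 0 := congrFun hw 0
    have e2 : f (k *ᵥ u) w = 0 := congrFun hw 1
    have e3 : f u (k *ᵥ w) = 0 := by linear_combination (hskew u w) - e2
    have e4 : f w (k *ᵥ u) = 0 := by rw [hgsym]; exact e3
    rcases three_cases hq (g u u) with ha | ha | ha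
    · exact hno u hu ha
    all_goals
      rcases three_cases hq (g w w) with hb' | hb' | hb'
      · exact hno w hw0 hb'
      all_goals
        simp only [hg] at ha hb' hno
        have hkw : f w (k *ᵥ (k *ᵥ w)) = 0 := by
          rw [hkkv, hneg, hf.alternating, neg_zero]
        have hkw2 : f (k *ᵥ w) (k *ᵥ u) = 0 := by
          rw [hkiso, hf.skew, e1, neg_zero]
        have hkw3 : f u (k *ᵥ (k *ᵥ w)) = 0 := by
          rw [hkkv, hneg, e1, neg_zero]
        have hkw4 : f (k *ᵥ w) (k *ᵥ w) = 0 := hf.alternating _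
        have key : ∀ z, f u z = 0 → f z (k *ᵥ u) = 0 → f u (k *ᵥ z) = 0 →
            f (u + z) (k *ᵥ (u + z)) = f u (k *ᵥ u) + f z (k *ᵥ z) := fun z _ z2 z3 => by
          rw [Matrix.mulVec_add, hf.bilinear.add_left, hf.bilinear.add_right, hf.bilinear.add_right,
            z2, z3]; ring
        have hne1 : ∀ z, f u z = 0 → f z (k *ᵥ u) = 0 → f u (k *ᵥ z) = 0 → u + z ≠ 0 := by
          intro z _ z2 _ h
          rw [eq_neg_of_add_eq_zero_right h, ← bil_apply hf, LinearMap.map_neg₂, bil_apply hf, ha] at z2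
          simp at z2
        first
          | (refine hno _ (hne1 w e1 e4 e3) ?_; rw [key w e1 e4 e3, ha, hb']; ring1)
          | (have z1 : f u (w + k *ᵥ w) = 0 := by rw [hf.bilinear.add_right, e1, e3, add_zero]
             have z2 : f (w + k *ᵥ w) (k *ᵥ u) = 0 := by rw [hf.bilinear.add_left, e4, hkw2, add_zero]
             have z3 : f u (k *ᵥ (w + k *ᵥ w)) = 0 := by
               rw [Matrix.mulVec_add, hf.bilinear.add_right, e3, hkw3, add_zero]
             refine hno _ (hne1 _ z1 z2 z3) ?_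
             rw [key _ z1 z2 z3, Matrix.mulVec_add, hf.bilinear.add_left, hf.bilinear.add_right,
               hf.bilinear.add_right, hkw, hkw4, hkiso w (k *ᵥ w), ha, hb']
             linear_combination h3)
          | (have z1 : f u (w + k *ᵥ w) = 0 := by rw [hf.bilinear.add_right, e1, e3, add_zero]
             have z2 : f (w + k *ᵥ w) (k *ᵥ u) = 0 := by rw [hf.bilinear.add_left, e4, hkw2, add_zero]
             have z3 : f u (k *ᵥ (w + k *ᵥ w)) = 0 := by
               rw [Matrix.mulVec_add, hf.bilinear.add_right, e3, hkw3, add_zero]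
             refine hno _ (hne1 _ z1 z2 z3) ?_
             rw [key _ z1 z2 z3, Matrix.mulVec_add, hf.bilinear.add_left, hf.bilinear.add_right,
               hf.bilinear.add_right, hkw, hkw4, hkiso w (k *ᵥ w), ha, hb']
             linear_combination -h3)
  simp only [hg] at hiso
  -- its partner
  obtain ⟨⟨x, hx⟩, -⟩ := hf.nondegenerate v1 hv1
  obtain ⟨w', hw1, hw2⟩ : ∃ w', f v1 w' = 1 ∧ f v1 (k *ᵥ w') = 0 := by
    set a := f v1 x
    set b := f v1 (k *ᵥ x)
    have ha : a ≠ 0 := fun h => hx (by rw [hf.skew]; simp [a] at h; rw [h, neg_zero])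
    have hd : a * a + b * b ≠ 0 := by
      intro hz
      rcases three_cases hq a with h | h | h <;> rcases three_cases hq b with h' | h' | h' <;>
        rw [h, h'] at hz <;> first
          | exact ha h
          | exact one_ne_zero (α := F) (by linear_combination hz)
          | exact one_ne_zero (α := F) (by linear_combination h3 - hz)
    refine ⟨(a / (a * a + b * b)) • x + (b / (a * a + b * b)) • (k *ᵥ x), ?_, ?_⟩
    · rw [hf.bilinear.add_right, hf.bilinear.smul_right, hf.bilinear.smul_right]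
      show _ * a + _ * b = 1
      rw [div_mul_eq_mul_div, div_mul_eq_mul_div, ← add_div, div_self hd]
    · rw [Matrix.mulVec_add, Matrix.mulVec_smul, Matrix.mulVec_smul, hf.bilinear.add_right,
        hf.bilinear.smul_right, hf.bilinear.smul_right, hkkv, hneg]
      show _ * b + _ * -a = 0
      ring
  have h2 : (2 : F) ≠ 0 := fun h => one_ne_zero (α := F) (by linear_combination h3 - h)
  obtain ⟨v2, hv21, hv22, hv23⟩ : ∃ v2, f v1 v2 = 1 ∧ f v1 (k *ᵥ v2) = 0 ∧ f v2 (k *ᵥ v2) = 0 := by
    set t := -f w' (k *ᵥ w') / 2 with ht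
    have hvv : f v1 (k *ᵥ (k *ᵥ v1)) = 0 := by
      rw [hkkv, hneg, hf.alternating, neg_zero]
    have h5 : f (k *ᵥ v1) (k *ᵥ w') = 1 := by rw [hkiso, hw1]
    have h6 : f w' (k *ᵥ (k *ᵥ v1)) = 1 := by
      rw [hkkv, hneg, hf.skew, hw1, neg_neg]
    have h7 : f (k *ᵥ v1) (k *ᵥ (k *ᵥ v1)) = 0 := by rw [hkiso, hiso]
    refine ⟨w' + t • (k *ᵥ v1), ?_, ?_, ?_⟩
    · rw [hf.bilinear.add_right, hf.bilinear.smul_right, hw1, hiso, mul_zero, add_zero]
    · rw [Matrix.mulVec_add, Matrix.mulVec_smul, hf.bilinear.add_right, hf.bilinear.smul_right, hw2,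
        hvv, mul_zero, add_zero]
    · rw [Matrix.mulVec_add, Matrix.mulVec_smul, hf.bilinear.add_left, hf.bilinear.add_right,
        hf.bilinear.add_right, hf.bilinear.smul_left, hf.bilinear.smul_left, hf.bilinear.smul_right,
        hf.bilinear.smul_right, h5, h6, h7, ht]
      field_simp
      ring
  -- coordinates
  let e : Fin 4 ≃ Fin 2 × Fin 2 := (finProdFinEquiv (m := 2) (n := 2)).symm
  let v : Fin 2 → Fin 4 → F := ![v1, v2]
  let col : Fin 2 × Fin 2 → Fin 4 → F := fun p => if p.2 = 0 then v p.1 else k *ᵥ v p.1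
  let Pm : Mat 4 F := Matrix.of fun i j => col (e j) i
  have hPcol : ∀ p, Pm *ᵥ Pi.single (e.symm p) 1 = col p := fun p => by
    rw [Matrix.mulVec_single_one]; funext i; simp [Pm, Matrix.col]
  have hgram : ∀ p q, f (col p) (col q) = ((qAlt : Mat 2 F) ⊗ₖ (1 : Mat 2 F)) p q := by
    have a1 : f v2 v1 = -1 := by rw [hf.skew, hv21]
    have a2 : f v2 (k *ᵥ v1) = 0 := by rw [hgsym, hv22]
    have a3 : f (k *ᵥ v1) v1 = 0 := by rw [hf.skew, hiso, neg_zero]
    have a4 : f (k *ᵥ v1) v2 = 0 := by rw [hf.skew, a2, neg_zero]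
    have a5 : f (k *ᵥ v2) v1 = 0 := by rw [hf.skew, hv22, neg_zero]
    have a6 : f (k *ᵥ v2) v2 = 0 := by rw [hf.skew, hv23, neg_zero]
    rintro ⟨a, c⟩ ⟨b, d⟩
    fin_cases a <;> fin_cases b <;> fin_cases c <;> fin_cases d <;>
      simp [col, v, qAlt, Matrix.kroneckerMap_apply, hkiso, hf.alternating, hiso, hv21, hv22, hv23,
        a1, a2, a3, a4, a5, a6]
  have hPu : IsUnit Pm := by
    refine (Matrix.isUnit_iff_isUnit_det _).mpr ?_
    have hprod : Pmᵀ * gramMatrix f * Pm =
        Matrix.reindex e.symm e.symm ((qAlt : Mat 2 F) ⊗ₖ (1 : Mat 2 F)) := by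
      ext i j
      have h0 : (Pmᵀ * gramMatrix f * Pm) i j = f (Pm *ᵥ Pi.single i 1) (Pm *ᵥ Pi.single j 1) := by
        rw [form_apply hf, Matrix.mulVec_mulVec, ← Matrix.vecMul_transpose, ← Matrix.dotProduct_mulVec,
          Matrix.mulVec_mulVec, ← mul_assoc, single_one_dotProduct, Matrix.mulVec_single_one]
        rfl
      rw [h0, ← e.symm_apply_apply i, ← e.symm_apply_apply j, hPcol, hPcol, hgram]
      simp
    have hd := congrArg Matrix.det hprod
    rw [Matrix.det_mul, Matrix.det_mul, Matrix.det_reindex_self, Matrix.det_kronecker,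
      Matrix.det_one] at hd
    have hS : (qAlt : Mat 2 F).det = 1 := by simp [qAlt, Matrix.det_fin_two]
    rw [hS, one_pow, one_mul] at hd
    exact IsUnit.of_mul_eq_one_right _ hd
  let P : GL (Fin 4) F := hPu.unit
  have hG : tGram e P f = qAlt ⊗ₖ (1 : Mat 2 F) := by
    ext p q
    rw [tGram_apply e P hf, show (P : Mat 4 F) = Pm from rfl, hPcol, hPcol, hgram]
  have hkpull : k = pull e P ((1 : Mat 2 F) ⊗ₖ qI) := by
    have hkP : k * Pm = Pm * Matrix.reindex e.symm e.symm ((1 : Mat 2 F) ⊗ₖ (qI : Mat 2 F)) := by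
      refine Matrix.ext_of_mulVec_single fun j => ?_
      obtain ⟨⟨a, c⟩, rfl⟩ := e.symm.surjective j
      rw [← Matrix.mulVec_mulVec, hPcol, ← Matrix.mulVec_mulVec]
      have hcol : Matrix.reindex e.symm e.symm ((1 : Mat 2 F) ⊗ₖ (qI : Mat 2 F)) *ᵥ
          Pi.single (e.symm (a, c)) 1 =
          (if c = 0 then Pi.single (e.symm (a, 1)) (1 : F) else -Pi.single (e.symm (a, 0)) 1) := by
        funext i
        obtain ⟨⟨b, d⟩, rfl⟩ := e.symm.surjective i
        rw [Matrix.mulVec_single_one]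
        fin_cases a <;> fin_cases b <;> fin_cases c <;> fin_cases d <;>
          simp [Matrix.col, qI, Pi.single_apply, Matrix.kroneckerMap_apply]
      rw [hcol]
      fin_cases c
      · simp [hPcol, col]
      · simp [Matrix.mulVec_neg, hPcol, col, hkkv]
    rw [pull_apply, show (P : Mat 4 F) = Pm from rfl, ← hkP, mul_assoc]
    rw [show Pm * ((P⁻¹ : GL (Fin 4) F) : Mat 4 F) = 1 from P.mul_inv, mul_one]
  refine quat_symType hf hq e P hG hH fun x hx => ?_
  obtain ⟨X, hX⟩ : ∃ X, (x : Mat 4 F) = pull e P X := by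
    refine ⟨Matrix.reindex e e (((P⁻¹ : GL (Fin 4) F) : Mat 4 F) * (x : Mat 4 F) * (P : Mat 4 F)), ?_⟩
    rw [pull_apply]
    have : Matrix.reindex e.symm e.symm (Matrix.reindex e e
        (((P⁻¹ : GL (Fin 4) F) : Mat 4 F) * (x : Mat 4 F) * (P : Mat 4 F))) =
          ((P⁻¹ : GL (Fin 4) F) : Mat 4 F) * (x : Mat 4 F) * (P : Mat 4 F) := by ext i j; simp
    rw [this]
    simp [mul_assoc]
  have hXiso := isom_pull e P hf (hH hx) hX
  rw [hG] at hXiso
  obtain ⟨a, b, hab⟩ := hspan _ ((hle hx k).mp hk)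
  have hc := adj_conjHom hf (hH hx) k
  rw [hadj, map_neg, conjHom_apply, hab, adj_add hf, adj_smul_one hf, adj_smul hf, hadj, smul_neg] at hc
  have hsq : conjHom x k * conjHom x k = -1 := by rw [← map_mul, hkk, map_neg, map_one]
  rw [conjHom_apply, hab] at hsq
  have ha0 : a = 0 := by
    have h' : (2 * a) • (1 : Mat 4 F) = 0 := by
      rw [mul_smul, two_smul]
      linear_combination (norm := module) hc
    exact (mul_eq_zero.mp ((smul_eq_zero.mp h').resolve_right one_ne_zero)).resolve_left h2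
  rw [ha0, zero_smul, zero_add] at hab hsq
  rw [smul_mul_smul_comm, hkk] at hsq
  have hbb : b * b = 1 := by
    have := congrFun (congrFun hsq 0) 0
    simp at this
    exact this
  have hcomm : X * ((1 : Mat 2 F) ⊗ₖ qI) = (b • ((1 : Mat 2 F) ⊗ₖ qI)) * X := by
    refine pull_injective e P ?_
    rw [map_mul, map_mul, map_smul, ← hkpull, ← hX, ← hab, mul_assoc, Units.inv_mul, mul_one]
  rcases mul_self_eq_one_iff.mp hbb with rfl | rfl
  · rw [one_smul] at hcomm
    obtain ⟨u, w, huw⟩ := pure_of_commute hq hcomm hXiso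
    exact (mem_tensor_iff e P).mpr ⟨u, w, by rw [hX, huw]⟩
  · set T : Matrix (Fin 2 × Fin 2) (Fin 2 × Fin 2) F := (1 : Mat 2 F) ⊗ₖ qT with hT
    have hTT : T * T = 1 := by
      rw [hT, ← Matrix.mul_kronecker_mul, one_mul]
      rw [show (qT : Mat 2 F) * qT = 1 by ext i j; fin_cases i <;> fin_cases j <;> simp [qT],
        Matrix.one_kronecker_one]
    have hTI : T * ((1 : Mat 2 F) ⊗ₖ qI) = -(((1 : Mat 2 F) ⊗ₖ qI) * T) := by
      rw [hT, ← Matrix.mul_kronecker_mul, ← Matrix.mul_kronecker_mul, one_mul]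
      ext ⟨i, i'⟩ ⟨j, j'⟩
      fin_cases i' <;> fin_cases j' <;> simp [qI, qT, Matrix.kroneckerMap_apply]
    have hTG : Tᵀ * ((qAlt : Mat 2 F) ⊗ₖ (1 : Mat 2 F)) * T = qAlt ⊗ₖ 1 := by
      rw [hT, ← Matrix.kroneckerMap_transpose, ← Matrix.mul_kronecker_mul, ← Matrix.mul_kronecker_mul,
        Matrix.transpose_one, one_mul, mul_one, mul_one]
      congr 1
      ext i j; fin_cases i <;> fin_cases j <;> simp [qT, Matrix.mul_apply, Fin.sum_univ_two]
    obtain ⟨u, w, huw⟩ := pure_of_commute hq (M := X * T) (by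
      rw [mul_assoc, hTI, mul_neg, ← mul_assoc, hcomm, neg_smul, one_smul, neg_mul, neg_mul, neg_neg,
        mul_assoc]) (by
      rw [Matrix.transpose_mul, mul_assoc, ← mul_assoc _ X T, mul_assoc, ← mul_assoc Xᵀ, ← mul_assoc Xᵀ,
        hXiso, ← mul_assoc, hTG])
    let τ : GL (Fin 2) F := ⟨qT, qT, by ext i j; fin_cases i <;> fin_cases j <;> simp [qT],
      by ext i j; fin_cases i <;> fin_cases j <;> simp [qT]⟩
    refine (mem_tensor_iff e P).mpr ⟨u, w * τ, ?_⟩
    rw [hX, show X = X * T * T by rw [mul_assoc, hTT, mul_one], huw, hT, ← Matrix.mul_kronecker_mul,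
      mul_one, Units.val_mul]

end CfsgLib.Classical.AschSp
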