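import Mathlib.LinearAlgebra.Matrix.SpecialLinearGroup
import Mathlib.LinearAlgebra.Matrix.Adjugate
import Mathlib.LinearAlgebra.Matrix.Charpoly.Coeff
import Mathlib.Algebra.CharP.CharAndCard
import Mathlib.FieldTheory.Finite.Basic

/-!
# The quaternion group and the dihedral group inside two by two matrices over three elements
-/

set_option autoImplicit false

namespace CfsgLib.Classical.AschSp

open Matrix

variable {F : Type*} [Field F]

/-- Determinant one, and trace zero or scalar. -/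
def IsQuat (M : Matrix (Fin 2) (Fin 2) F) : Prop :=
  M.det = 1 ∧ (M.trace = 0 ∨ (M 0 1 = 0 ∧ M 1 0 = 0 ∧ M 0 0 = M 1 1))

/-- The quarter turn. -/
def qI : Matrix (Fin 2) (Fin 2) F := !![0, -1; 1, 0]

/-- The reflection fixing the axes. -/
def qT : Matrix (Fin 2) (Fin 2) F := !![1, 0; 0, -1]

/-- The reflection exchanging the axes. -/
def qS : Matrix (Fin 2) (Fin 2) F := !![0, 1; 1, 0]

set_option maxRecDepth 10000 in
theorem quat_mul_three : ∀ a b : Matrix (Fin 2) (Fin 2) (ZMod 3), IsQuat a → IsQuat b →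
    IsQuat (a * b) ∧ (a * b = b * a ∨ a * b = -(b * a)) ∧ a * a * (a * a) = 1 := by
  unfold IsQuat
  decide +kernel

set_option maxRecDepth 10000 in
theorem orth_mul_three : ∀ a b : Matrix (Fin 2) (Fin 2) (ZMod 3), aᵀ * a = 1 → bᵀ * b = 1 →
    (a * b = b * a ∨ a * b = -(b * a)) ∧ a * a * (a * a) = 1 := by
  decide +kernel

set_option maxRecDepth 10000 in
theorem quat_moved_three : ∀ a : Matrix (Fin 2) (Fin 2) (ZMod 3), IsQuat a →
    (a 0 1 = 0 ∧ a 1 0 = 0 ∧ a 0 0 = a 1 1) ∨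
      a * (!![1, 1; 0, 1] * a * !![1, -1; 0, 1]) ≠ !![1, 1; 0, 1] * a * !![1, -1; 0, 1] * a ∨
      a * (!![1, 0; 1, 1] * a * !![1, 0; -1, 1]) ≠ !![1, 0; 1, 1] * a * !![1, 0; -1, 1] * a := by
  unfold IsQuat
  decide +kernel

set_option maxRecDepth 10000 in
theorem orth_anti_three : ∀ b : Matrix (Fin 2) (Fin 2) (ZMod 3), bᵀ * b = 1 →
    (b 0 1 = 0 ∧ b 1 0 = 0 ∧ b 0 0 = b 1 1) ∨ qT * b = -(b * qT) ∨ qS * b = -(b * qS) := by
  unfold qT qS
  decide +kernel

section

variable [Fintype F] (hq : Fintype.card F = 3)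
include hq

/-- Matrices over three elements come from the prime field. -/
theorem exists_three : ∃ e : ZMod 3 ≃+* F,
    ∀ a : Matrix (Fin 2) (Fin 2) F, ∃ b : Matrix (Fin 2) (Fin 2) (ZMod 3),
      e.toRingHom.mapMatrix b = a := by
  haveI := Fact.mk Nat.prime_three
  haveI : CharP F 3 := charP_of_card_eq_prime hq
  exact ⟨ZMod.ringEquiv F hq, fun a => ⟨a.map (ZMod.ringEquiv F hq).symm,
    by ext i j; simp⟩⟩

theorem isQuat_map (e : ZMod 3 ≃+* F) (b : Matrix (Fin 2) (Fin 2) (ZMod 3)) :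
    IsQuat (e.toRingHom.mapMatrix b) ↔ IsQuat b := by
  rw [IsQuat, IsQuat, ← RingHom.map_det]
  simp [Matrix.trace, Fin.sum_univ_two, ← map_add]

theorem quat_mul {a b : Matrix (Fin 2) (Fin 2) F} (ha : IsQuat a) (hb : IsQuat b) :
    IsQuat (a * b) ∧ (a * b = b * a ∨ a * b = -(b * a)) ∧ a * a * (a * a) = 1 := by
  obtain ⟨e, he⟩ := exists_three hq
  obtain ⟨a', rfl⟩ := he a
  obtain ⟨b', rfl⟩ := he b
  obtain ⟨h1, h2, h3⟩ := quat_mul_three a' b' ((isQuat_map hq e a').mp ha) ((isQuat_map hq e b').mp hb)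
  refine ⟨?_, ?_, by rw [← map_mul, ← map_mul, h3, map_one]⟩
  · rw [← map_mul, isQuat_map hq]
    exact h1
  · refine h2.imp (fun h => ?_) (fun h => ?_) <;> rw [← map_mul, ← map_mul, h]
    rw [map_neg]

theorem orth_mul {a b : Matrix (Fin 2) (Fin 2) F} (ha : aᵀ * a = 1) (hb : bᵀ * b = 1) :
    (a * b = b * a ∨ a * b = -(b * a)) ∧ a * a * (a * a) = 1 := by
  obtain ⟨e, he⟩ := exists_three hq
  obtain ⟨a', rfl⟩ := he a
  obtain ⟨b', rfl⟩ := he b
  have hinj : Function.Injective (e.toRingHom.mapMatrix : Matrix (Fin 2) (Fin 2) (ZMod 3) →+* _) :=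
    Matrix.map_injective e.injective
  have back : ∀ c : Matrix (Fin 2) (Fin 2) (ZMod 3),
      (e.toRingHom.mapMatrix c)ᵀ * e.toRingHom.mapMatrix c = 1 → cᵀ * c = 1 := fun c h =>
    hinj (by rw [map_mul, map_one, ← h]; simp [Matrix.transpose_map])
  obtain ⟨h2, h3⟩ := orth_mul_three a' b' (back a' ha) (back b' hb)
  refine ⟨?_, by rw [← map_mul, ← map_mul, h3, map_one]⟩
  refine h2.imp (fun h => ?_) (fun h => ?_) <;> rw [← map_mul, ← map_mul, h]
  rw [map_neg]

theorem quat_moved {a : Matrix (Fin 2) (Fin 2) F} (ha : IsQuat a) :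
    (∃ c : F, a = c • 1) ∨ ∃ s t : Matrix (Fin 2) (Fin 2) F, s.det = 1 ∧ s * t = 1 ∧ t * s = 1 ∧
      a * (s * a * t) ≠ s * a * t * a := by
  obtain ⟨e, he⟩ := exists_three hq
  obtain ⟨a', rfl⟩ := he a
  have hinj : Function.Injective (e.toRingHom.mapMatrix : Matrix (Fin 2) (Fin 2) (ZMod 3) →+* _) :=
    Matrix.map_injective e.injective
  have mk : ∀ s t : Matrix (Fin 2) (Fin 2) (ZMod 3), s.det = 1 → s * t = 1 → t * s = 1 →
      a' * (s * a' * t) ≠ s * a' * t * a' → ∃ s t : Matrix (Fin 2) (Fin 2) F, s.det = 1 ∧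
        s * t = 1 ∧ t * s = 1 ∧
        e.toRingHom.mapMatrix a' * (s * e.toRingHom.mapMatrix a' * t) ≠
          s * e.toRingHom.mapMatrix a' * t * e.toRingHom.mapMatrix a' := fun s t h1 h2 h3 h4 => by
    refine ⟨e.toRingHom.mapMatrix s, e.toRingHom.mapMatrix t, ?_, by rw [← map_mul, h2, map_one],
      by rw [← map_mul, h3, map_one], fun h => h4 (hinj (by simpa only [map_mul] using h))⟩
    rw [← RingHom.map_det, h1, map_one]
  rcases quat_moved_three a' ((isQuat_map hq e a').mp ha) with ⟨h1, h2, h3⟩ | h | h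
  · refine .inl ⟨e (a' 0 0), ?_⟩
    ext i j
    fin_cases i <;> fin_cases j <;> simp [h1, h2, h3]
  · exact .inr (mk _ _ (by decide) (by decide) (by decide) h)
  · exact .inr (mk _ _ (by decide) (by decide) (by decide) h)

theorem orth_anti {b : Matrix (Fin 2) (Fin 2) F} (hb : bᵀ * b = 1) :
    (∃ c : F, b = c • 1) ∨ qT * b = -(b * qT) ∨ qS * b = -(b * qS) := by
  obtain ⟨e, he⟩ := exists_three hq
  obtain ⟨b', rfl⟩ := he b
  have hinj : Function.Injective (e.toRingHom.mapMatrix : Matrix (Fin 2) (Fin 2) (ZMod 3) →+* _) :=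
    Matrix.map_injective e.injective
  have hT : e.toRingHom.mapMatrix (qT : Matrix (Fin 2) (Fin 2) (ZMod 3)) = qT := by
    ext i j; fin_cases i <;> fin_cases j <;> simp [qT]
  have hS : e.toRingHom.mapMatrix (qS : Matrix (Fin 2) (Fin 2) (ZMod 3)) = qS := by
    ext i j; fin_cases i <;> fin_cases j <;> simp [qS]
  rcases orth_anti_three b' (hinj (by rw [map_mul, map_one, ← hb]; simp [Matrix.transpose_map])) with
    ⟨h1, h2, h3⟩ | h | h
  · refine .inl ⟨e (b' 0 0), ?_⟩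
    ext i j
    fin_cases i <;> fin_cases j <;> simp [h1, h2, h3]
  · exact .inr (.inl (by rw [← hT, ← map_mul, ← map_mul, h, map_neg]))
  · exact .inr (.inr (by rw [← hS, ← map_mul, ← map_mul, h, map_neg]))

theorem isQuat_qI : IsQuat (qI : Matrix (Fin 2) (Fin 2) F) := by
  refine ⟨by simp [qI, Matrix.det_fin_two], .inl (by simp [qI, Matrix.trace, Fin.sum_univ_two])⟩

theorem three_eq_zero : (3 : F) = 0 := by
  have := FiniteField.cast_card_eq_zero F
  rw [hq] at this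
  exact_mod_cast this

theorem isQuat_qJ : IsQuat (qT + qS : Matrix (Fin 2) (Fin 2) F) := by
  refine ⟨?_, .inl (by simp [qT, qS, Matrix.trace, Fin.sum_univ_two])⟩
  simp only [qT, qS, Matrix.det_fin_two, Matrix.add_apply, Matrix.of_apply, Matrix.cons_val',
    Matrix.cons_val_zero, Matrix.cons_val_one, Matrix.cons_val_fin_one, Matrix.empty_val']
  linear_combination -(three_eq_zero hq)

end

theorem isQuat_conj {a : Matrix (Fin 2) (Fin 2) F} (ha : IsQuat a) {s t : Matrix (Fin 2) (Fin 2) F}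
    (hst : s * t = 1) : IsQuat (s * a * t) := by
  have hts : t * s = 1 := mul_eq_one_comm.mp hst
  refine ⟨?_, ?_⟩
  · rw [Matrix.det_mul, Matrix.det_mul, ha.1, mul_one, ← Matrix.det_mul, hst, Matrix.det_one]
  rcases ha.2 with h | ⟨h1, h2, h3⟩
  · exact .inl (by rw [Matrix.trace_mul_comm, ← mul_assoc, hts, one_mul, h])
  · have ha' : a = a 0 0 • 1 := by ext i j; fin_cases i <;> fin_cases j <;> simp [h1, h2, h3]
    right
    rw [ha']
    simp [hst]

theorem isQuat_one : IsQuat (1 : Matrix (Fin 2) (Fin 2) F) := ⟨by simp, .inr (by simp)⟩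

theorem isQuat_smul {c : F} (hc : c * c = 1) : IsQuat (c • (1 : Matrix (Fin 2) (Fin 2) F)) :=
  ⟨by simp [Matrix.det_smul, pow_two, hc], .inr (by simp)⟩

/-- The two reflections and the quarter turn span all matrices with the identity. -/
theorem quat_span (h2 : (2 : F) ≠ 0) {S : Subalgebra F (Matrix (Fin 2) (Fin 2) F)}
    (hI : (qI : Matrix (Fin 2) (Fin 2) F) ∈ S) (hT : (qT : Matrix (Fin 2) (Fin 2) F) ∈ S)
    (hS : (qS : Matrix (Fin 2) (Fin 2) F) ∈ S) : S = ⊤ := by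
  refine eq_top_iff.mpr fun X _ => ?_
  have : X = ((X 0 0 + X 1 1) / 2) • 1 + ((X 0 0 - X 1 1) / 2) • qT + ((X 1 0 - X 0 1) / 2) • qI +
      ((X 1 0 + X 0 1) / 2) • qS := by
    ext i j
    fin_cases i <;> fin_cases j <;> simp [qI, qT, qS] <;> field_simp <;> ring
  rw [this]
  exact add_mem (add_mem (add_mem (S.smul_mem S.one_mem _) (S.smul_mem hT _)) (S.smul_mem hI _))
    (S.smul_mem hS _)

end CfsgLib.Classical.AschSp
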