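import Cfsg.Agent.Lib.Classical.AschSp.TensorBasic

/-!
# The form of a tensor decomposition closed under adjoints is a tensor product of forms
-/

set_option autoImplicit false
set_option linter.unusedSectionVars false

namespace CfsgLib.Classical.AschSp

open Matrix Cfsg Cfsg.Geo CfsgLib.Classical.AschPrime CfsgLib.Classical.AschGen
open scoped MatrixGroups Kronecker

variable {F : Type*} [Field F] [Fintype F] {n m k : ℕ}

theorem comm_kron {Z : Matrix (Fin m × Fin k) (Fin m × Fin k) F}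
    (e : Fin n ≃ Fin m × Fin k) (hm : 0 < m)
    (h : ∀ X : Mat m F, Z * (X ⊗ₖ (1 : Mat k F)) = (X ⊗ₖ (1 : Mat k F)) * Z) :
    ∃ b : Mat k F, Z = (1 : Mat m F) ⊗ₖ b := by
  haveI : Nonempty (Fin m) := ⟨⟨0, hm⟩⟩
  obtain ⟨b, hb⟩ := exists_right (e := e) (Z := Matrix.reindexAlgEquiv F F e.symm Z) fun X => by
    rw [show stdHom e X = Matrix.reindexAlgEquiv F F e.symm (X ⊗ₖ (1 : Mat k F)) from rfl,
      ← map_mul, ← map_mul, h]
  refine ⟨b, ?_⟩
  ext p q
  have := hb (e.symm p) (e.symm q)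
  rw [e.apply_symm_apply, e.apply_symm_apply] at this
  simpa [Matrix.reindexAlgEquiv_apply] using this

theorem kron_eq {A C : Mat m F} {B D : Mat k F} (h : A ⊗ₖ B = C ⊗ₖ D) (hC : C ≠ 0) (hD : D ≠ 0) :
    ∃ μ : F, μ ≠ 0 ∧ B = μ • D ∧ μ • A = C := by
  obtain ⟨i, j, hij⟩ : ∃ i j, C i j ≠ 0 := by
    by_contra hno
    push Not at hno
    exact hC (Matrix.ext hno)
  obtain ⟨p, q, hpq⟩ : ∃ p q, D p q ≠ 0 := by
    by_contra hno
    push Not at hno
    exact hD (Matrix.ext hno)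
  have he : ∀ a b c d, A a b * B c d = C a b * D c d := fun a b c d =>
    congrFun (congrFun h (a, c)) (b, d)
  have hA : A i j ≠ 0 := fun h0 => mul_ne_zero hij hpq (by rw [← he, h0, zero_mul])
  refine ⟨C i j / A i j, div_ne_zero hij hA, ?_, ?_⟩
  · ext c d
    rw [Matrix.smul_apply, smul_eq_mul, div_mul_eq_mul_div, eq_div_iff hA, mul_comm, he]
  · ext a b
    have h1 := he a b p q
    have h2 := he i j p q
    have hB : B p q ≠ 0 := fun h0 => mul_ne_zero hij hpq (by rw [← h2, h0, mul_zero])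
    rw [Matrix.smul_apply, smul_eq_mul, div_mul_eq_mul_div, div_eq_iff hA]
    refine mul_right_cancel₀ (mul_ne_zero hB hpq) ?_
    linear_combination (C i j * D p q) * h1 - (C a b * D p q) * h2

/-- A Gram matrix for which every `X ⊗ 1` has an adjoint `X' ⊗ 1` is a Kronecker product. -/
theorem factor {G : Matrix (Fin m × Fin k) (Fin m × Fin k) F} (e : Fin n ≃ Fin m × Fin k)
    (hG : IsUnit G) (hm : 0 < m) (hk : 0 < k)
    (h : ∀ X : Mat m F, ∃ Y : Mat m F, (X ⊗ₖ (1 : Mat k F))ᵀ * G = G * (Y ⊗ₖ (1 : Mat k F))) :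
    ∃ (G₁ : Mat m F) (G₂ : Mat k F), IsUnit G₁ ∧ IsUnit G₂ ∧ G = G₁ ⊗ₖ G₂ := by
  classical
  obtain ⟨Gu, rfl⟩ := hG
  have hinj : ∀ {Y Y' : Mat m F}, (Gu : Matrix _ _ F) * (Y ⊗ₖ (1 : Mat k F)) =
      (Gu : Matrix _ _ F) * (Y' ⊗ₖ (1 : Mat k F)) → Y = Y' :=
    fun he => kron_left_inj hk (Gu.isUnit.mul_right_injective he)
  choose θ hθ' using fun X : Mat m F => h Xᵀ
  have hθ : ∀ X, (X ⊗ₖ (1 : Mat k F)) * (Gu : Matrix (Fin m × Fin k) (Fin m × Fin k) F) =
      (Gu : Matrix (Fin m × Fin k) (Fin m × Fin k) F) * (θ X ⊗ₖ (1 : Mat k F)) := by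
    intro X
    have := hθ' X
    rwa [← Matrix.kroneckerMap_transpose, Matrix.transpose_transpose, Matrix.transpose_one] at this
  let θa : Mat m F →ₐ[F] Mat m F :=
    { toFun := θ
      map_one' := hinj (by rw [← hθ, Matrix.one_kronecker_one, one_mul, mul_one])
      map_mul' := fun X Y => hinj (by
        rw [← hθ]
        calc (X * Y) ⊗ₖ (1 : Mat k F) * (Gu : Matrix _ _ F)
            = (X ⊗ₖ (1 : Mat k F)) * ((Y ⊗ₖ (1 : Mat k F)) * (Gu : Matrix _ _ F)) := by
              rw [← mul_assoc, ← Matrix.mul_kronecker_mul, mul_one]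
          _ = _ := by
              rw [hθ Y, ← mul_assoc, hθ X, mul_assoc, ← Matrix.mul_kronecker_mul, mul_one])
      map_zero' := hinj (by rw [← hθ, Matrix.zero_kronecker, zero_mul, mul_zero])
      map_add' := fun X Y => hinj (by
        rw [← hθ, Matrix.add_kronecker, Matrix.add_kronecker, add_mul, mul_add, hθ, hθ])
      commutes' := fun c => hinj (by
        rw [← hθ, Algebra.algebraMap_eq_smul_one, Matrix.smul_kronecker, Matrix.one_kronecker_one,
          Matrix.smul_mul, Matrix.mul_smul, one_mul, mul_one]) }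
  obtain ⟨C, hC⟩ := exists_inner hm θa
  obtain ⟨b, hb⟩ := comm_kron e hm (Z := (Gu : Matrix _ _ F) * ((C : Mat m F) ⊗ₖ (1 : Mat k F))) fun X => by
    rw [← mul_assoc, hθ, show θ X = _ from hC X, mul_assoc, mul_assoc, ← Matrix.mul_kronecker_mul,
      ← Matrix.mul_kronecker_mul, mul_assoc _ _ (C : Mat m F), Units.inv_mul, mul_one, mul_one]
  have hG : (Gu : Matrix _ _ F) = ((C⁻¹ : GL (Fin m) F) : Mat m F) ⊗ₖ b := by
    have h2 := congrArg (fun M => M * (((C⁻¹ : GL (Fin m) F) : Mat m F) ⊗ₖ (1 : Mat k F))) hb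
    simp only [mul_assoc, ← Matrix.mul_kronecker_mul, Units.mul_inv, mul_one, one_mul,
      Matrix.one_kronecker_one] at h2
    exact h2
  refine ⟨_, b, (C⁻¹).isUnit, ?_, hG⟩
  rw [Matrix.isUnit_iff_isUnit_det, isUnit_iff_ne_zero]
  intro h0
  have h1 := (Matrix.isUnit_iff_isUnit_det _).mp (hG ▸ Gu.isUnit)
  rw [Matrix.det_kronecker, h0] at h1
  simp only [Fintype.card_fin, zero_pow hm.ne', mul_zero] at h1
  exact not_isUnit_zero h1

/-- Zero diagonal and skew: an alternating Gram matrix. -/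
def IsAltMat (G : Mat m F) : Prop := Gᵀ = -G ∧ ∀ i, G i i = 0

/-- In a skew tensor product with zero diagonal one factor is alternating, the other symmetric. -/
theorem alt_or_alt {G₁ : Mat m F} {G₂ : Mat k F} (h₁ : G₁ ≠ 0) (h₂ : G₂ ≠ 0)
    (hskew : (G₁ ⊗ₖ G₂)ᵀ = -(G₁ ⊗ₖ G₂)) (hdiag : ∀ p, (G₁ ⊗ₖ G₂) p p = 0) :
    (IsAltMat G₁ ∧ G₂ᵀ = G₂) ∨ (IsAltMat G₂ ∧ G₁ᵀ = G₁) := by
  rw [← Matrix.kroneckerMap_transpose, show -(G₁ ⊗ₖ G₂) = (-G₁) ⊗ₖ G₂ by
    ext p q; simp] at hskew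
  obtain ⟨μ, hμ, hB, hA⟩ := kron_eq hskew (neg_ne_zero.mpr h₁) h₂
  have hμ2 : μ * μ = 1 := by
    obtain ⟨p, q, hpq⟩ : ∃ p q, G₂ p q ≠ 0 := by
      by_contra hno
      push Not at hno
      exact h₂ (Matrix.ext hno)
    have e1 := congrFun (congrFun hB q) p
    have e2 := congrFun (congrFun hB p) q
    simp only [Matrix.transpose_apply, Matrix.smul_apply, smul_eq_mul] at e1 e2
    refine mul_right_cancel₀ hpq ?_
    rw [one_mul, mul_assoc, ← e2, ← e1]
  have hA' : G₁ᵀ = -(μ • G₁) := by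
    rw [← smul_neg, ← hA, smul_smul, hμ2, one_smul]
  have hsym : μ = 1 ∨ μ = -1 := mul_self_eq_one_iff.mp hμ2
  by_cases hd : ∀ i, G₁ i i = 0
  · rcases hsym with rfl | rfl
    · exact .inl ⟨⟨by rw [hA', one_smul], hd⟩, by rw [hB, one_smul]⟩
    · by_cases h2 : (2 : F) = 0
      · have hneg : (-1 : F) = 1 := by linear_combination -h2
        exact .inl ⟨⟨by rw [hA', hneg, one_smul], hd⟩, by rw [hB, hneg, one_smul]⟩
      refine .inr ⟨⟨by rw [hB, neg_smul, one_smul], fun i => ?_⟩, by rw [hA', neg_smul, one_smul, neg_neg]⟩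
      have e := congrFun (congrFun hB i) i
      simp only [Matrix.transpose_apply, Matrix.smul_apply, smul_eq_mul] at e
      exact (mul_eq_zero.mp (show (2 : F) * G₂ i i = 0 by linear_combination e)).resolve_left h2
  · push Not at hd
    obtain ⟨i, hi⟩ := hd
    have hd2 : ∀ j, G₂ j j = 0 := fun j => (mul_eq_zero.mp (hdiag (i, j))).resolve_left hi
    have hμn : μ = -1 := by
      have e := congrFun (congrFun hA' i) i
      simp only [Matrix.transpose_apply, Matrix.neg_apply, Matrix.smul_apply, smul_eq_mul] at e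
      exact mul_right_cancel₀ hi (by linear_combination e)
    subst hμn
    exact .inr ⟨⟨by rw [hB, neg_smul, one_smul], hd2⟩, by rw [hA', neg_smul, one_smul, neg_neg]⟩

end CfsgLib.Classical.AschSp
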