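import Cfsg.Agent.Lib.Classical.AschSp.Centre
import Cfsg.Agent.Lib.Classical.AschSp.TensorFactor

/-!
# A tensor decomposition closed under the adjoints of an alternating form
-/

set_option autoImplicit false
set_option linter.unusedSectionVars false

namespace CfsgLib.Classical.AschSp

open Matrix Cfsg Cfsg.Geo CfsgLib.Classical.AschPrime CfsgLib.Classical.AschGen
open scoped MatrixGroups Kronecker

variable {F : Type*} [Field F] [Fintype F] {n m k : ℕ}
variable {f : (Fin n → F) → (Fin n → F) → F}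

/-- The tensor class, odd characteristic. -/
def TensorCase (f : (Fin n → F) → (Fin n → F) → F) (H : Subgroup (GL (Fin n) F)) : Prop :=
  Odd (Fintype.card F) ∧ ∃ (n₁ n₂ : ℕ) (e : Fin n ≃ Fin n₁ × Fin n₂) (P : GL (Fin n) F)
    (f₁ : (Fin n₁ → F) → (Fin n₁ → F) → F) (f₂ : (Fin n₂ → F) → (Fin n₂ → F) → F),
    2 ≤ n₁ ∧ 3 ≤ n₂ ∧ ¬ (Fintype.card F = 3 ∧ n₂ = 3) ∧ IsSymplecticForm f₁ ∧ IsSymmetricForm f₂ ∧
      IsTensorFormStructure id f f₁ f₂ e P ∧ H ≤ tensorProductSubgroup n₁ n₂ e P

theorem fog_eq (G : Mat m F) (x y : Fin m → F) : formOfGram id G x y = x ⬝ᵥ (G *ᵥ y) := by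
  simp only [formOfGram, dotProduct, Matrix.mulVec, Finset.mul_sum, id_eq, mul_assoc]

theorem gram_fog (G : Mat m F) : gramMatrix (formOfGram id G) = G := by
  ext a b
  simp [gramMatrix, fog_eq, Matrix.mulVec_single_one, single_one_dotProduct]

theorem fog_bilinear (G : Mat m F) : IsBilinearForm (formOfGram id G) :=
  ⟨fun x y v => by simp only [fog_eq, add_dotProduct],
   fun c x v => by simp only [fog_eq, smul_dotProduct, smul_eq_mul],
   fun v x y => by simp only [fog_eq, Matrix.mulVec_add, dotProduct_add],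
   fun c v x => by simp only [fog_eq, Matrix.mulVec_smul, dotProduct_smul, smul_eq_mul]⟩

theorem fog_swap (G : Mat m F) (x y : Fin m → F) : formOfGram id G x y = formOfGram id Gᵀ y x := by
  rw [fog_eq, fog_eq, Matrix.mulVec_transpose, Matrix.dotProduct_mulVec, dotProduct_comm]

theorem fog_nondeg {G : Mat m F} (hG : IsUnit G) : IsNondegenerateForm (formOfGram id G) := by
  intro v hv
  have key : ∀ {M : Mat m F}, IsUnit M → ∃ x, formOfGram id M x v ≠ 0 := by
    intro M hM
    by_contra hno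
    push Not at hno
    refine hv (Matrix.mulVec_injective_iff_isUnit.mpr hM ?_)
    rw [Matrix.mulVec_zero]
    funext i
    have := hno (Pi.single i 1)
    rwa [fog_eq, single_one_dotProduct] at this
  obtain ⟨y, hy⟩ := key ((Matrix.isUnit_transpose G).mpr hG)
  exact ⟨key hG, y, by rwa [fog_swap]⟩

theorem fog_symplectic {G : Mat m F} (hG : IsUnit G) (halt : IsAltMat G) :
    IsSymplecticForm (formOfGram id G) := by
  classical
  have hskew : ∀ v w, formOfGram id G v w = -formOfGram id G w v := fun v w => by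
    rw [fog_swap, halt.1, fog_eq, fog_eq, Matrix.neg_mulVec, dotProduct_neg]
  refine ⟨fog_bilinear G, hskew, fun v => ?_, fog_nondeg hG⟩
  simp only [formOfGram, id_eq]
  rw [← Fintype.sum_prod_type']
  refine Finset.sum_involution (fun p _ => p.swap) (fun p _ => ?_) (fun p _ hp h => ?_)
    (fun _ _ => Finset.mem_univ _) (fun p _ => Prod.swap_swap p)
  · have := congrFun (congrFun halt.1 p.1) p.2
    simp only [Matrix.transpose_apply, Matrix.neg_apply] at this
    simp only [Prod.fst_swap, Prod.snd_swap, this]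
    ring
  · apply hp
    have : p.2 = p.1 := congrArg Prod.fst h
    rw [this, halt.2, mul_zero, zero_mul]

theorem fog_symmetric {G : Mat m F} (hG : IsUnit G) (hsym : Gᵀ = G) :
    IsSymmetricForm (formOfGram id G) :=
  ⟨fog_bilinear G, fun u v => by rw [fog_swap, hsym], fog_nondeg hG⟩

variable {e : Fin n ≃ Fin m × Fin k} {P : GL (Fin n) F} {G₁ : Mat m F} {G₂ : Mat k F}

theorem factor_sim (hf : IsSymplecticForm f) (hG : tGram e P f = G₁ ⊗ₖ G₂) (h1 : G₁ ≠ 0) (h2 : G₂ ≠ 0)
    {g : GL (Fin n) F} (hg : g ∈ isomSubgroup f) (hgt : g ∈ tensorProductSubgroup m k e P) :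
    ∃ (a : GL (Fin m) F) (b : GL (Fin k) F) (μ : F), μ ≠ 0 ∧
      (g : Mat n F) = pull e P ((a : Mat m F) ⊗ₖ (b : Mat k F)) ∧
      (b : Mat k F)ᵀ * G₂ * (b : Mat k F) = μ • G₂ ∧
      μ • ((a : Mat m F)ᵀ * G₁ * (a : Mat m F)) = G₁ := by
  obtain ⟨a, b, hab⟩ := (mem_tensor_iff e P).mp hgt
  have h := isom_pull e P hf hg hab
  rw [hG, ← Matrix.kroneckerMap_transpose, ← Matrix.mul_kronecker_mul, ← Matrix.mul_kronecker_mul] at h
  obtain ⟨μ, hμ, hb, ha⟩ := kron_eq h h1 h2
  exact ⟨a, b, μ, hμ, hab, hb, ha⟩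

theorem adj_rightHom (hf : IsSymplecticForm f) (hG : tGram e P f = G₁ ⊗ₖ G₂) {Y Y' : Mat k F}
    (h : Yᵀ * G₂ = G₂ * Y') : adj f (rightHom e P Y) = rightHom e P Y' := by
  refine adj_pull e P hf ?_
  show ((1 : Mat m F) ⊗ₖ Y)ᵀ * tGram e P f = tGram e P f * ((1 : Mat m F) ⊗ₖ Y')
  rw [hG, ← Matrix.kroneckerMap_transpose, ← Matrix.mul_kronecker_mul, ← Matrix.mul_kronecker_mul,
    Matrix.transpose_one, one_mul, mul_one, h]

theorem conj_rightHom {g : GL (Fin n) F} {a : GL (Fin m) F} {b : GL (Fin k) F}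
    (hg : (g : Mat n F) = pull e P ((a : Mat m F) ⊗ₖ (b : Mat k F))) (Y : Mat k F) :
    conjHom g (rightHom e P Y) =
      rightHom e P ((b : Mat k F) * Y * ((b⁻¹ : GL (Fin k) F) : Mat k F)) := by
  rw [rightHom_apply, conj_pull e P hg, mul_one, Units.mul_inv, rightHom_apply]

theorem det_two_conj (b J : Mat 2 F) (hJ : Jᵀ = -J) (hJd : ∀ i, J i i = 0) :
    bᵀ * J * b = b.det • J := by
  have h10 : J 1 0 = -J 0 1 := congrFun (congrFun hJ 0) 1
  have h0 : J 0 0 = 0 := hJd 0
  have h1 : J 1 1 = 0 := hJd 1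
  ext i j
  fin_cases i <;> fin_cases j <;>
    simp [Matrix.mul_apply, Fin.sum_univ_two, Matrix.det_fin_two, h10, h0, h1] <;> ring

/-- A symmetric plane factor in odd characteristic: a normalised commutative subalgebra appears. -/
theorem plane_cases (hf : IsSymplecticForm f) (hn : 0 < n) {H : Subgroup (GL (Fin n) F)}
    (hH : H ≤ isomSubgroup f) (hirr : ActsIrreducibly (matrixSet H)) (h2 : (2 : F) ≠ 0)
    {m : ℕ} (hm : 0 < m) {e : Fin n ≃ Fin m × Fin 2} {P : GL (Fin n) F} {G₁ : Mat m F} {G₂ : Mat 2 F}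
    (hG : tGram e P f = G₁ ⊗ₖ G₂) (hu1 : IsUnit G₁) (hu2 : IsUnit G₂) (hsym : G₂ᵀ = G₂)
    (hle : H ≤ tensorProductSubgroup m 2 e P) : CentreCases f H := by
  classical
  haveI : NeZero m := ⟨hm.ne'⟩
  obtain ⟨Gu, rfl⟩ := hu2
  let J : Mat 2 F := !![0, 1; -1, 0]
  have hJ : Jᵀ = -J := by ext i j; fin_cases i <;> fin_cases j <;> simp [J]
  have hJd : ∀ i, J i i = 0 := fun i => by fin_cases i <;> simp [J]
  set Gi : Mat 2 F := ((Gu⁻¹ : (Mat 2 F)ˣ) : Mat 2 F) with hGi
  set s : Mat 2 F := Gi * J with hs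
  set x := rightHom e P s with hx
  have hGis : Giᵀ = Gi := by
    have h := congrArg Matrix.transpose (Gu.mul_inv)
    rw [Matrix.transpose_mul, hsym, Matrix.transpose_one, ← hGi] at h
    calc Giᵀ = Giᵀ * ((Gu : Mat 2 F) * Gi) := by rw [hGi, Units.mul_inv, mul_one]
      _ = Gi := by rw [← mul_assoc, h, one_mul]
  have hadj : adj f x = -x := by
    rw [hx, adj_rightHom hf hG (Y' := -s), map_neg]
    rw [hs, Matrix.transpose_mul, hJ, hGis, mul_neg, hGi, Units.mul_inv_cancel_left,
      Matrix.neg_mul, Matrix.neg_mul, mul_assoc, Units.inv_mul, mul_one]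
  set A : Subalgebra F (Mat n F) := Algebra.adjoin F {x} with hA
  have hxA : x ∈ A := Algebra.subset_adjoin rfl
  have hnorm : NormalisedBy A H := by
    intro g hg y hy
    obtain ⟨a, b, μ, hμ, hab, hb, -⟩ :=
      factor_sim hf hG hu1.ne_zero Gu.ne_zero (hH hg) (hle hg)
    have hdet : ((b : Mat 2 F)).det ≠ 0 :=
      ((Matrix.isUnit_iff_isUnit_det _).mp b.isUnit).ne_zero
    have hbJ := det_two_conj (b : Mat 2 F) J hJ hJd
    set bi : Mat 2 F := ((b⁻¹ : GL (Fin 2) F) : Mat 2 F) with hbi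
    have hbt : biᵀ * (b : Mat 2 F)ᵀ = 1 := by
      rw [← Matrix.transpose_mul, hbi, Units.mul_inv, Matrix.transpose_one]
    have hG2b : (Gu : Mat 2 F) * b = μ • (biᵀ * Gu) := by
      have h := congrArg (fun M => biᵀ * M) hb
      simp only [← mul_assoc, hbt, one_mul, Matrix.mul_smul] at h
      exact h
    have hJb : J * b = (b : Mat 2 F).det • (biᵀ * J) := by
      have h := congrArg (fun M => biᵀ * M) hbJ
      simp only [← mul_assoc, hbt, one_mul, Matrix.mul_smul] at h
      exact h
    have hbG : (b : Mat 2 F) * Gi = μ • (Gi * biᵀ) := by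
      have h := congrArg (fun M => Gi * M * Gi) hG2b
      simp only [Matrix.mul_smul, Matrix.smul_mul, ← mul_assoc] at h
      rw [hGi, Units.inv_mul, one_mul, mul_assoc (_ * biᵀ), Units.mul_inv, mul_one] at h
      exact h
    have hbs : (b : Mat 2 F) * s * bi = (μ / (b : Mat 2 F).det) • s := by
      have h1 : (b : Mat 2 F) * s = μ • (Gi * biᵀ * J) := by
        rw [hs, ← mul_assoc, hbG, Matrix.smul_mul]
      have h2 : s * (b : Mat 2 F) = (b : Mat 2 F).det • (Gi * biᵀ * J) := by
        rw [hs, mul_assoc, hJb, Matrix.mul_smul, mul_assoc]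
      rw [h1, show Gi * biᵀ * J = (b : Mat 2 F).det⁻¹ • (s * (b : Mat 2 F)) by
        rw [h2, smul_smul, inv_mul_cancel₀ hdet, one_smul], smul_smul, Matrix.smul_mul, mul_assoc,
        hbi, Units.mul_inv, mul_one, div_eq_mul_inv]
    have himg : conjHom g x ∈ A := by
      rw [hx, conj_rightHom hab, ← hbi, hbs, map_smul]
      exact A.smul_mem hxA _
    have h1 : conjHom g y ∈ A.map (conjHom g) := ⟨y, hy, rfl⟩
    rw [hA, AlgHom.map_adjoin, Set.image_singleton] at h1
    exact Algebra.adjoin_le (Set.singleton_subset_iff.mpr himg) h1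
  have hadjA : ∀ y ∈ A, adj f y ∈ A := by
    intro y hy
    let S : Subalgebra F (Mat n F) :=
      { carrier := {X | adj f X ∈ A}
        mul_mem' := fun {a b} (ha : _ ∈ _) (hb : _ ∈ _) => show adj f _ ∈ A by
          rw [adj_mul hf]; exact A.mul_mem hb ha
        add_mem' := fun {a b} (ha : _ ∈ _) (hb : _ ∈ _) => show adj f _ ∈ A by
          rw [adj_add hf]; exact A.add_mem ha hb
        algebraMap_mem' := fun c => show adj f _ ∈ A by
          rw [one_smul_eq, adj_smul_one hf, ← one_smul_eq]; exact A.algebraMap_mem c }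
    refine Algebra.adjoin_le (S := S) (Set.singleton_subset_iff.mpr ?_) hy
    show adj f x ∈ A
    rw [hadj]; exact A.neg_mem hxA
  refine centre_cases hf hn hH hirr hnorm hadjA ⟨x, mem_centre.mpr ⟨hxA, fun a ha => ?_⟩, fun c hc => ?_⟩
  · exact ((Algebra.commute_of_mem_adjoin_singleton_of_commute ha rfl).eq).symm
  · rw [hx, ← one_smul_eq, ← AlgHom.commutes (rightHom e P)] at hc
    have hsc : s = c • (1 : Mat 2 F) := by
      rw [← one_smul_eq]; exact rightHom_injective e P hm hc
    have hJc : J = c • (Gu : Mat 2 F) := by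
      have h := congrArg (fun M => (Gu : Mat 2 F) * M) hsc
      simp only [hs, hGi, ← mul_assoc, Units.mul_inv, one_mul, Matrix.mul_smul, mul_one] at h
      exact h
    have h01 := congrFun (congrFun hJc 0) 1
    have h10 := congrFun (congrFun hJc 1) 0
    have hs01 := congrFun (congrFun hsym 0) 1
    simp only [Matrix.transpose_apply] at hs01
    simp [J] at h01 h10
    rw [hs01, ← h01] at h10
    exact h2 (by linear_combination -h10)

/-- A monomial three-dimensional factor over three elements: an orthogonal decomposition appears. -/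
theorem frame_cases (hf : IsSymplecticForm f) {H : Subgroup (GL (Fin n) F)}
    (hH : H ≤ isomSubgroup f) (hirr : ActsIrreducibly (matrixSet H)) (hq : Fintype.card F = 3)
    {m : ℕ} (hm : 0 < m) {e : Fin n ≃ Fin m × Fin 3} {P : GL (Fin n) F} {G₁ : Mat m F} {G₂ : Mat 3 F}
    (hG : tGram e P f = G₁ ⊗ₖ G₂) (hu1 : IsUnit G₁) (hu2 : IsUnit G₂) (hsym : G₂ᵀ = G₂)
    (hle : H ≤ tensorProductSubgroup m 3 e P) : CentreCases f H := by
  classical
  have hg := fog_symmetric hu2 hsym
  obtain ⟨v, d, hd, hv⟩ := TensorNonMax.exists_orth3 hq hg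
  have hli := TensorNonMax.orth_li (τ := id) hg.bilinear.add_left hg.bilinear.smul_left hd hv
  let p : Fin 3 → Mat 3 F := fun i => d⁻¹ • Matrix.vecMulVec (v i) (G₂ *ᵥ v i)
  have hpv : ∀ i j, p i *ᵥ v j = if i = j then v i else 0 := by
    intro i j
    simp only [p, Matrix.smul_mulVec, Matrix.vecMulVec_mulVec, op_smul_eq_smul, smul_smul]
    rw [dotProduct_comm, ← fog_eq, hv]
    by_cases hij : i = j
    · subst hij; simp [inv_mul_cancel₀ hd]
    · simp [hij, Ne.symm hij]
  have hspan := hli.span_eq_top_of_card_eq_finrank (by simp)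
  have hext : ∀ {X Y : Mat 3 F}, (∀ j, X *ᵥ v j = Y *ᵥ v j) → X = Y := by
    intro X Y h
    refine Matrix.toLin'.injective (LinearMap.ext_on_range hspan fun j => ?_)
    simpa using h j
  let E : Fin 3 → Mat n F := fun i => rightHom e P (p i)
  have hpp : ∀ i j, p i * p j = if i = j then p i else 0 := by
    intro i j
    refine hext fun l => ?_
    rw [← Matrix.mulVec_mulVec, hpv]
    by_cases hjl : j = l
    · subst hjl
      rw [if_pos rfl, hpv]
      by_cases hij : i = j <;> simp [hij, hpv]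
    · rw [if_neg hjl, Matrix.mulVec_zero]
      by_cases hij : i = j
      · subst hij; rw [if_pos rfl, hpv, if_neg hjl]
      · simp [hij]
  have hne : ∀ i, p i ≠ 0 := by
    intro i h
    have := hpv i i
    rw [h, Matrix.zero_mulVec, if_pos rfl] at this
    exact hli.ne_zero i this.symm
  have hEinj : Function.Injective E := fun i j h => by
    by_contra hij
    have h' := rightHom_injective e P hm h
    have h3 := hpp i j
    rw [if_neg hij, ← h', hpp, if_pos rfl] at h3
    exact hne i h3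
  have hself : ∀ i, adj f (E i) = E i := by
    intro i
    refine adj_rightHom hf hG ?_
    simp only [p, Matrix.transpose_smul, Matrix.transpose_vecMulVec, Matrix.smul_mul, Matrix.mul_smul]
    congr 1
    rw [Matrix.mul_vecMulVec, Matrix.vecMulVec_mul]
    congr 1
    rw [← Matrix.mulVec_transpose, hsym]
  have hconj : ∀ g ∈ H, ∀ i, ∃ j, conjHom g (E i) = E j := by
    intro g hg' i
    haveI : NeZero m := ⟨hm.ne'⟩
    obtain ⟨a, b, μ, hμ, hab, hb, -⟩ := factor_sim hf hG hu1.ne_zero hu2.ne_zero (hH hg') (hle hg')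
    have hsim : ∀ x y, formOfGram id G₂ ((b : Mat 3 F) *ᵥ x) ((b : Mat 3 F) *ᵥ y) =
        μ * formOfGram id G₂ x y := by
      intro x y
      rw [fog_eq, fog_eq, ← Matrix.vecMul_transpose, ← Matrix.dotProduct_mulVec, Matrix.mulVec_mulVec,
        Matrix.mulVec_mulVec, hb, Matrix.smul_mulVec, dotProduct_smul, smul_eq_mul]
    have hmono := TensorNonMax.mono3 hq hg hd hv hμ hsim
    choose τ α hτ using hmono
    have hα : ∀ i, α i ≠ 0 := by
      intro l h0
      have h := hτ l
      rw [h0, zero_smul] at h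
      have := congrArg (fun z => ((b⁻¹ : GL (Fin 3) F) : Mat 3 F) *ᵥ z) h
      simp [Matrix.mulVec_mulVec] at this
      exact hli.ne_zero l this
    have hτinj : Function.Injective τ := by
      intro l l' h
      by_contra hne'
      have h1 := hsim (v l) (v l')
      rw [hτ, hτ, h, hg.bilinear.smul_left, hg.bilinear.smul_right, hv, if_pos rfl, hv, if_neg hne',
        mul_zero] at h1
      exact mul_ne_zero (hα l) (mul_ne_zero (hα l') hd) h1
    refine ⟨τ i, ?_⟩
    show conjHom g (rightHom e P (p i)) = _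
    rw [conj_rightHom hab]
    congr 1
    rw [Units.mul_inv_eq_iff_eq_mul]
    refine hext fun l => ?_
    rw [← Matrix.mulVec_mulVec, ← Matrix.mulVec_mulVec, hpv, hτ, Matrix.mulVec_smul, hpv]
    by_cases hil : i = l
    · subst hil; simp [hτ]
    · rw [if_neg hil, if_neg fun h => hil (hτinj h), Matrix.mulVec_zero, smul_zero]
  refine .inl (decomp_of_orthogonal hf hirr (S := Finset.univ.image E) ?_ ?_ ?_ ?_ ?_ ?_ ?_)
  · rw [Finset.card_image_of_injective _ hEinj]; simp
  · simp only [Finset.mem_image, Finset.mem_univ, true_and, forall_exists_index,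
      forall_apply_eq_imp_iff]
    intro i; rw [← map_mul, hpp, if_pos rfl]
  · simp only [Finset.mem_image, Finset.mem_univ, true_and, forall_exists_index,
      forall_apply_eq_imp_iff]
    intro i h
    exact hne i (rightHom_injective e P hm (h.trans (map_zero _).symm))
  · simpa using hself
  · simp only [Finset.mem_image, Finset.mem_univ, true_and, forall_exists_index,
      forall_apply_eq_imp_iff]
    intro i j hij
    show rightHom e P (p i) * rightHom e P (p j) = 0
    rw [← map_mul, hpp, if_neg (fun h => hij (congrArg E h)), map_zero]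
  · rw [Finset.sum_image hEinj.injOn, ← map_sum, ← map_one (rightHom e P)]
    congr 1
    refine hext fun j => ?_
    rw [Matrix.sum_mulVec, Matrix.one_mulVec]
    simp [hpv]
  · intro g hg' x hx
    obtain ⟨i, -, rfl⟩ := Finset.mem_image.mp hx
    obtain ⟨j, hj⟩ := hconj g hg' i
    exact Finset.mem_image.mpr ⟨j, Finset.mem_univ _, hj.symm⟩

/-- In characteristic two both factors are alternating and a quadratic form is fixed. -/
theorem quad_of_tensor (hf : IsSymplecticForm f) (h2 : (2 : F) = 0) {H : Subgroup (GL (Fin n) F)}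
    (hH : H ≤ isomSubgroup f) (hG : tGram e P f = G₁ ⊗ₖ G₂) (hu1 : IsUnit G₁) (hu2 : IsUnit G₂)
    (ha1 : IsAltMat G₁) (ha2 : IsAltMat G₂) (hle : H ≤ tensorProductSubgroup m k e P) :
    ∃ Q : (Fin n → F) → F, IsNondegenerateQuadraticForm Q ∧
      (∀ u v, QuadraticMap.polar Q u v = f u v) ∧ FixesQuadForm (matrixSet H) Q := by
  classical
  have hneg : ∀ a : F, -a = a := fun a => by linear_combination (-a) * h2
  set Pi' : Mat n F := ((P⁻¹ : GL (Fin n) F) : Mat n F) with hPi
  set M : Mat n F := (P : Mat n F)ᵀ * gramMatrix f * (P : Mat n F) with hM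
  have hMeq : ∀ i j, M i j = f ((P : Mat n F) *ᵥ Pi.single i 1) ((P : Mat n F) *ᵥ Pi.single j 1) := by
    intro i j
    have h := tGram_apply e P hf (e i) (e j)
    simpa [tGram] using h
  let U : Mat n F := Matrix.of fun i j => if i < j then M i j else 0
  have hU : U + Uᵀ = M := by
    ext i j
    simp only [Matrix.add_apply, Matrix.transpose_apply, U, Matrix.of_apply]
    rcases lt_trichotomy i j with h | h | h
    · simp [h, not_lt.mpr h.le]
    · subst h; simp [hMeq, hf.alternating]
    · simp only [h, not_lt.mpr h.le, if_false, if_true, zero_add, hMeq]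
      rw [hf.skew, hneg]
  let Q : (Fin n → F) → F := fun v => (Pi' *ᵥ v) ⬝ᵥ (U *ᵥ (Pi' *ᵥ v))
  have hPP : ∀ v, (P : Mat n F) *ᵥ (Pi' *ᵥ v) = v := fun v => by
    rw [Matrix.mulVec_mulVec, hPi, Units.mul_inv, Matrix.one_mulVec]
  have hadd : ∀ u v, Q (u + v) = Q u + Q v + f u v := by
    intro u v
    have h1 : f u v = (Pi' *ᵥ u) ⬝ᵥ (M *ᵥ (Pi' *ᵥ v)) := by
      conv_lhs => rw [← hPP u, ← hPP v, form_apply hf]
      rw [hM, ← Matrix.vecMul_transpose, ← Matrix.dotProduct_mulVec]
      simp only [Matrix.mulVec_mulVec, mul_assoc]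
    have h3 : (Pi' *ᵥ v) ⬝ᵥ (U *ᵥ (Pi' *ᵥ u)) = (Pi' *ᵥ u) ⬝ᵥ (Uᵀ *ᵥ (Pi' *ᵥ v)) := by
      rw [Matrix.dotProduct_mulVec, dotProduct_comm, Matrix.mulVec_transpose]
    simp only [Q, Matrix.mulVec_add, dotProduct_add, add_dotProduct, h1, ← hU, Matrix.add_mulVec, h3]
    ring
  have hsmul : ∀ (c : F) v, Q (c • v) = c ^ 2 * Q v := fun c v => by
    simp only [Q, Matrix.mulVec_smul, dotProduct_smul, smul_dotProduct, smul_eq_mul]; ring
  have hpolar : ∀ u v, QuadraticMap.polar Q u v = f u v := fun u v => by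
    rw [QuadraticMap.polar, hadd]; ring
  have hbase : ∀ i, Q ((P : Mat n F) *ᵥ Pi.single i 1) = 0 := by
    intro i
    simp only [Q, Matrix.mulVec_mulVec, hPi, ← Units.val_mul, inv_mul_cancel]
    simp [U, Matrix.mulVec_single_one, Matrix.col, dotProduct, Matrix.one_apply]
    refine Finset.sum_eq_zero fun x _ => ?_
    split_ifs with h1 h3
    · exact absurd h3.symm h1.ne
    all_goals rfl
  -- the value on pure tensors
  have hL : ∀ u w u' w', f (TensorNonMax.tmap e P u w) (TensorNonMax.tmap e P u' w') =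
      formOfGram id G₁ u u' * formOfGram id G₂ w w' := by
    intro u w u' w'
    obtain ⟨c, hc, h⟩ : ∃ c : F, c = 1 ∧ ∀ x y, f ((P : Mat n F) *ᵥ (x ∘ e)) ((P : Mat n F) *ᵥ (y ∘ e)) =
        c * formOfGram id (G₁ ⊗ₖ G₂) x y := ⟨1, rfl, fun x y => by rw [one_mul, ← hG, form_pull e P hf]⟩
    rw [TensorNonMax.tmap_apply, TensorNonMax.tmap_apply, h, hc, one_mul]
    simp only [formOfGram, id_eq]
    rw [Finset.sum_mul_sum, Fintype.sum_prod_type]
    refine Finset.sum_congr rfl fun i _ => Finset.sum_congr rfl fun j _ => ?_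
    rw [Finset.sum_mul_sum, Fintype.sum_prod_type]
    refine Finset.sum_congr rfl fun i' _ => Finset.sum_congr rfl fun j' _ => ?_
    simp only [Matrix.kroneckerMap_apply]
    ring
  have h1alt := (fog_symplectic hu1 ha1).alternating
  have h2alt := (fog_symplectic hu2 ha2).alternating
  have hpure : ∀ u w, Q (TensorNonMax.tmap e P u w) = 0 := by
    intro u w
    have haddw : ∀ u, ∀ w w', Q (TensorNonMax.tmap e P u (w + w')) =
        Q (TensorNonMax.tmap e P u w) + Q (TensorNonMax.tmap e P u w') := fun u w w' => by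
      rw [map_add, hadd, hL, h1alt, zero_mul, add_zero]
    have haddu : ∀ u u' w, Q (TensorNonMax.tmap e P (u + u') w) =
        Q (TensorNonMax.tmap e P u w) + Q (TensorNonMax.tmap e P u' w) := fun u u' w => by
      rw [map_add, LinearMap.add_apply, hadd, hL, h2alt, mul_zero, add_zero]
    let φ : (Fin k → F) →+ F :=
      AddMonoidHom.mk' (fun w => Q (TensorNonMax.tmap e P u w)) (haddw u)
    show φ w = 0
    rw [pi_eq_sum_univ' w, map_sum]
    refine Finset.sum_eq_zero fun j _ => ?_
    show Q (TensorNonMax.tmap e P u (w j • Pi.single j 1)) = 0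
    rw [map_smul, hsmul]
    let ψ : (Fin m → F) →+ F :=
      AddMonoidHom.mk' (fun u => Q (TensorNonMax.tmap e P u (Pi.single j 1))) (fun u u' => haddu u u' _)
    have hψ : ψ u = 0 := by
      rw [pi_eq_sum_univ' u, map_sum]
      refine Finset.sum_eq_zero fun i _ => ?_
      show Q (TensorNonMax.tmap e P (u i • Pi.single i 1) _) = 0
      rw [map_smul, LinearMap.smul_apply, hsmul]
      have : TensorNonMax.tmap e P (Pi.single i 1) (Pi.single j 1) =
          (P : Mat n F) *ᵥ Pi.single (e.symm (i, j)) 1 := by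
        rw [TensorNonMax.tmap_apply]
        congr 1
        funext l
        obtain ⟨⟨a, b⟩, rfl⟩ := e.symm.surjective l
        by_cases ha : a = i <;> by_cases hb : b = j <;>
          simp [ha, hb, e.symm.injective.eq_iff]
      rw [this, hbase, mul_zero]
    rw [show Q (TensorNonMax.tmap e P u (Pi.single j 1)) = ψ u from rfl, hψ, mul_zero]
  refine ⟨Q, ⟨hsmul, ?_, ?_⟩, hpolar, ?_⟩
  · exact ⟨fun x y v => by simp only [hpolar, hf.bilinear.add_left],
      fun c x v => by simp only [hpolar, hf.bilinear.smul_left],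
      fun v x y => by simp only [hpolar, hf.bilinear.add_right],
      fun c v x => by simp only [hpolar, hf.bilinear.smul_right]⟩
  · intro v hv
    obtain ⟨⟨x, hx⟩, y, hy⟩ := hf.nondegenerate v hv
    exact ⟨⟨x, by rwa [hpolar]⟩, y, by rwa [hpolar]⟩
  · rintro _ ⟨g, hg, rfl⟩ v
    let D : (Fin n → F) →+ F :=
      AddMonoidHom.mk' (fun v => Q ((g : Mat n F) *ᵥ v) - Q v) fun x y => by
        rw [Matrix.mulVec_add, hadd, hadd, hH hg]; ring
    have hD : D v = 0 := by
      conv_lhs => rw [← hPP v, pi_eq_sum_univ' (Pi' *ᵥ v), Matrix.mulVec_sum]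
      rw [map_sum]
      refine Finset.sum_eq_zero fun i _ => ?_
      show Q ((g : Mat n F) *ᵥ ((P : Mat n F) *ᵥ ((Pi' *ᵥ v) i • Pi.single i 1))) -
        Q ((P : Mat n F) *ᵥ ((Pi' *ᵥ v) i • Pi.single i 1)) = 0
      rw [Matrix.mulVec_smul, Matrix.mulVec_smul, hsmul, hsmul, hbase, mul_zero, sub_zero]
      obtain ⟨a, b, hab⟩ := TensorNonMax.tmap_mul e P (hle hg)
      have hbasis : (P : Mat n F) *ᵥ Pi.single i 1 =
          TensorNonMax.tmap e P (Pi.single (e i).1 1) (Pi.single (e i).2 1) := by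
        rw [TensorNonMax.tmap_apply]
        congr 1
        funext l
        by_cases hl : l = i
        · subst hl; simp
        · have hne := e.injective.ne hl
          rw [Ne, Prod.ext_iff, not_and_or] at hne
          rcases hne with h | h <;> simp [hl, h]
      rw [hbasis, hab, hpure, mul_zero]
    exact sub_eq_zero.mp hD

/-- In characteristic two a symmetric factor that is not alternating contradicts irreducibility. -/
theorem symm_false (hf : IsSymplecticForm f) (h2 : (2 : F) = 0) (hm : 0 < m) (hk : 2 ≤ k)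
    {H : Subgroup (GL (Fin n) F)} (hH : H ≤ isomSubgroup f) (hirr : ActsIrreducibly (matrixSet H))
    (hG : tGram e P f = G₁ ⊗ₖ G₂) (hu1 : IsUnit G₁) (hu2 : IsUnit G₂)
    (hs : G₂ᵀ = G₂) (hna : ¬ IsAltMat G₂) (hle : H ≤ tensorProductSubgroup m k e P) : False := by
  classical
  haveI : NeZero m := ⟨hm.ne'⟩
  haveI : NeZero k := ⟨by omega⟩
  obtain ⟨i₀, hi₀⟩ : ∃ i, G₂ i i ≠ 0 := by
    by_contra hno
    push Not at hno
    refine hna ⟨?_, hno⟩
    rw [hs]; ext a b; simp only [Matrix.neg_apply]; linear_combination (G₂ a b) * h2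
  have hb := fog_symmetric hu2 hs
  let N : Submodule F (Fin k → F) :=
    { carrier := {y | formOfGram id G₂ y y = 0}
      add_mem' := fun {a b} (ha : _ = 0) (hb' : _ = 0) => show _ = 0 by
        rw [hb.bilinear.add_left, hb.bilinear.add_right, hb.bilinear.add_right, ha, hb',
          hb.symm b a]
        linear_combination (formOfGram id G₂ a b) * h2
      zero_mem' := show _ = 0 by simp [fog_eq]
      smul_mem' := fun c a (ha : _ = 0) => show _ = 0 by
        rw [hb.bilinear.smul_left, hb.bilinear.smul_right, ha, mul_zero, mul_zero] }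
  have hdiag : ∀ i, formOfGram id G₂ (Pi.single i 1) (Pi.single i 1) = G₂ i i := fun i => by
    simp [fog_eq, single_one_dotProduct, Matrix.mulVec_single_one]
  obtain ⟨y, hy, hy0⟩ : ∃ y ∈ N, y ≠ 0 := by
    haveI : Nontrivial (Fin k) := Fin.nontrivial_iff_two_le.mpr hk
    obtain ⟨j, hj⟩ := exists_ne i₀
    haveI : CharP F 2 := CharTwo.of_one_ne_zero_of_two_eq_zero one_ne_zero h2
    obtain ⟨c, hc⟩ := FiniteField.isSquare_of_char_two (ringChar.eq F 2) (G₂ j j / G₂ i₀ i₀)
    refine ⟨Pi.single j 1 + c • Pi.single i₀ 1, ?_, fun h => ?_⟩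
    · show _ = 0
      rw [hb.bilinear.add_left, hb.bilinear.add_right, hb.bilinear.add_right, hb.bilinear.smul_left,
        hb.bilinear.smul_left, hb.bilinear.smul_right, hb.bilinear.smul_right,
        hb.symm (Pi.single i₀ 1) (Pi.single j 1), hdiag, hdiag, ← mul_assoc c c, ← hc,
        div_mul_cancel₀ _ hi₀]
      linear_combination (G₂ j j + c * formOfGram id G₂ (Pi.single j 1) (Pi.single i₀ 1)) * h2
    · have := congrFun h j
      simp [hj] at this
  set Pi' : Mat n F := ((P⁻¹ : GL (Fin n) F) : Mat n F)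
  let row : Fin m → (Fin n → F) →ₗ[F] (Fin k → F) := fun i =>
    LinearMap.pi fun j => (LinearMap.proj (e.symm (i, j))).comp (Matrix.toLin' Pi')
  let W : Submodule F (Fin n → F) := ⨅ i, N.comap (row i)
  have hW := irr_iff.mp hirr W (by
    rintro _ ⟨g, hg, rfl⟩ v hv
    obtain ⟨a, b, μ, hμ, hab, hbsim, -⟩ := factor_sim hf hG hu1.ne_zero hu2.ne_zero (hH hg) (hle hg)
    rw [Submodule.mem_iInf] at hv ⊢
    intro i
    rw [Submodule.mem_comap]
    have hrow : row i ((g : Mat n F) *ᵥ v) =
        ∑ l, (a : Mat m F) i l • ((b : Mat k F) *ᵥ row l v) := by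
      funext j
      have h1 : Pi' *ᵥ ((g : Mat n F) *ᵥ v) =
          Matrix.reindex e.symm e.symm ((a : Mat m F) ⊗ₖ (b : Mat k F)) *ᵥ (Pi' *ᵥ v) := by
        rw [Matrix.mulVec_mulVec, Matrix.mulVec_mulVec, hab, pull_apply]
        simp only [Pi', ← mul_assoc, Units.inv_mul, one_mul]
      have hr : ∀ l, row l v = fun j' => (Pi' *ᵥ v) (e.symm (l, j')) := fun l => rfl
      have hr' : row i ((g : Mat n F) *ᵥ v) j = (Pi' *ᵥ ((g : Mat n F) *ᵥ v)) (e.symm (i, j)) := rfl
      simp only [hr', h1, hr, Finset.sum_apply, Pi.smul_apply, smul_eq_mul]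
      generalize Pi' *ᵥ v = w
      simp only [Matrix.mulVec, dotProduct, Finset.mul_sum]
      refine (Fintype.sum_equiv e _ (fun p : Fin m × Fin k =>
        (a : Mat m F) i p.1 * ((b : Mat k F) j p.2 * w (e.symm p))) fun l => ?_).trans
        (Fintype.sum_prod_type _)
      simp [mul_assoc]
    rw [hrow]
    refine N.sum_mem fun l _ => N.smul_mem _ ?_
    show formOfGram id G₂ _ _ = 0
    have hvl : formOfGram id G₂ (row l v) (row l v) = 0 := hv l
    rw [fog_eq]
    nth_rewrite 1 [← Matrix.vecMul_transpose]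
    rw [← Matrix.dotProduct_mulVec, Matrix.mulVec_mulVec, Matrix.mulVec_mulVec, hbsim, Matrix.smul_mulVec,
      dotProduct_smul, ← fog_eq, hvl, smul_zero])
  rcases hW with h | h
  · -- a non-zero vector with all rows in `N`
    let x : Fin n → F := fun l => if (e l).1 = 0 then y (e l).2 else 0
    have hx : (P : Mat n F) *ᵥ x ∈ W := by
      rw [Submodule.mem_iInf]
      intro i
      rw [Submodule.mem_comap]
      have : row i ((P : Mat n F) *ᵥ x) = if i = 0 then y else 0 := by
        funext j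
        simp only [row, LinearMap.pi_apply, LinearMap.comp_apply, LinearMap.proj_apply,
          Matrix.toLin'_apply, Matrix.mulVec_mulVec, Pi', Units.inv_mul, Matrix.one_mulVec, x,
          e.apply_symm_apply]
        split <;> rfl
      rw [this]
      split
      · exact hy
      · exact N.zero_mem
    rw [h, Submodule.mem_bot] at hx
    apply hy0
    funext j
    have := congrArg (fun z => Pi' *ᵥ z) hx
    simp only [Pi', Matrix.mulVec_mulVec, Units.inv_mul, Matrix.one_mulVec, Matrix.mulVec_zero] at this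
    simpa [x] using congrFun this (e.symm (0, j))
  · let x : Fin n → F := Pi.single (e.symm (0, i₀)) 1
    have hx : (P : Mat n F) *ᵥ x ∈ W := h ▸ Submodule.mem_top
    rw [Submodule.mem_iInf] at hx
    have h0 := hx 0
    rw [Submodule.mem_comap] at h0
    have : row 0 ((P : Mat n F) *ᵥ x) = Pi.single i₀ 1 := by
      funext j
      simp only [row, LinearMap.pi_apply, LinearMap.comp_apply, LinearMap.proj_apply,
        Matrix.toLin'_apply, Matrix.mulVec_mulVec, Pi', Units.inv_mul, Matrix.one_mulVec, x]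
      by_cases hj : j = i₀ <;> simp [hj, e.symm.injective.eq_iff]
    rw [this] at h0
    exact hi₀ ((hdiag i₀).symm.trans h0)

/-- The oriented case. -/
theorem oriented_cases (hf : IsSymplecticForm f) (hn : 0 < n) {H : Subgroup (GL (Fin n) F)}
    (hH : H ≤ isomSubgroup f) (hirr : ActsIrreducibly (matrixSet H)) (hm : 2 ≤ m) (hk : 2 ≤ k)
    (hG : tGram e P f = G₁ ⊗ₖ G₂) (hu1 : IsUnit G₁) (hu2 : IsUnit G₂) (ha : IsAltMat G₁) (hs : G₂ᵀ = G₂)
    (hle : H ≤ tensorProductSubgroup m k e P) : TensorCase f H ∨ CentreCases f H := by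
  classical
  by_cases hodd : Odd (Fintype.card F)
  · have h2 : (2 : F) ≠ 0 := by
      intro h2
      haveI : CharP F 2 := CharTwo.of_one_ne_zero_of_two_eq_zero one_ne_zero h2
      have h := FiniteField.even_card_iff_char_two.mp (ringChar.eq F 2)
      rcases hodd with ⟨c, hc⟩
      omega
    rcases eq_or_lt_of_le hk with rfl | hk3
    · exact .inr (plane_cases hf hn hH hirr h2 (by omega) hG hu1 hu2 hs hle)
    by_cases h33 : Fintype.card F = 3 ∧ k = 3
    · obtain ⟨hq, rfl⟩ := h33
      exact .inr (frame_cases hf hH hirr hq (by omega) hG hu1 hu2 hs hle)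
    refine .inl ⟨hodd, m, k, e, P, formOfGram id G₁, formOfGram id G₂, hm, hk3, h33,
      fog_symplectic hu1 ha, fog_symmetric hu2 hs, ⟨1, one_ne_zero, fun x y => ?_⟩, hle⟩
    rw [one_mul, gram_fog, gram_fog, form_pull e P hf, hG]
  have h2 := two_eq_zero_of_not_odd hodd
  by_cases ha2 : IsAltMat G₂
  · exact .inr (.inr (.inr (.inr (.inr ⟨hodd, quad_of_tensor hf h2 hH hG hu1 hu2 ha ha2 hle⟩))))
  · exact (symm_false hf h2 (by omega) hk hH hirr hG hu1 hu2 hs ha2 hle).elim

/-- A subalgebra `M_m(F) ⊗ 1` closed under adjoints and normalised by `H`. -/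
theorem tensor_cases (hf : IsSymplecticForm f) (hn : 0 < n) {H : Subgroup (GL (Fin n) F)}
    (hH : H ≤ isomSubgroup f) (hirr : ActsIrreducibly (matrixSet H)) (hm : 2 ≤ m) (hk : 2 ≤ k)
    (e : Fin n ≃ Fin m × Fin k) (P : GL (Fin n) F)
    (hadj : ∀ X : Mat m F, ∃ Y : Mat m F, adj f (leftHom e P X) = leftHom e P Y)
    (hle : H ≤ tensorProductSubgroup m k e P) : TensorCase f H ∨ CentreCases f H := by
  classical
  obtain ⟨G₁, G₂, hu1, hu2, hG⟩ := factor e (tGram_unit e P hf) (by omega) (by omega) fun X => by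
    obtain ⟨Y, hY⟩ := hadj X
    exact ⟨Y, pull_adj e P hf hY⟩
  haveI : NeZero m := ⟨by omega⟩
  haveI : NeZero k := ⟨by omega⟩
  rcases alt_or_alt hu1.ne_zero hu2.ne_zero (hG ▸ tGram_skew e P hf) (fun p => by
      rw [← hG, tGram_apply e P hf, hf.alternating]) with ⟨ha, hs⟩ | ⟨ha, hs⟩
  · exact oriented_cases hf hn hH hirr hm hk hG hu1 hu2 ha hs hle
  · refine oriented_cases hf hn hH hirr hk hm (e := e.trans (Equiv.prodComm _ _)) (P := P)
      (G₁ := G₂) (G₂ := G₁) ?_ hu2 hu1 ha hs (hle.trans (tensor_swap e P))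
    ext p q
    have := congrFun (congrFun hG p.swap) q.swap
    simp only [tGram, Matrix.reindex_apply, Matrix.submatrix_apply, Matrix.kroneckerMap_apply] at this ⊢
    rw [mul_comm]
    exact this

end CfsgLib.Classical.AschSp
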