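import Cfsg.Agent.Lib.Classical.AschSp.SymTwo
import Cfsg.Agent.Lib.Classical.AschSp.QuatThree
import Cfsg.Agent.Lib.Classical.AschSp.Tensor

/-!
# A quaternion times dihedral group in degree four over three elements
-/

set_option autoImplicit false
set_option linter.unusedSectionVars false

namespace CfsgLib.Classical.AschSp

open Matrix Cfsg Cfsg.Geo CfsgLib.Classical.AschPrime CfsgLib.Classical.AschGen
open scoped MatrixGroups Kronecker

variable {F : Type*} [Field F] [Fintype F] {n : ℕ}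
variable {f : (Fin n → F) → (Fin n → F) → F}

theorem mem_isom_of_pull (hf : IsSymplecticForm f) {m k : ℕ} (e : Fin n ≃ Fin m × Fin k)
    (P : GL (Fin n) F) {g : GL (Fin n) F} {X : Matrix (Fin m × Fin k) (Fin m × Fin k) F}
    (hg : (g : Mat n F) = pull e P X) (hX : Xᵀ * tGram e P f * X = tGram e P f) :
    g ∈ isomSubgroup f := by
  obtain ⟨Gu, hGu⟩ := tGram_unit e P hf
  set Y : Matrix (Fin m × Fin k) (Fin m × Fin k) F :=
    ((Gu⁻¹ : (Matrix (Fin m × Fin k) (Fin m × Fin k) F)ˣ) : Matrix (Fin m × Fin k) (Fin m × Fin k) F)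
      * Xᵀ * tGram e P f
  have hY : adj f (pull e P X) = pull e P Y :=
    adj_pull e P hf (by simp only [Y, ← hGu, mul_assoc, Units.mul_inv_cancel_left])
  have hYX : Y * X = 1 := by
    simp only [Y, mul_assoc]
    rw [← mul_assoc Xᵀ, hX, ← hGu, Units.inv_mul]
  intro u v
  rw [adj_spec hf, Matrix.mulVec_mulVec, hg, hY, ← map_mul, hYX, map_one, Matrix.one_mulVec]

/-- The invariant form in coordinates. -/
def qAlt : Matrix (Fin 2) (Fin 2) F := !![0, 1; -1, 0]

theorem qAlt_conj (x : Matrix (Fin 2) (Fin 2) F) : xᵀ * qAlt * x = x.det • qAlt :=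
  det_two_conj x qAlt (by ext i j; fin_cases i <;> fin_cases j <;> simp [qAlt])
    fun i => by fin_cases i <;> simp [qAlt]

theorem scalar_kron (c : F) (m k : ℕ) :
    (c • (1 : Matrix (Fin m) (Fin m) F)) ⊗ₖ (1 : Matrix (Fin k) (Fin k) F) = c • 1 := by
  rw [Matrix.smul_kronecker, Matrix.one_kronecker_one]

theorem kron_left_ne {m k : ℕ} {X Y : Mat m F} {Z : Mat k F} (hZ : Z ≠ 0) (h : X ≠ Y) :
    X ⊗ₖ Z ≠ Y ⊗ₖ Z := by
  intro hk
  obtain ⟨p, q, hpq⟩ : ∃ p q, Z p q ≠ 0 := by
    by_contra hno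
    push Not at hno
    exact hZ (Matrix.ext hno)
  refine h (Matrix.ext fun a b => mul_right_cancel₀ hpq ?_)
  exact congrFun (congrFun hk (a, p)) (b, q)

/-- Over three elements, the stabiliser of a plane tensor plane decomposition of an alternating form
with anisotropic second factor normalises a group of symplectic type. -/
theorem quat_symType (hf : IsSymplecticForm f) (hq : Fintype.card F = 3)
    (e : Fin n ≃ Fin 2 × Fin 2) (P : GL (Fin n) F) (hG : tGram e P f = qAlt ⊗ₖ (1 : Mat 2 F))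
    {H : Subgroup (GL (Fin n) F)} (hH : H ≤ isomSubgroup f)
    (hle : H ≤ tensorProductSubgroup 2 2 e P) : SymTypeCase f H := by
  classical
  obtain rfl : n = 4 := by simpa using Fintype.card_congr e
  have h3 := three_eq_zero hq
  have h2 : (2 : F) ≠ 0 := fun h => one_ne_zero (α := F) (by linear_combination h3 - h)
  have hS0 : (qAlt : Mat 2 F) ≠ 0 := fun h => one_ne_zero (α := F) (by
    simpa [qAlt] using congrFun (congrFun h 0) 1)
  set I := isomSubgroup f
  -- the group
  let Pr : GL (Fin 4) F → Prop := fun g => ∃ x y : Mat 2 F, IsQuat x ∧ yᵀ * y = 1 ∧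
    (g : Mat 4 F) = pull e P (x ⊗ₖ y)
  have hmul : ∀ a b, Pr a → Pr b → Pr (a * b) := by
    rintro a b ⟨x, y, hx, hy, ha⟩ ⟨x', y', hx', hy', hb⟩
    refine ⟨x * x', y * y', (quat_mul hq hx hx').1, ?_, ?_⟩
    · rw [Matrix.transpose_mul, mul_assoc, ← mul_assoc yᵀ, hy, one_mul, hy']
    · rw [Units.val_mul, ha, hb, ← map_mul, ← Matrix.mul_kronecker_mul]
  have hfour : ∀ a, Pr a → a ^ 4 = 1 := by
    rintro a ⟨x, y, hx, hy, ha⟩
    rw [show a ^ 4 = a * a * (a * a) by simp [pow_succ, mul_assoc]]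
    refine Units.ext ?_
    rw [Units.val_mul, Units.val_mul, ha, ← map_mul, ← map_mul, ← Matrix.mul_kronecker_mul, ← Matrix.mul_kronecker_mul, (quat_mul hq hx hx).2.2,
      (orth_mul hq hy hy).2, Matrix.one_kronecker_one, map_one, Units.val_one]
  let R : Subgroup (GL (Fin 4) F) :=
    { carrier := {g | Pr g}
      one_mem' := ⟨1, 1, isQuat_one, by simp, by rw [Matrix.one_kronecker_one, map_one]; rfl⟩
      mul_mem' := fun {a b} ha hb => hmul a b ha hb
      inv_mem' := fun {a} ha => by
        have e : a⁻¹ = a * a * a := inv_eq_of_mul_eq_one_right (by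
          rw [← hfour a ha]; simp only [pow_succ, pow_zero, one_mul, mul_assoc])
        rw [e]
        exact hmul _ _ (hmul a a ha ha) ha }
  have hRI : R ≤ I := by
    rintro g ⟨x, y, hx, hy, hg⟩
    refine mem_isom_of_pull hf e P hg ?_
    rw [hG, ← Matrix.kroneckerMap_transpose, ← Matrix.mul_kronecker_mul, ← Matrix.mul_kronecker_mul,
      qAlt_conj, hx.1, one_smul, mul_one, hy]
  let U : (Matrix (Fin 2 × Fin 2) (Fin 2 × Fin 2) F)ˣ →* GL (Fin 4) F :=
    Units.map (pull e P).toMonoidHom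
  -- members from a pair
  have mkR : ∀ x y : Mat 2 F, IsQuat x → yᵀ * y = 1 →
      ∃ g ∈ R, (g : Mat 4 F) = pull e P (x ⊗ₖ y) := by
    intro x y hx hy
    have hu : IsUnit (x ⊗ₖ y) := by
      refine (Matrix.isUnit_iff_isUnit_det _).mpr ?_
      rw [Matrix.det_kronecker, hx.1, one_pow, one_mul]
      exact (IsUnit.of_mul_eq_one yᵀ.det (by rw [mul_comm, ← Matrix.det_mul, hy, Matrix.det_one])).pow _
    exact ⟨U hu.unit, ⟨x, y, hx, hy, rfl⟩, rfl⟩
  have hcomm : ∀ a ∈ R, ∀ b ∈ R, (a : Mat 4 F) * b = b * a ∨ (a : Mat 4 F) * b = -((b : Mat 4 F) * a) := by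
    rintro a ⟨x, y, hx, hy, ha⟩ b ⟨x', y', hx', hy', hb⟩
    rw [ha, hb, ← map_mul, ← map_mul, ← Matrix.mul_kronecker_mul, ← Matrix.mul_kronecker_mul]
    rcases (quat_mul hq hx hx').2.1 with h | h <;> rcases (orth_mul hq hy hy').1 with h' | h' <;>
      rw [h, h']
    · exact .inl rfl
    · right; rw [← map_neg]; congr 1; ext i j; simp
    · right; rw [← map_neg]; congr 1; ext i j; simp
    · left; congr 1; ext i j; simp
  have hR : SymType 2 R := by
    refine ⟨Nat.prime_two, fun a ha b hb => ?_, fun a ha => ?_, ?_, ?_, fun x hx hx4 => ?_⟩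
    · rcases hcomm a ha b hb with h | h
      · rw [show a * b * a⁻¹ * b⁻¹ = 1 by rw [show a * b = b * a from Units.ext h]; simp]
        exact one_mem _
      · rw [show a * b * a⁻¹ * b⁻¹ = -1 by
          rw [show a * b = -(b * a) from Units.ext (by simpa using h)]; simp [mul_assoc]]
        exact mem_scalars_of_eq (by norm_num) (c := -1) (by simp)
    · rw [show 2 * Nat.gcd 2 2 = 4 from rfl]; exact hfour a ha
    · have hl : (algOf R).comap (leftHom e P) = ⊤ := by
        have m1 : ∀ x : Mat 2 F, IsQuat x → x ∈ (algOf R).comap (leftHom e P) := fun x hx => by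
          obtain ⟨g, hg, hgv⟩ := mkR x 1 hx (by simp)
          show leftHom e P x ∈ algOf R
          rw [leftHom_apply, ← hgv]
          exact mem_algOf hg
        set S := (algOf R).comap (leftHom e P)
        have hI := m1 qI (isQuat_qI hq)
        have hJ := m1 _ (isQuat_qJ hq)
        have hIJ := S.mul_mem hI hJ
        have e1 : (qI : Mat 2 F) * (qT + qS) = qS - qT := by
          ext i j; fin_cases i <;> fin_cases j <;> simp [qI, qT, qS, Matrix.mul_apply, Fin.sum_univ_two]
        rw [e1] at hIJ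
        refine quat_span h2 hI ?_ ?_
        · have := S.smul_mem (S.sub_mem hJ hIJ) (2 : F)⁻¹
          rwa [show qT + qS - (qS - qT) = (2 : F) • (qT : Mat 2 F) by rw [two_smul]; abel, smul_smul,
            inv_mul_cancel₀ h2, one_smul] at this
        · have := S.smul_mem (S.add_mem hJ hIJ) (2 : F)⁻¹
          rwa [show qT + qS + (qS - qT) = (2 : F) • (qS : Mat 2 F) by rw [two_smul]; abel, smul_smul,
            inv_mul_cancel₀ h2, one_smul] at this
      have hr : (algOf R).comap (rightHom e P) = ⊤ := by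
        have m1 : ∀ y : Mat 2 F, yᵀ * y = 1 → y ∈ (algOf R).comap (rightHom e P) := fun y hy => by
          obtain ⟨g, hg, hgv⟩ := mkR 1 y isQuat_one hy
          show rightHom e P y ∈ algOf R
          rw [rightHom_apply, ← hgv]
          exact mem_algOf hg
        refine quat_span h2 (m1 _ ?_) (m1 _ ?_) (m1 _ ?_) <;>
        · ext i j
          fin_cases i <;> fin_cases j <;> simp [qI, qT, qS, Matrix.mul_apply, Fin.sum_univ_two]
      refine eq_top_iff.mpr fun M _ => ?_
      obtain ⟨X, rfl⟩ : ∃ X, pull e P X = M := by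
        refine ⟨Matrix.reindex e e (((P⁻¹ : GL (Fin 4) F) : Mat 4 F) * M * (P : Mat 4 F)), ?_⟩
        rw [pull_apply]
        have : Matrix.reindex e.symm e.symm (Matrix.reindex e e
            (((P⁻¹ : GL (Fin 4) F) : Mat 4 F) * M * (P : Mat 4 F))) =
              ((P⁻¹ : GL (Fin 4) F) : Mat 4 F) * M * (P : Mat 4 F) := by ext i j; simp
        rw [this]
        simp [mul_assoc]
      rw [Matrix.matrix_eq_sum_single X, map_sum]
      refine sum_mem fun p _ => ?_
      rw [map_sum]
      refine sum_mem fun q _ => ?_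
      have : Matrix.single p q (X p q) =
          ((X p q) • Matrix.single p.1 q.1 (1 : F)) ⊗ₖ Matrix.single p.2 q.2 (1 : F) := by
        rw [Matrix.smul_single, smul_eq_mul, mul_one, Matrix.single_kronecker_single, mul_one]
      rw [this, show ((X p q) • Matrix.single p.1 q.1 (1 : F)) ⊗ₖ Matrix.single p.2 q.2 (1 : F) =
        (((X p q) • Matrix.single p.1 q.1 (1 : F)) ⊗ₖ (1 : Mat 2 F)) *
          ((1 : Mat 2 F) ⊗ₖ Matrix.single p.2 q.2 (1 : F)) by
        rw [← Matrix.mul_kronecker_mul, mul_one, one_mul], map_mul]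
      refine mul_mem ?_ ?_
      · exact (hl.symm ▸ Algebra.mem_top : _ ∈ (algOf R).comap (leftHom e P))
      · exact (hr.symm ▸ Algebra.mem_top : _ ∈ (algOf R).comap (rightHom e P))
    · rw [Nat.card_eq_fintype_card, hq]
    · obtain ⟨c, hc⟩ := (mem_scalars_iff x).mp hx
      have hcc : (c : F) * c = 1 := by
        have h := FiniteField.pow_card_sub_one_eq_one (c : F) c.ne_zero
        rw [hq] at h
        simpa [pow_two] using h
      exact ⟨(c : F) • 1, 1, isQuat_smul hcc, by simp,
        by rw [scalar_kron, map_smul, map_one, hc]⟩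
  -- the normaliser
  set N := I ⊓ subgroupNormalizer R
  have hmemN : ∀ g ∈ I, (∀ x ∈ R, g * x * g⁻¹ ∈ R) → g ∈ N := fun g hg h => by
    refine ⟨hg, Subgroup.mem_normalizer_iff.mpr fun x => ⟨h x, fun hx => ?_⟩⟩
    let φ : R → R := fun y => ⟨g * y.1 * g⁻¹, h y.1 y.2⟩
    have hφ : Function.Injective φ := fun a b hab => by
      have := congrArg Subtype.val hab
      simpa [φ] using this
    obtain ⟨y, hy⟩ := (Finite.injective_iff_surjective.mp hφ) ⟨g * x * g⁻¹, hx⟩
    have := congrArg Subtype.val hy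
    simp only [φ, mul_left_inj, mul_right_inj] at this
    exact this ▸ y.2
  have hHN : H ≤ N := by
    intro g hg
    refine hmemN g (hH hg) ?_
    obtain ⟨a, b, μ, hμ, hab, hb, -⟩ :=
      factor_sim hf hG hS0 one_ne_zero (hH hg) (hle hg)
    rintro r ⟨x, y, hx, hy, hr⟩
    refine ⟨_, _, isQuat_conj hx (Units.mul_inv a), ?_, by
      rw [Units.val_mul, Units.val_mul, hr, ← conj_pull e P hab, conjHom_apply]⟩
    rw [mul_one] at hb
    set bi := ((b⁻¹ : GL (Fin 2) F) : Mat 2 F)
    have hbt : biᵀ * ((b : Mat 2 F)ᵀ * b) * bi = 1 := by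
      rw [show biᵀ * ((b : Mat 2 F)ᵀ * b) * bi = ((b : Mat 2 F) * bi)ᵀ * ((b : Mat 2 F) * bi) by
        simp [Matrix.transpose_mul, mul_assoc]]
      simp [bi]
    rw [hb] at hbt
    calc ((b : Mat 2 F) * y * bi)ᵀ * ((b : Mat 2 F) * y * bi)
        = biᵀ * (yᵀ * ((b : Mat 2 F)ᵀ * b) * y) * bi := by simp [Matrix.transpose_mul, mul_assoc]
      _ = 1 := by
        rw [hb, Matrix.mul_smul, mul_one, Matrix.smul_mul, hy]
        exact hbt
  have hNnorm : ∀ h ∈ N, ∀ x ∈ R, h * x * h⁻¹ ∈ R := fun h hh x hx =>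
    (Subgroup.mem_normalizer_iff.mp hh.2 x).mp hx
  have hab : ∀ A ≤ R, (∀ h ∈ N, ∀ x ∈ A, h * x * h⁻¹ ∈ A) →
      (∀ x ∈ A, ∀ y ∈ A, x * y = y * x) → A ≤ scalars (Fin 4) F := by
    intro A hA hAn hAc
    have key : ∀ a ∈ A, ∀ x y : Mat 2 F, IsQuat x → yᵀ * y = 1 →
        (a : Mat 4 F) = pull e P (x ⊗ₖ y) → ∃ c : F, x = c • 1 := by
      intro a ha x y hx hy hav
      refine (quat_moved hq hx).resolve_right ?_
      rintro ⟨s, t, hs, hst, hts, hne⟩
      let su : GL (Fin 2) F := ⟨s, t, hst, hts⟩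
      let g : GL (Fin 4) F := U ⟨s ⊗ₖ 1, t ⊗ₖ 1, by
        rw [← Matrix.mul_kronecker_mul, hst, mul_one, Matrix.one_kronecker_one], by
        rw [← Matrix.mul_kronecker_mul, hts, mul_one, Matrix.one_kronecker_one]⟩
      have hgv : (g : Mat 4 F) = pull e P ((su : Mat 2 F) ⊗ₖ ((1 : GL (Fin 2) F) : Mat 2 F)) := rfl
      have hgN : g ∈ N := by
        refine hmemN g (mem_isom_of_pull hf e P hgv ?_) ?_
        · rw [hG, ← Matrix.kroneckerMap_transpose, ← Matrix.mul_kronecker_mul,
            ← Matrix.mul_kronecker_mul, qAlt_conj]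
          simp [su, hs]
        · rintro r ⟨x', y', hx', hy', hr⟩
          exact ⟨_, _, isQuat_conj hx' hst, hy', by
            rw [Units.val_mul, Units.val_mul, hr, ← conjHom_apply, conj_pull e P hgv]
            simp [su]⟩
      have hc := hAc a ha _ (hAn g hgN a ha)
      have hc' := congrArg Units.val hc
      simp only [Units.val_mul] at hc'
      rw [hav, ← conjHom_apply,
        conj_pull e P hgv, ← map_mul, ← map_mul, ← Matrix.mul_kronecker_mul,
        ← Matrix.mul_kronecker_mul] at hc'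
      have hy0 : y * y ≠ 0 := fun h0 => by
        have h4 := (orth_mul hq hy hy).2
        rw [h0, zero_mul] at h4
        exact one_ne_zero h4.symm
      simp only [su, Units.val_one, Units.inv_mk, Units.val_mk, one_mul, mul_one, inv_one] at hc'
      exact kron_left_ne hy0 hne (pull_injective e P hc')
    intro a ha
    obtain ⟨x, y, hx, hy, hav⟩ := hA ha
    obtain ⟨c, rfl⟩ := key a ha x y hx hy hav
    rcases orth_anti hq hy with ⟨d, rfl⟩ | hanti
    · exact mem_scalars_of_eq (by norm_num) (c := c * d) (by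
        rw [hav, Matrix.smul_kronecker, Matrix.kronecker_smul, smul_smul, Matrix.one_kronecker_one,
          map_smul, map_one])
    exfalso
    obtain ⟨t, htt, htT, htb⟩ : ∃ t : Mat 2 F, t * t = 1 ∧ tᵀ = t ∧ t * y = -(y * t) := by
      rcases hanti with h | h
      · exact ⟨qT, by ext i j; fin_cases i <;> fin_cases j <;> simp [qT],
          by ext i j; fin_cases i <;> fin_cases j <;> simp [qT], h⟩
      · exact ⟨qS, by ext i j; fin_cases i <;> fin_cases j <;> simp [qS],
          by ext i j; fin_cases i <;> fin_cases j <;> simp [qS], h⟩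
    have hII : (qI : Mat 2 F) * qI = -1 := by
      ext i j; fin_cases i <;> fin_cases j <;> simp [qI, Matrix.mul_apply, Fin.sum_univ_two]
    obtain ⟨z, hz, hzv⟩ := mkR qI t (isQuat_qI hq) (by rw [htT, htt])
    set X : Matrix (Fin 2 × Fin 2) (Fin 2 × Fin 2) F := (qI : Mat 2 F) ⊗ₖ t with hX
    have hXX : X * X = -1 := by
      rw [hX, ← Matrix.mul_kronecker_mul, hII, htt]
      ext i j; simp [Matrix.one_apply, Prod.ext_iff]; grind
    have hzz : (z : Mat 4 F) * z = -1 := by rw [hzv, ← map_mul, hXX, map_neg, map_one]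
    let C : GL (Fin 2) F := ⟨qT, qT, by ext i j; fin_cases i <;> fin_cases j <;> simp [qT],
      by ext i j; fin_cases i <;> fin_cases j <;> simp [qT]⟩
    let w : GL (Fin 4) F := U ⟨(C : Mat 2 F) ⊗ₖ 1, (C : Mat 2 F) ⊗ₖ 1, by
      rw [← Matrix.mul_kronecker_mul, C.val_inv, mul_one, Matrix.one_kronecker_one], by
      rw [← Matrix.mul_kronecker_mul, C.inv_val, mul_one, Matrix.one_kronecker_one]⟩
    have hwv : (w : Mat 4 F) = pull e P ((C : Mat 2 F) ⊗ₖ ((1 : GL (Fin 2) F) : Mat 2 F)) := rfl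
    let v : GL (Fin 4) F := ⟨1 + (z : Mat 4 F), -(1 - (z : Mat 4 F)), by
      have e1 : (1 + (z : Mat 4 F)) * -(1 - (z : Mat 4 F)) = (z : Mat 4 F) * z - 1 := by noncomm_ring
      rw [e1, hzz, show (-1 - 1 : Mat 4 F) = (-2 : F) • 1 by rw [neg_smul, two_smul]; abel,
        show (-2 : F) = 1 by linear_combination -h3, one_smul], by
      have e1 : -(1 - (z : Mat 4 F)) * (1 + (z : Mat 4 F)) = (z : Mat 4 F) * z - 1 := by noncomm_ring
      rw [e1, hzz, show (-1 - 1 : Mat 4 F) = (-2 : F) • 1 by rw [neg_smul, two_smul]; abel,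
        show (-2 : F) = 1 by linear_combination -h3, one_smul]⟩
    have hvn : ∀ r ∈ R, ∃ r' ∈ R, v * r = r' * v := by
      intro r hr
      rcases hcomm z hz r hr with h | h
      · exact ⟨r, hr, Units.ext (by
          show (1 + (z : Mat 4 F)) * r = r * (1 + z)
          rw [add_mul, mul_add, one_mul, mul_one, h])⟩
      · refine ⟨z * r, R.mul_mem hz hr, Units.ext ?_⟩
        show (1 + (z : Mat 4 F)) * r = z * r * (1 + z)
        have hrz : (r : Mat 4 F) * z = -((z : Mat 4 F) * r) := by rw [h, neg_neg]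
        rw [add_mul, mul_add, one_mul, mul_one, mul_assoc, hrz, mul_neg, ← mul_assoc, hzz,
          neg_one_mul, neg_neg, add_comm]
    have hvw : v * w ∈ N := by
      refine hmemN _ (mem_isom_of_pull hf e P
        (X := (1 + X) * ((C : Mat 2 F) ⊗ₖ ((1 : GL (Fin 2) F) : Mat 2 F))) ?_ ?_) fun r hr => ?_
      · rw [Units.val_mul, hwv, map_mul (pull e P), map_add, map_one, ← hzv]
      · have hmid : (1 + X)ᵀ * ((qAlt : Mat 2 F) ⊗ₖ (1 : Mat 2 F)) * (1 + X) =
            -((qAlt : Mat 2 F) ⊗ₖ (1 : Mat 2 F)) := by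
          have hI1 : (qI : Mat 2 F)ᵀ * qAlt = -(qAlt * qI) := by
            ext i j; fin_cases i <;> fin_cases j <;> simp [qI, qAlt, Matrix.mul_apply, Fin.sum_univ_two]
          have hI2 : (qI : Mat 2 F)ᵀ * qAlt * qI = qAlt := by
            rw [qAlt_conj, (isQuat_qI hq).1, one_smul]
          rw [Matrix.transpose_add, Matrix.transpose_one, hX, ← Matrix.kroneckerMap_transpose, htT]
          rw [add_mul, one_mul, add_mul, mul_add, mul_add, mul_one, mul_one,
            ← Matrix.mul_kronecker_mul, ← Matrix.mul_kronecker_mul, ← Matrix.mul_kronecker_mul, hI2,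
            mul_one, one_mul, htt, hI1]
          ext i j
          simp only [Matrix.add_apply, Matrix.neg_apply, Matrix.kroneckerMap_apply]
          linear_combination (qAlt i.1 j.1 * (1 : Mat 2 F) i.2 j.2) * h3
        rw [hG, Matrix.transpose_mul, ← mul_assoc, mul_assoc _ (1 + X)ᵀ, mul_assoc _ _ (1 + X), hmid,
          mul_neg, neg_mul, ← Matrix.kroneckerMap_transpose, ← Matrix.mul_kronecker_mul,
          ← Matrix.mul_kronecker_mul, qAlt_conj]
        have hC : (C : Mat 2 F).det = -1 := by simp [C, qT, Matrix.det_fin_two]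
        rw [hC]
        ext i j; simp
      · have h1 : w * r * w⁻¹ ∈ R := by
          obtain ⟨x', y', hx', hy', hr'⟩ := hr
          exact ⟨_, _, isQuat_conj hx' C.val_inv, hy', by
            rw [Units.val_mul, Units.val_mul, hr', ← conjHom_apply, conj_pull e P hwv]; simp⟩
        obtain ⟨r', hr'm, hr'e⟩ := hvn _ h1
        rw [show v * w * r * (v * w)⁻¹ = v * (w * r * w⁻¹) * v⁻¹ by group, hr'e, mul_inv_cancel_right]
        exact hr'm
    have hwa : w * a * w⁻¹ = a := Units.ext (by
      rw [Units.val_mul, Units.val_mul, hav, ← conjHom_apply, conj_pull e P hwv, Matrix.mul_smul,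
        mul_one, Matrix.smul_mul, Units.mul_inv, Units.val_one, one_mul, inv_one, Units.val_one,
        mul_one])
    have hza : v * a = z * a * v := Units.ext (by
      show (1 + (z : Mat 4 F)) * a = z * a * (1 + z)
      have hza' : (z : Mat 4 F) * a = -((a : Mat 4 F) * z) := by
        rw [hzv, hav, ← map_mul, ← map_mul, hX, ← Matrix.mul_kronecker_mul,
          ← Matrix.mul_kronecker_mul, Matrix.mul_smul, Matrix.smul_mul, mul_one, one_mul, htb,
          ← map_neg]
        congr 1
        ext i j; simp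
      have haz : (a : Mat 4 F) * z = -((z : Mat 4 F) * a) := by rw [hza', neg_neg]
      rw [add_mul, mul_add, one_mul, mul_one, mul_assoc, haz, mul_neg, ← mul_assoc, hzz,
        neg_one_mul, neg_neg, add_comm])
    have hnew := hAn _ hvw a ha
    rw [show v * w * a * (v * w)⁻¹ = v * (w * a * w⁻¹) * v⁻¹ by group, hwa, hza,
      mul_inv_cancel_right] at hnew
    have hty : (t * y)ᵀ * (t * y) = 1 := by
      rw [Matrix.transpose_mul, mul_assoc, ← mul_assoc tᵀ, htT, htt, one_mul, hy]
    have hqc : IsQuat (qI * (c • 1) : Mat 2 F) := (quat_mul hq (isQuat_qI hq) hx).1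
    obtain ⟨d, hd⟩ := key _ hnew _ _ hqc hty (by
      rw [Units.val_mul, hzv, hav, ← map_mul, hX, ← Matrix.mul_kronecker_mul])
    have := congrFun (congrFun hd 1) 0
    have hc0 : c ≠ 0 := fun h => by
      have := hx.1
      simp [h] at this
    simp [qI, hc0] at this
  rcases symType_cases hf (by norm_num) (H := N) (M := R) inf_le_left hRI hR le_sup_left hNnorm hab
    with ⟨R', p, k, h1, h2', h3', h4, h5, h6, h7, h8, h9, h10, h11, h12⟩ | ⟨F₀, r, B, c, hr, hcard, -⟩
  · exact ⟨R', p, k, h1, h2', h3', h4, h5, h6, h7, h8, h9, h10, h11, hHN.trans h12⟩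
  · exfalso
    rw [hq] at hcard
    have h2' : 2 ≤ Nat.card F₀ := Finite.one_lt_card
    have : Nat.card F₀ ^ 2 ≤ Nat.card F₀ ^ r := Nat.pow_le_pow_right (by omega) hr.two_le
    nlinarith

end CfsgLib.Classical.AschSp
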