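import Cfsg.Agent.Lib.Classical.AschGen.Realise

/-!
# Realising a group with trace zero off the scalars over the field of its scalars

The argument of `SymType.realisable`, for groups not containing all scalars of order dividing four.
-/

set_option autoImplicit false
set_option linter.unusedSectionVars false

namespace CfsgLib.Classical.AschSp

open Matrix Cfsg Cfsg.Geo CfsgLib.Classical.AschPrime CfsgLib.Classical.AschGen
open scoped MatrixGroups

variable {F : Type*} [Field F] {n r : ℕ} {R : Subgroup (GL (Fin n) F)}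

/-- A `p`-group with trace zero off the scalars spanning all matrices is realised over the field of
its scalars. -/
theorem realisable_of_trace [Finite F] (hr : r.Prime) (hpg : IsPGroup r R) (hrF : (r : F) ≠ 0)
    (hnF : (n : F) ≠ 0) (hfull : algOf R = ⊤)
    (htr0 : ∀ x ∈ R, x ∉ scalars (Fin n) F → (x : Mat n F).trace = 0) (hn : 0 < n) (F₀ : Subfield F)
    (hsc : ∀ x ∈ R, ∀ c : F, (x : Mat n F) = c • 1 → c ∈ F₀) : ∃ B, ∀ g ∈ R, RatAt F₀ B g := by
  classical
  haveI := Fact.mk hr
  haveI : Finite (GL (Fin n) F) := inferInstance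
  haveI : NeZero n := ⟨hn.ne'⟩
  haveI : NeZero (Nat.card R : F₀) := ⟨fun h => by
    obtain ⟨d, hd⟩ := IsPGroup.iff_card.mp hpg
    have h' := congrArg F₀.subtype h
    rw [map_natCast, map_zero, hd, Nat.cast_pow] at h'
    exact pow_ne_zero _ hrF h'⟩
  let ψ : MonoidAlgebra F₀ R →ₐ[F₀] Mat n F :=
    MonoidAlgebra.lift F₀ (Mat n F) R ((Units.coeHom (Mat n F)).comp R.subtype)
  have hψ : ∀ g : R, ψ (MonoidAlgebra.of F₀ R g) = (g.1 : Mat n F) := fun g => by
    simp [ψ]
  set A₀ := ψ.range with hA₀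
  haveI : IsSemisimpleRing (MonoidAlgebra F₀ R) := inferInstance
  haveI : IsSemisimpleRing A₀ :=
    ψ.rangeRestrict.toRingHom.isSemisimpleRing_of_surjective ψ.rangeRestrict_surjective
  haveI : Finite A₀ := Subtype.finite
  haveI : Nontrivial A₀ := ⟨⟨0, 1, fun h => by
    have := congrFun (congrFun (congrArg Subtype.val h) 0) 0
    simp at this⟩⟩
  have htr : ∀ z ∈ A₀, (z : Mat n F).trace ∈ F₀ := by
    rintro _ ⟨f, rfl⟩
    show (ψ f).trace ∈ F₀
    induction f using MonoidAlgebra.induction_on with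
    | of g =>
      rw [hψ]
      by_cases hs : g.1 ∈ scalars (Fin n) F
      · obtain ⟨c, hc⟩ := (mem_scalars_iff g.1).mp hs
        rw [trace_scalar hc]
        exact mul_mem (hsc g.1 g.2 c hc) (natCast_mem F₀ n)
      · rw [htr0 _ g.2 hs]; exact zero_mem F₀
    | add x y hx hy => rw [map_add, Matrix.trace_add]; exact add_mem hx hy
    | smul a x hx => rw [map_smul, Matrix.trace_smul]; exact mul_mem a.2 hx
  have hRA : ∀ g ∈ R, (g : Mat n F) ∈ A₀ := fun g hg => ⟨_, hψ ⟨g, hg⟩⟩
  obtain ⟨m, hm, ⟨E⟩⟩ := exists_matrix_algEquiv (K := F₀) (A := A₀) fun z hz => by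
    obtain ⟨c, hc⟩ := full_commutant hn hfull (M := (z : Mat n F)) fun x hx =>
      congrArg Subtype.val (hz ⟨_, hRA x hx⟩)
    have hc0 : c ∈ F₀ := by
      have h1 := htr _ z.2
      rw [hc, Matrix.trace_smul, Matrix.trace_one, Fintype.card_fin, smul_eq_mul] at h1
      have h2 := mul_mem h1 (inv_mem (natCast_mem F₀ n))
      rwa [mul_inv_cancel_right₀ hnF] at h2
    exact ⟨⟨c, hc0⟩, Subtype.ext hc⟩
  let U : Fin m → Fin m → Mat n F := fun i j => (E (Matrix.single i j 1) : Mat n F)
  have hmul : ∀ i j k l, U i j * U k l = if j = k then U i l else 0 := by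
    intro i j k l
    show ((E _ * E _ : A₀) : Mat n F) = _
    rw [← map_mul, single_mul_single_ite]
    split <;> simp [U]
  have hone : ∑ i, U i i = 1 := by
    have := congrArg (fun X => ((E X : A₀) : Mat n F)) (sum_single_diag (F := F₀) (κ := Fin m))
    simpa [U] using this
  let L : Mat m F →ₗ[F] Mat n F :=
    { toFun := fun X => ∑ i, ∑ j, X i j • U i j
      map_add' := fun X Y => by simp only [Matrix.add_apply, add_smul, Finset.sum_add_distrib]
      map_smul' := fun c X => by
        simp only [Matrix.smul_apply, smul_eq_mul, ← smul_smul, ← Finset.smul_sum, RingHom.id_apply] }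
  have hL1 : L 1 = 1 := by
    show ∑ i, ∑ j, (1 : Mat m F) i j • U i j = 1
    simp [Matrix.one_apply, ite_smul, hone]
  have hLm : ∀ X Y, L (X * Y) = L X * L Y := by
    intro X Y
    show ∑ i, ∑ j, (X * Y) i j • U i j = (∑ i, ∑ j, X i j • U i j) * ∑ k, ∑ l, Y k l • U k l
    rw [Finset.sum_mul]
    refine Finset.sum_congr rfl fun i _ => ?_
    have hj : ∀ j, (X i j • U i j) * (∑ k, ∑ l, Y k l • U k l) = ∑ l, (X i j * Y j l) • U i l := by
      intro j
      rw [Finset.mul_sum, Finset.sum_eq_single j]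
      · rw [Finset.mul_sum]
        refine Finset.sum_congr rfl fun l _ => ?_
        rw [smul_mul_smul_comm, hmul, if_pos rfl]
      · intro k _ hk
        rw [Finset.mul_sum]
        refine Finset.sum_eq_zero fun l _ => ?_
        rw [smul_mul_smul_comm, hmul, if_neg hk.symm, smul_zero]
      · exact fun h => absurd (Finset.mem_univ _) h
    simp only [Finset.sum_mul, hj, Matrix.mul_apply, Finset.sum_smul]
    rw [Finset.sum_comm]
  let Φ : Mat m F →ₐ[F] Mat n F := AlgHom.ofLinearMap L hL1 hLm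
  have hΦ₀ : ∀ X : Mat m F₀, Φ (X.map F₀.subtype) = ((E X : A₀) : Mat n F) := by
    intro X
    show ∑ i, ∑ j, (X i j : F) • U i j = _
    have e : E X = ∑ i, ∑ j, X i j • E (Matrix.single i j (1 : F₀)) := by
      simp only [← map_smul, ← map_sum, Matrix.smul_single, smul_eq_mul, mul_one]
      rw [← Matrix.matrix_eq_sum_single]
    rw [e, AddSubmonoidClass.coe_finsetSum]
    refine Finset.sum_congr rfl fun i _ => ?_
    rw [AddSubmonoidClass.coe_finsetSum]
    rfl
  have hrange : Φ.range = ⊤ := by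
    rw [eq_top_iff, ← hfull]
    refine Algebra.adjoin_le ?_
    rintro _ ⟨g, hg, rfl⟩
    exact ⟨(E.symm ⟨_, hRA g hg⟩).map F₀.subtype, by
      show Φ _ = _
      rw [hΦ₀, AlgEquiv.apply_symm_apply]⟩
  haveI : Nonempty (Fin m) := ⟨⟨0, hm⟩⟩
  obtain ⟨k, e, P, hP⟩ := exists_std Φ
  have hk : k = 1 := by
    have hk0 : 0 < k := k_pos (e := e) hn
    have h1 := LinearMap.finrank_range_le Φ.toLinearMap
    rw [LinearMap.range_eq_top.mpr ((AlgHom.range_eq_top Φ).mp hrange), finrank_top] at h1
    simp only [Module.finrank_matrix, Module.finrank_self, Fintype.card_fin, mul_one] at h1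
    have h2 := Fintype.card_congr e
    simp only [Fintype.card_fin, Fintype.card_prod] at h2
    rw [h2] at h1
    by_contra hne
    have h3 : m * 2 ≤ m * k := Nat.mul_le_mul_left m (by omega)
    have h4 := Nat.mul_le_mul h3 h3
    have h5 : 0 < m * m := Nat.mul_pos hm hm
    nlinarith
  subst hk
  refine ⟨P⁻¹, fun g hg i j => ?_⟩
  set X₀ := E.symm ⟨_, hRA g hg⟩
  have hval : (g : Mat n F) = (P : Mat n F) * stdHom e (X₀.map F₀.subtype) *
      ((P⁻¹ : GL (Fin n) F) : Mat n F) := by
    rw [← hP, hΦ₀, AlgEquiv.apply_symm_apply]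
  have hconj : ((P⁻¹ * g * P⁻¹⁻¹ : GL (Fin n) F) : Mat n F) = stdHom e (X₀.map F₀.subtype) := by
    rw [inv_inv, Units.val_mul, Units.val_mul, hval]
    simp [mul_assoc]
  rw [hconj, stdHom_apply, Subsingleton.elim (e i).2 (e j).2, Matrix.one_apply_eq, mul_one]
  exact (X₀ _ _).2

end CfsgLib.Classical.AschSp
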