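import Cfsg.Agent.Lib.Classical.AschSp.Outcome
import Cfsg.Agent.Lib.Classical.AschSp.RealiseTwo
import Cfsg.Agent.Lib.Classical.AschGen.Extraspecial
import Cfsg.Agent.Lib.Classical.AschForm.Subfield

/-!
# Groups of symplectic type under an alternating form
-/

set_option autoImplicit false
set_option linter.unusedSectionVars false

namespace CfsgLib.Classical.AschSp

open Matrix Cfsg Cfsg.Geo CfsgLib.Classical.AschPrime CfsgLib.Classical.AschGen
open scoped MatrixGroups commutatorElement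

variable {F : Type*} [Field F] [Fintype F] {n : ℕ}
variable {f : (Fin n → F) → (Fin n → F) → F}

/-- Contained in the normaliser of a group of symplectic type of minus type. -/
def SymTypeCase (f : (Fin n → F) → (Fin n → F) → F) (H : Subgroup (GL (Fin n) F)) : Prop :=
  ∃ (R : Subgroup (GL (Fin n) F)) (p k : ℕ), n = 2 ^ k ∧ IsSymplecticTypeGroup 2 R ∧
    ActsAbsolutelyIrreducibly (matrixSet R) ∧ R ≤ isomSubgroup f ∧ p.Prime ∧ Odd p ∧
    Fintype.card F = p ∧ Nat.card R = 2 ^ (1 + 2 * k) ∧ Nat.card (Subgroup.center R) = 2 ∧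
    IsOfMinusType k R ∧ (∃ x ∈ R, x ∉ scalars (Fin n) F ∧ x * x = 1) ∧ H ≤ subgroupNormalizer R

/-- The matrices vanishing on a subspace. -/
def killers (W : Submodule F (Fin n → F)) : Submodule F (Mat n F) where
  carrier := {X | ∀ w ∈ W, X *ᵥ w = 0}
  add_mem' {a b} ha hb w hw := by rw [Matrix.add_mulVec, ha w hw, hb w hw, add_zero]
  zero_mem' w _ := Matrix.zero_mulVec w
  smul_mem' c a ha w hw := by rw [Matrix.smul_mulVec, ha w hw, smul_zero]

/-- Commuting isometric involutions span at most half the dimension. -/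
theorem involutions_bound (hf : IsSymplecticForm f) (h2 : (2 : F) ≠ 0) {A : Set (Mat n F)}
    (h1A : (1 : Mat n F) ∈ A) (hsq : ∀ a ∈ A, a * a = 1) (hcomm : ∀ a ∈ A, ∀ b ∈ A, a * b = b * a)
    (hiso : ∀ a ∈ A, ∀ u v, f (a *ᵥ u) (a *ᵥ v) = f u v) :
    ∀ (d : ℕ) (W : Submodule F (Fin n → F)), Module.finrank F W = d → IsNondegenerateOn f W →
      (∀ a ∈ A, ∀ w ∈ W, a *ᵥ w ∈ W) →
      2 * Module.finrank F (Submodule.span F A) ≤
        d + 2 * Module.finrank F (Submodule.span F A ⊓ killers W : Submodule F (Mat n F)) := by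
  classical
  set S := Submodule.span F A
  intro d
  induction d using Nat.strong_induction_on with
  | _ d ih =>
    intro W hd hnd hst
    rcases Nat.eq_zero_or_pos d with rfl | hpos
    · rw [Submodule.finrank_eq_zero] at hd
      subst hd
      have : S ⊓ killers (⊥ : Submodule F (Fin n → F)) = S := inf_eq_left.mpr fun X _ w hw => by
        rw [(Submodule.mem_bot F).mp hw, Matrix.mulVec_zero]
      rw [this]; omega
    have hd2 : 2 ≤ d := by
      have := nondeg_finrank_even hf hnd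
      rw [hd] at this
      rcases this with ⟨k, hk⟩
      omega
    by_cases hsc : ∀ a ∈ A, ∃ c : F, ∀ w ∈ W, a *ᵥ w = c • w
    · have hle : S ≤ (S ⊓ killers W) ⊔ Submodule.span F {(1 : Mat n F)} := by
        refine Submodule.span_le.mpr fun a ha => ?_
        obtain ⟨c, hc⟩ := hsc a ha
        refine Submodule.mem_sup.mpr ⟨a - c • 1, ⟨sub_mem (Submodule.subset_span ha)
          (Submodule.smul_mem _ _ (Submodule.subset_span h1A)), fun w hw => ?_⟩, c • 1,
          Submodule.smul_mem _ _ (Submodule.mem_span_singleton_self _), sub_add_cancel _ _⟩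
        rw [Matrix.sub_mulVec, hc w hw, Matrix.smul_mulVec, Matrix.one_mulVec, sub_self]
      have h1 := Submodule.finrank_mono hle
      have h3 := Submodule.finrank_add_le_finrank_add_finrank (S ⊓ killers W)
        (Submodule.span F {(1 : Mat n F)})
      have h4 := finrank_span_le_card (R := F) ({(1 : Mat n F)} : Set (Mat n F))
      simp only [Set.toFinset_singleton, Finset.card_singleton] at h4
      omega
    push Not at hsc
    obtain ⟨a, ha, hac⟩ := hsc
    let Wp : F → Submodule F (Fin n → F) := fun s =>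
      W ⊓ LinearMap.ker (Matrix.toLin' (a - s • 1 : Mat n F))
    have hmem : ∀ s w, w ∈ Wp s ↔ w ∈ W ∧ a *ᵥ w = s • w := fun s w => by
      simp only [Wp, Submodule.mem_inf, LinearMap.mem_ker, Matrix.toLin'_apply, Matrix.sub_mulVec,
        Matrix.smul_mulVec, Matrix.one_mulVec, sub_eq_zero]
    have hsplit : ∀ w ∈ W, ∃ p ∈ Wp 1, ∃ q ∈ Wp (-1), p + q = w := by
      intro w hw
      have haa : a *ᵥ (a *ᵥ w) = w := by rw [Matrix.mulVec_mulVec, hsq a ha, Matrix.one_mulVec]
      refine ⟨(2 : F)⁻¹ • (w + a *ᵥ w), (hmem _ _).mpr ⟨W.smul_mem _ (W.add_mem hw (hst a ha w hw)), ?_⟩,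
        (2 : F)⁻¹ • (w - a *ᵥ w), (hmem _ _).mpr ⟨W.smul_mem _ (W.sub_mem hw (hst a ha w hw)), ?_⟩, ?_⟩
      · rw [Matrix.mulVec_smul, Matrix.mulVec_add, haa, one_smul, add_comm]
      · rw [Matrix.mulVec_smul, Matrix.mulVec_sub, haa, neg_one_smul, ← smul_neg, neg_sub]
      · rw [← smul_add, add_add_sub_cancel, ← two_smul F w, smul_smul, inv_mul_cancel₀ h2, one_smul]
    have horth : ∀ p ∈ Wp 1, ∀ q ∈ Wp (-1), f p q = 0 ∧ f q p = 0 := fun p hp q hq => by
      have h := hiso a ha p q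
      rw [((hmem _ _).mp hp).2, ((hmem _ _).mp hq).2, hf.bilinear.smul_left, hf.bilinear.smul_right] at h
      have h0 : f p q = 0 := by
        have : (2 : F) * f p q = 0 := by linear_combination -h
        exact (mul_eq_zero.mp this).resolve_left h2
      exact ⟨h0, by rw [hf.skew, h0, neg_zero]⟩
    have hndp : ∀ s : F, s = 1 ∨ s = -1 → IsNondegenerateOn f (Wp s) := by
      intro s hs w hw hw0
      obtain ⟨⟨x, hx, hxw⟩, -⟩ := hnd w ((hmem _ _).mp hw).1 hw0
      obtain ⟨p, hp, q, hq, rfl⟩ := hsplit x hx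
      rw [hf.bilinear.add_left] at hxw
      rcases hs with rfl | rfl
      · rw [(horth w hw q hq).2, add_zero] at hxw
        exact ⟨⟨p, hp, hxw⟩, p, hp, by rw [hf.skew]; exact neg_ne_zero.mpr hxw⟩
      · rw [(horth p hp w hw).1, zero_add] at hxw
        exact ⟨⟨q, hq, hxw⟩, q, hq, by rw [hf.skew]; exact neg_ne_zero.mpr hxw⟩
    have hstp : ∀ s : F, ∀ b ∈ A, ∀ w ∈ Wp s, b *ᵥ w ∈ Wp s := fun s b hb w hw => by
      obtain ⟨hwW, hwa⟩ := (hmem _ _).mp hw
      refine (hmem _ _).mpr ⟨hst b hb w hwW, ?_⟩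
      rw [Matrix.mulVec_mulVec, hcomm a ha b hb, ← Matrix.mulVec_mulVec, hwa, Matrix.mulVec_smul]
    have hsup : Wp 1 ⊔ Wp (-1) = W :=
      le_antisymm (sup_le inf_le_left inf_le_left) fun w hw => by
        obtain ⟨p, hp, q, hq, rfl⟩ := hsplit w hw
        exact Submodule.add_mem_sup hp hq
    have hinf : Wp 1 ⊓ Wp (-1) = ⊥ := by
      rw [eq_bot_iff]
      rintro w ⟨hp, hq⟩
      rw [Submodule.mem_bot]
      have h := ((hmem _ _).mp hp).2.symm.trans ((hmem _ _).mp hq).2
      rw [one_smul, neg_one_smul, eq_neg_iff_add_eq_zero, ← two_smul F w] at h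
      exact (smul_eq_zero.mp h).resolve_left h2
    have hdim := Submodule.finrank_sup_add_finrank_inf_eq (Wp 1) (Wp (-1))
    rw [hsup, hinf, finrank_bot, add_zero, hd] at hdim
    have hlt : ∀ s : F, s = 1 ∨ s = -1 → Module.finrank F (Wp s) < d := fun s hs => by
      rw [← hd]
      refine Submodule.finrank_lt_finrank_of_lt (lt_of_le_of_ne inf_le_left fun e => ?_)
      obtain ⟨w, hw, hne⟩ := hac s
      exact hne ((hmem s w).mp (e.symm ▸ hw)).2
    have hp := ih _ (hlt 1 (.inl rfl)) (Wp 1) rfl (hndp 1 (.inl rfl)) (hstp 1)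
    have hm := ih _ (hlt (-1) (.inr rfl)) (Wp (-1)) rfl (hndp (-1) (.inr rfl)) (hstp (-1))
    have hkk : (S ⊓ killers (Wp 1)) ⊓ (S ⊓ killers (Wp (-1))) ≤ S ⊓ killers W := by
      rintro X ⟨⟨hX, h1⟩, -, h1'⟩
      refine ⟨hX, fun w hw => ?_⟩
      obtain ⟨p, hp', q, hq', rfl⟩ := hsplit w hw
      rw [Matrix.mulVec_add, h1 p hp', h1' q hq', add_zero]
    have h5 := Submodule.finrank_sup_add_finrank_inf_eq (S ⊓ killers (Wp 1)) (S ⊓ killers (Wp (-1)))
    have h6 := Submodule.finrank_mono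
      (sup_le (inf_le_left : S ⊓ killers (Wp 1) ≤ S) (inf_le_left : S ⊓ killers (Wp (-1)) ≤ S))
    have h7 := Submodule.finrank_mono hkk
    omega

/-- A normalised group of symplectic type gives the class of minus type or a subfield group. -/
theorem symType_cases (hf : IsSymplecticForm f) (hn : 3 ≤ n) {H M R : Subgroup (GL (Fin n) F)}
    {r : ℕ} (hH : H ≤ isomSubgroup f) (hM : M ≤ isomSubgroup f) (hR : SymType r R)
    (hRle : R ≤ M ⊔ scalars (Fin n) F) (hnorm : ∀ h ∈ H, ∀ x ∈ R, h * x * h⁻¹ ∈ R)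
    (hab : ∀ A ≤ R, (∀ h ∈ H, ∀ x ∈ A, h * x * h⁻¹ ∈ A) → (∀ x ∈ A, ∀ y ∈ A, x * y = y * x) →
      A ≤ scalars (Fin n) F) : SymTypeCase f H ∨ SubfieldCase f H := by
  classical
  have hn0 : 0 < n := by omega
  haveI : NeZero n := ⟨by omega⟩
  obtain ⟨k, hk, hnk⟩ := hR.exists_dim (by omega)
  obtain rfl : r = 2 := by
    have hev : ¬ Odd n := fun h => not_symplectic h hf
    rcases hR.prime.eq_two_or_odd' with h | h
    · exact h
    · exact absurd (hnk ▸ h.pow) hev
  have h2 : (2 : F) ≠ 0 := by exact_mod_cast hR.natCast_ne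
  set I := isomSubgroup f
  have hsc1 : ∀ {s : GL (Fin n) F} {c : F}, s ∈ I → (s : Mat n F) = c • 1 → c * c = 1 := by
    intro s c hs hc
    obtain ⟨⟨x, hx⟩, -⟩ := hf.nondegenerate (Pi.single 0 1) (by simp)
    have h := hs x (Pi.single 0 1)
    rw [hc, Matrix.smul_mulVec, Matrix.smul_mulVec, Matrix.one_mulVec, Matrix.one_mulVec,
      hf.bilinear.smul_left, hf.bilinear.smul_right, ← mul_assoc] at h
    exact (mul_eq_right₀ hx).mp h
  have hmultHom : ∀ x ∈ M ⊔ scalars (Fin n) F,
      ∃ a ∈ I, ∃ s ∈ scalars (Fin n) F, x = a * s := by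
    intro x hx
    haveI : (scalars (Fin n) F).Normal := scalars_normal
    obtain ⟨a, ha, s, hs, rfl⟩ := Subgroup.mem_sup_of_normal_right.mp hx
    exact ⟨a, hM ha, s, hs, rfl⟩
  have hcom1 : ∀ x ∈ R, ∀ y ∈ R, ⁅x, y⁆ ∈ I := by
    intro x hx y hy
    obtain ⟨a, ha, s, hs, rfl⟩ := hmultHom x (hRle hx)
    obtain ⟨b, hb, t, ht, rfl⟩ := hmultHom y (hRle hy)
    have : ⁅a * s, b * t⁆ = ⁅a, b⁆ := by
      have e1 := scalars_comm hs
      have e2 := scalars_comm ht
      have e3 := scalars_comm ((scalars (Fin n) F).inv_mem hs)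
      have e4 := scalars_comm ((scalars (Fin n) F).inv_mem ht)
      simp only [commutatorElement_def, _root_.mul_inv_rev]
      calc a * s * (b * t) * (s⁻¹ * a⁻¹) * (t⁻¹ * b⁻¹)
          = a * (s * b) * ((t * s⁻¹) * a⁻¹) * (t⁻¹ * b⁻¹) := by simp only [mul_assoc]
        _ = a * (b * s) * (a⁻¹ * (t * s⁻¹)) * (t⁻¹ * b⁻¹) := by
          rw [e1 b, ← e3 t, mul_assoc s⁻¹ t, e2 a⁻¹, ← mul_assoc s⁻¹, e3 a⁻¹, mul_assoc a⁻¹ s⁻¹ t, e3 t]
        _ = a * b * (s * a⁻¹) * t * s⁻¹ * t⁻¹ * b⁻¹ := by simp only [mul_assoc]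
        _ = a * b * (a⁻¹ * s) * t * s⁻¹ * t⁻¹ * b⁻¹ := by rw [e1 a⁻¹]
        _ = a * b * a⁻¹ * ((s * t) * (s⁻¹ * t⁻¹)) * b⁻¹ := by simp only [mul_assoc]
        _ = a * b * a⁻¹ * b⁻¹ := by rw [e1 t]; simp
    rw [this]
    exact I.mul_mem (I.mul_mem (I.mul_mem ha hb) (I.inv_mem ha)) (I.inv_mem hb)
  -- squares are scalar
  have hsq : ∀ x ∈ R, x * x ∈ scalars (Fin n) F := by
    intro x hx
    by_contra hns
    obtain ⟨y, hy, hne⟩ := hR.exists_noncomm hn0 hns
    refine hne ?_
    have hc := hR.comm x hx y hy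
    obtain ⟨c, hc'⟩ := (mem_scalars_iff _).mp hc
    have hcc := hsc1 (hcom1 x hx y hy) (show ((⁅x, y⁆ : GL (Fin n) F) : Mat n F) = _ by
      rw [commutatorElement_def]; exact hc')
    set z := x * y * x⁻¹ * y⁻¹ with hz
    have hzz : z * z = 1 := Units.ext (by
      rw [Units.val_mul, hc', smul_mul_smul_comm, hcc, one_smul, mul_one, Units.val_one])
    have hxy : x * y = z * y * x := by simp [hz, mul_assoc]
    calc x * x * y = x * (z * y * x) := by rw [mul_assoc, hxy]
      _ = z * (x * y) * x := by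
        rw [← mul_assoc, ← mul_assoc, ← scalars_comm hc x, mul_assoc z x y]
      _ = (z * z) * (y * x * x) := by rw [hxy]; simp only [mul_assoc]
      _ = y * (x * x) := by rw [hzz, one_mul, mul_assoc]
  set R' := R ⊓ I with hR'
  -- every element is an element of `R'` times a scalar of `R`
  have hdec : ∀ x ∈ R, ∃ a ∈ R', ∃ s ∈ scalars (Fin n) F, s ∈ R ∧ x = a * s := by
    intro x hx
    obtain ⟨a, ha, s, hs, rfl⟩ := hmultHom x (hRle hx)
    obtain ⟨l, hl⟩ := (mem_scalars_iff s).mp hs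
    obtain ⟨d, hd⟩ := (mem_scalars_iff _).mp (hsq _ hx)
    have hd4 : (d : F) * d = 1 := by
      have h := hR.pow_eq _ hx
      rw [show 2 * Nat.gcd 2 2 = 2 + 2 from rfl, pow_add, pow_two] at h
      have h' := congrArg Units.val h
      rw [Units.val_mul, hd, smul_mul_smul_comm, mul_one, Units.val_one] at h'
      simpa using congrFun (congrFun h' 0) 0
    have haa : ((a * a : GL (Fin n) F) : Mat n F) = ((d : F) * ((l : F)⁻¹ * (l : F)⁻¹)) • 1 := by
      have e : a * a = a * s * (a * s) * (s⁻¹ * s⁻¹) := by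
        rw [show a * s * (a * s) = a * a * (s * s) from by
          rw [mul_assoc, ← mul_assoc s a, scalars_comm hs a]; simp only [mul_assoc]]
        simp [mul_assoc]
      have hsi : ((s⁻¹ : GL (Fin n) F) : Mat n F) = (l : F)⁻¹ • 1 := by
        refine left_inv_eq_right_inv (Units.inv_mul s) ?_
        rw [hl, smul_mul_smul_comm, mul_inv_cancel₀ l.ne_zero, one_smul, mul_one]
      rw [e, Units.val_mul (a * s * (a * s)), hd, Units.val_mul s⁻¹, hsi]
      simp [smul_smul, mul_comm, mul_assoc, mul_left_comm]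
    have hl4 : (l : F) ^ 4 = 1 := by
      have h := hsc1 (I.mul_mem ha ha) haa
      have hll : (l : F) * (l : F)⁻¹ = 1 := mul_inv_cancel₀ l.ne_zero
      calc (l : F) ^ 4 = (l : F) ^ 4 *
            ((d : F) * ((l : F)⁻¹ * (l : F)⁻¹) * ((d : F) * ((l : F)⁻¹ * (l : F)⁻¹))) := by rw [h, mul_one]
        _ = ((d : F) * d) * ((l : F) * (l : F)⁻¹) ^ 4 := by ring
        _ = 1 := by rw [hd4, hll, one_pow, one_mul]
    have hsR : s ∈ R := hR.mem_of_pow s hs (Units.ext (by
      rw [Units.val_pow_eq_pow_val, hl, smul_pow, one_pow,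
        show 2 * Nat.gcd 2 2 = 4 from rfl, hl4, one_smul, Units.val_one]))
    exact ⟨a, ⟨by simpa [mul_assoc] using R.mul_mem hx (R.inv_mem hsR), ha⟩, s, hs, hsR, rfl⟩
  have hfull : algOf R' = ⊤ := by
    rw [eq_top_iff, ← hR.full]
    refine Algebra.adjoin_le ?_
    rintro _ ⟨x, hx, rfl⟩
    obtain ⟨a, ha, s, hs, -, rfl⟩ := hdec x hx
    obtain ⟨l, hl⟩ := (mem_scalars_iff s).mp hs
    show ((a * s : GL (Fin n) F) : Mat n F) ∈ algOf R'
    rw [Units.val_mul, hl, Matrix.mul_smul, mul_one]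
    exact (algOf R').smul_mem (mem_algOf ha) _
  have habs := full_absIrred hn0 hfull
  have hnorm' : ∀ h ∈ H, ∀ x ∈ R', h * x * h⁻¹ ∈ R' := fun h hh x hx =>
    ⟨hnorm h hh x hx.1, I.mul_mem (I.mul_mem (hH hh) hx.2) (I.inv_mem (hH hh))⟩
  have hscal : ∀ x ∈ R', ∀ c : F, (x : Mat n F) = c • 1 → c = 1 ∨ c = -1 := fun x hx c hc =>
    mul_self_eq_one_iff.mp (hsc1 hx.2 hc)
  have hpg : IsPGroup 2 R' := fun x => ⟨2, Subtype.ext (by
    rw [Subgroup.coe_pow]; simpa using hR.pow_eq x.1 x.2.1)⟩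
  -- the subfield case
  by_cases hprime : (⊥ : Subfield F) ≠ ⊤
  · right
    obtain ⟨B, hB⟩ := realisable_of_trace hR.prime hpg hR.natCast_ne (hR.natCast_n_ne hn0) hfull
      (fun x hx hns => hR.trace_eq_zero hn0 hx.1 hns) hn0 (⊥ : Subfield F) (fun x hx c hc => by
        rcases hscal x hx c hc with rfl | rfl
        · exact one_mem _
        · exact neg_mem (one_mem _))
    obtain ⟨F₁, l, hle, -, hl, hcard⟩ := exists_prime_index _ hprime
    have hherm : AschForm.Herm (RingHom.id F) (-1) f :=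
      ⟨isSesq_of_bilinear hf.bilinear, hf.nondegenerate,
        fun u v => by rw [hf.skew v u, RingHom.id_apply, neg_one_mul], fun _ => rfl⟩
    obtain ⟨c, hc0, hc⟩ := AschForm.rational_form hherm hn0 habs
      (by rintro _ ⟨x, hx, rfl⟩ u v; exact hx.2 u v) (fun s hs => (hB s hs).mono hle)
    exact ⟨F₁, l, B⁻¹, c, hl, hcard, hc0, hc,
      fun g hg => mem_subfieldSubgroup hn0 habs (fun s hs => (hB s hs).mono hle) (hnorm' g hg)⟩
  left
  push Not at hprime
  obtain ⟨p, hpc⟩ := CharP.exists F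
  haveI : Fact p.Prime := ⟨CharP.char_is_prime F p⟩
  have hqp : Fintype.card F = p := by
    rw [← Nat.card_eq_fintype_card, ← Subfield.card_bot (F := F) p, hprime]
    exact (Nat.card_congr (Equiv.subtypeUnivEquiv fun x => Subfield.mem_top x)).symm
  have hp : p.Prime := Fact.out
  have hpodd : Odd p := hp.eq_two_or_odd'.resolve_left fun e => h2 (by
    subst e; exact_mod_cast CharP.cast_eq_zero F 2)
  -- the centre
  let ψ : R' →* R ⧸ Subgroup.center R :=
    (QuotientGroup.mk' _).comp (Subgroup.inclusion inf_le_left)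
  have hψ : Function.Surjective ψ := fun q => by
    obtain ⟨⟨x, hx⟩, rfl⟩ := QuotientGroup.mk'_surjective _ q
    obtain ⟨a, ha, s, hs, hsR, rfl⟩ := hdec x hx
    refine ⟨⟨a, ha⟩, ?_⟩
    show (QuotientGroup.mk' (Subgroup.center R)) ⟨a, ha.1⟩ = QuotientGroup.mk' _ ⟨a * s, hx⟩
    refine QuotientGroup.eq.mpr ?_
    rw [hR.center_eq hn0, Subgroup.mem_subgroupOf]
    simpa using hs
  have hker : ∀ x : R', x ∈ ψ.ker ↔ x.1 ∈ scalars (Fin n) F := fun x => by
    rw [MonoidHom.mem_ker]
    show (QuotientGroup.mk' (Subgroup.center R)) ⟨x.1, x.2.1⟩ = 1 ↔ _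
    rw [← MonoidHom.mem_ker, QuotientGroup.ker_mk', hR.center_eq hn0, Subgroup.mem_subgroupOf]
  have hcentre : Subgroup.center R' = ψ.ker := by
    ext x
    rw [hker, Subgroup.mem_center_iff]
    refine ⟨fun h => ?_, fun h y => Subtype.ext (scalars_comm h y.1).symm⟩
    obtain ⟨c, hc⟩ := full_commutant hn0 hfull (M := ((x : GL (Fin n) F) : Mat n F)) fun y hy =>
      (congrArg (fun z : R' => ((z : GL (Fin n) F) : Mat n F)) (h ⟨y, hy⟩)).symm
    exact mem_scalars_of_eq hn0 hc
  have hnegR : (-1 : GL (Fin n) F) ∈ R' := by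
    refine ⟨hR.mem_of_pow _ (mem_scalars_of_eq hn0 (c := -1) (by simp)) (Units.ext (by
      rw [Units.val_pow_eq_pow_val, Units.val_neg, Units.val_one,
        show 2 * Nat.gcd 2 2 = 4 from rfl, Even.neg_one_pow (by decide)])), fun u v => ?_⟩
    rw [Units.val_neg, Units.val_one, Matrix.neg_mulVec, Matrix.neg_mulVec, Matrix.one_mulVec,
      Matrix.one_mulVec, ← neg_one_smul F u, ← neg_one_smul F v, hf.bilinear.smul_left,
      hf.bilinear.smul_right]
    ring
  have hnegne : (-1 : GL (Fin n) F) ≠ 1 := fun h => by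
    have := congrFun (congrFun (congrArg (fun g : GL (Fin n) F => (g : Mat n F)) h) 0) 0
    simp at this
    exact h2 (by linear_combination -this)
  have hkcard : Nat.card ψ.ker = 2 := by
    rw [Nat.card_eq_two_iff]
    refine ⟨⟨1, ψ.ker.one_mem⟩, ⟨⟨-1, hnegR⟩, (hker _).mpr (mem_scalars_of_eq hn0 (c := -1) (by simp))⟩,
      fun h => hnegne (congrArg (fun z : ψ.ker => ((z : R') : GL (Fin n) F)) h).symm, ?_⟩
    refine Set.eq_univ_of_forall fun z => ?_
    obtain ⟨c, hc⟩ := (mem_scalars_iff _).mp ((hker z.1).mp z.2)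
    rcases hscal _ z.1.2 _ hc with h | h
    · exact .inl (Subtype.ext (Subtype.ext (Units.ext (by rw [hc, h, one_smul]; rfl))))
    · exact .inr (Subtype.ext (Subtype.ext (Units.ext (by rw [hc, h]; simp))))
  have hquot : Nat.card (R' ⧸ ψ.ker) = n * n := by
    rw [Nat.card_congr (QuotientGroup.quotientKerEquivOfSurjective ψ hψ).toEquiv, hR.card_quot hn0]
  have hcard : Nat.card R' = 2 ^ (1 + 2 * k) := by
    rw [Subgroup.card_eq_card_quotient_mul_card_subgroup ψ.ker, hquot, hkcard, hnk]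
    ring
  -- symplectic type
  have hnc : ¬ ∀ a b : R', a * b = b * a := fun h =>
    algOf_comm_false (by omega) hfull fun x hx y hy => congrArg Subtype.val (h ⟨x, hx⟩ ⟨y, hy⟩)
  have hexp : Monoid.exponent R' = 4 := by
    have hdvd : Monoid.exponent R' ∣ 2 ^ 2 := Monoid.exponent_dvd_of_forall_pow_eq_one
      fun x => Subtype.ext (by rw [Subgroup.coe_pow]; simpa using hR.pow_eq x.1 x.2.1)
    obtain ⟨i, hi, he⟩ := (Nat.dvd_prime_pow Nat.prime_two).mp hdvd
    interval_cases i
    · exfalso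
      rw [pow_zero] at he
      haveI := Monoid.exp_eq_one_iff.mp he
      exact hnc fun a b => Subsingleton.elim _ _
    · exfalso
      rw [pow_one] at he
      refine hnc fun a b => ?_
      have h3 : ∀ x : R', x⁻¹ = x := fun x => inv_eq_of_mul_eq_one_right (by
        rw [← pow_two, ← he]; exact Monoid.pow_exponent_eq_one x)
      calc a * b = (a * b)⁻¹ := (h3 _).symm
        _ = b * a := by rw [_root_.mul_inv_rev, h3, h3]
    · simpa using he
  have hinv : ∃ x ∈ R', x ∉ scalars (Fin n) F ∧ x * x = 1 := by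
    by_contra hno
    push Not at hno
    have hk2 : 2 ≤ k := by
      by_contra h
      have : 2 ^ k ≤ 2 ^ 1 := Nat.pow_le_pow_right (by norm_num) (by omega)
      omega
    have hsqneg : ∀ x ∈ R', x ∉ scalars (Fin n) F → x * x = -1 := fun x hx hns => by
      obtain ⟨c, hc⟩ := (mem_scalars_iff _).mp (hsq x hx.1)
      rcases hscal _ (R'.mul_mem hx hx) _ hc with h | h
      · exact absurd (Units.ext (by rw [hc, h, one_smul, Units.val_one])) (hno x hx hns)
      · exact Units.ext (by rw [hc, h]; simp)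
    obtain ⟨x₀, hx₀⟩ : ∃ x : R', x.1 ∉ scalars (Fin n) F := by
      by_contra h
      push Not at h
      exact hnc fun a b => Subtype.ext (scalars_comm (h a) b.1)
    let C : R' →* GL (Fin n) F :=
      { toFun := fun y => ⁅x₀.1, y.1⁆
        map_one' := commutatorElement_one_right _
        map_mul' := fun a b => by
          have hc := hR.comm x₀.1 x₀.2.1 b.1 b.2.1
          have e := scalars_comm hc a.1⁻¹
          simp only [commutatorElement_def, Subgroup.coe_mul, _root_.mul_inv_rev]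
          calc x₀.1 * (a.1 * b.1) * x₀.1⁻¹ * (b.1⁻¹ * a.1⁻¹)
              = x₀.1 * a.1 * x₀.1⁻¹ * ((x₀.1 * b.1 * x₀.1⁻¹ * b.1⁻¹) * a.1⁻¹) := by simp [mul_assoc]
            _ = x₀.1 * a.1 * x₀.1⁻¹ * a.1⁻¹ * (x₀.1 * b.1 * x₀.1⁻¹ * b.1⁻¹) := by
              rw [e]; simp [mul_assoc] }
    have himg : Nat.card C.range ≤ 2 := by
      have hmap : ∀ z : C.range, ∃ w : ψ.ker, ((w : R') : GL (Fin n) F) = z.1 := by
        rintro ⟨_, y, rfl⟩
        exact ⟨⟨⟨⁅x₀.1, y.1⁆, by
          rw [commutatorElement_def]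
          exact R'.mul_mem (R'.mul_mem (R'.mul_mem x₀.2 y.2) (R'.inv_mem x₀.2)) (R'.inv_mem y.2)⟩,
          (hker _).mpr (hR.comm x₀.1 x₀.2.1 y.1 y.2.1)⟩, rfl⟩
      choose w hw using hmap
      exact hkcard ▸ Nat.card_le_card_of_injective w fun a b h => Subtype.ext (by
        rw [← hw a, ← hw b, h])
    have hsub : ∀ y ∈ C.ker, y ∈ ψ.ker ∨ y⁻¹ * x₀ ∈ ψ.ker := by
      intro y hy
      by_contra hboth
      rw [hker, hker, not_or] at hboth
      obtain ⟨hy0, hyx⟩ := hboth
      have hcom : x₀.1 * y.1 = y.1 * x₀.1 := commutatorElement_eq_one_iff_mul_comm.mp hy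
      have hcom' : y.1⁻¹ * x₀.1 = x₀.1 * y.1⁻¹ := by
        rw [inv_mul_eq_iff_eq_mul, ← mul_assoc, ← hcom, mul_inv_cancel_right]
      have h1 := hsqneg _ (y⁻¹ * x₀).2 hyx
      have h3 := hsqneg _ x₀.2 hx₀
      have h4 := hsqneg _ y.2 hy0
      refine hnegne ?_
      rw [← h1, Subgroup.coe_mul, Subgroup.coe_inv]
      calc y.1⁻¹ * x₀.1 * (y.1⁻¹ * x₀.1) = x₀.1 * y.1⁻¹ * (y.1⁻¹ * x₀.1) := by rw [hcom']
        _ = x₀.1 * (y.1 * y.1)⁻¹ * x₀.1 := by simp [mul_assoc]
        _ = 1 := by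
          rw [h4, ← h3]
          simp [mul_assoc]
    have hCk : Nat.card C.ker ≤ 4 := by
      let g : C.ker → ψ.ker × Bool := fun y => if h : y.1 ∈ ψ.ker then (⟨y.1, h⟩, true) else
        (⟨y.1⁻¹ * x₀, (hsub y.1 y.2).resolve_left h⟩, false)
      have hg : Function.Injective g := fun a b h => by
        by_cases ha : a.1 ∈ ψ.ker <;> by_cases hb : b.1 ∈ ψ.ker <;> simp only [g, dif_pos, dif_neg, ha,
          hb, not_false_eq_true, Prod.mk.injEq, Bool.true_eq_false, Bool.false_eq_true, and_false,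
          and_true, Subtype.mk.injEq] at h
        · exact Subtype.ext h
        · exact Subtype.ext (inv_inj.mp (mul_right_cancel h))
      have := Nat.card_le_card_of_injective g hg
      rw [Nat.card_prod, hkcard, Nat.card_eq_fintype_card (α := Bool), Fintype.card_bool] at this
      exact this
    have hC := Subgroup.card_eq_card_quotient_mul_card_subgroup C.ker
    rw [Nat.card_congr (QuotientGroup.quotientKerEquivRange C).toEquiv] at hC
    have h8 : Nat.card R' ≤ 2 * 4 := hC ▸ Nat.mul_le_mul himg hCk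
    have h5 : 2 ^ 5 ≤ 2 ^ (1 + 2 * k) := Nat.pow_le_pow_right (by norm_num) (by omega)
    omega
  refine ⟨R', p, k, hnk, ⟨Nat.prime_two, hpg, fun A hA hAc => ?_, by rw [hexp]; rfl⟩, habs,
    inf_le_right, hp, hpodd, hqp, hcard, by rw [hcentre, hkcard], ?_, hinv, fun g hg => ?_⟩
  · have hle : A.map R'.subtype ≤ scalars (Fin n) F := by
      refine hab _ ((Subgroup.map_subtype_le A).trans inf_le_left) ?_ ?_
      · rintro h hh _ ⟨a, ha, rfl⟩
        let e : R' ≃* R' :=
          { toFun := fun x => ⟨h * x.1 * h⁻¹, hnorm' h hh x.1 x.2⟩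
            invFun := fun x => ⟨h⁻¹ * x.1 * h, by simpa using hnorm' h⁻¹ (H.inv_mem hh) x.1 x.2⟩
            left_inv := fun x => Subtype.ext (by simp [mul_assoc])
            right_inv := fun x => Subtype.ext (by simp [mul_assoc])
            map_mul' := fun x y => Subtype.ext (by simp [mul_assoc]) }
        have hmem : a ∈ A.comap e.toMonoidHom := by rw [hA.fixed e]; exact ha
        exact ⟨e a, hmem, rfl⟩
      · rintro _ ⟨a, ha, rfl⟩ _ ⟨b, hb, rfl⟩
        exact congrArg (fun z : A => R'.subtype z.1) (hAc.is_comm.comm ⟨a, ha⟩ ⟨b, hb⟩)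
    haveI : IsCyclic (scalars (Fin n) F) :=
      isCyclic_of_surjective _
        (Units.map (Matrix.scalar (Fin n) : F →+* Mat n F).toMonoidHom).rangeRestrict_surjective
    let ι : A →* scalars (Fin n) F :=
      { toFun := fun a => ⟨a.1.1, hle ⟨a.1, a.2, rfl⟩⟩
        map_one' := rfl
        map_mul' := fun _ _ => rfl }
    exact isCyclic_of_injective ι fun a b h => Subtype.ext (Subtype.ext (congrArg Subtype.val h :))
  · -- minus type
    intro A hAc hA2
    haveI := Fintype.ofFinite (A ⧸ (ψ.ker.subgroupOf A))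
    set N := ψ.ker.subgroupOf A
    let v : A ⧸ N → Mat n F := fun q => (((q.out : A) : R') : GL (Fin n) F).1
    have hli : LinearIndependent F v := by
      rw [Fintype.linearIndependent_iff]
      intro g hg q₀
      have e := congrArg (fun X => ((((q₀.out : A)⁻¹ : A) : R') : GL (Fin n) F).1 * X) hg
      simp only [mul_zero, Finset.mul_sum, Matrix.mul_smul, v, ← Units.val_mul, ← Subgroup.coe_mul] at e
      have e2 := congrArg Matrix.trace e
      rw [Matrix.trace_sum, Matrix.trace_zero, Finset.sum_eq_single q₀] at e2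
      · rw [inv_mul_cancel, Subgroup.coe_one, Subgroup.coe_one, Units.val_one, Matrix.trace_smul,
          Matrix.trace_one, Fintype.card_fin, smul_eq_mul] at e2
        exact (mul_eq_zero.mp e2).resolve_right (hR.natCast_n_ne hn0)
      · intro j _ hjk
        rw [Matrix.trace_smul, hR.trace_eq_zero hn0 (SetLike.coe_mem _ : _ ∈ R').1, smul_zero]
        intro hs
        refine hjk ?_
        have h1 := QuotientGroup.eq.mpr (show ((q₀.out : A)⁻¹ * j.out : A) ∈ N from (hker _).mpr hs)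
        rw [QuotientGroup.out_eq', QuotientGroup.out_eq'] at h1
        exact h1.symm
      · exact fun h => absurd (Finset.mem_univ q₀) h
    let As : Set (Mat n F) := Set.range fun a : A => ((a : R') : GL (Fin n) F).1
    have hbound := involutions_bound hf h2 (A := As) ⟨1, rfl⟩
      (by
        rintro _ ⟨a, rfl⟩
        show ((a : R') : GL (Fin n) F).1 * ((a : R') : GL (Fin n) F).1 = 1
        rw [← Units.val_mul, ← Subgroup.coe_mul, hA2 a.1 a.2]; rfl)
      (by
        rintro _ ⟨a, rfl⟩ _ ⟨b, rfl⟩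
        show ((a : R') : GL (Fin n) F).1 * ((b : R') : GL (Fin n) F).1 = _
        rw [← Units.val_mul, ← Units.val_mul, ← Subgroup.coe_mul, ← Subgroup.coe_mul, ← Subgroup.coe_mul,
          ← Subgroup.coe_mul, hAc.is_comm.comm a b])
      (by
        rintro _ ⟨a, rfl⟩ u w
        exact (a : R').2.2 u w)
      n ⊤ (by rw [finrank_top, Module.finrank_fintype_fun_eq_card, Fintype.card_fin])
      (fun w _ hw0 => by
        obtain ⟨⟨x, hx⟩, y, hy⟩ := hf.nondegenerate w hw0
        exact ⟨⟨x, Submodule.mem_top, hx⟩, y, Submodule.mem_top, hy⟩)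
      (fun _ _ _ _ => Submodule.mem_top)
    have hkill : killers (⊤ : Submodule F (Fin n → F)) = ⊥ := eq_bot_iff.mpr fun X hX =>
      (Submodule.mem_bot F).mpr (Matrix.ext_of_mulVec_single fun i => by
        rw [hX _ Submodule.mem_top, Matrix.zero_mulVec])
    rw [hkill, inf_bot_eq, finrank_bot, mul_zero, add_zero] at hbound
    have h1 : Fintype.card (A ⧸ N) ≤ Module.finrank F (Submodule.span F As) := by
      rw [← finrank_span_eq_card hli]
      refine Submodule.finrank_mono (Submodule.span_mono ?_)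
      rintro _ ⟨q, rfl⟩
      exact ⟨q.out, rfl⟩
    have h3 : Nat.card A ≤ 2 * Fintype.card (A ⧸ N) := by
      rw [Subgroup.card_eq_card_quotient_mul_card_subgroup N, Nat.card_eq_fintype_card (α := A ⧸ N),
        mul_comm 2]
      refine Nat.mul_le_mul_left _ ?_
      rw [← hkcard]
      exact Nat.card_le_card_of_injective (fun x : N => (⟨x.1.1, x.2⟩ : ψ.ker))
        fun x y h => Subtype.ext (Subtype.ext (congrArg (fun z : ψ.ker => (z : R')) h))
    have h4 : 2 ^ k < 2 ^ (k + 1) := Nat.pow_lt_pow_right (by norm_num) (by omega)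
    omega
  · refine Subgroup.mem_normalizer_iff.mpr fun x => ⟨fun hx => hnorm' g hg x hx, fun hx => ?_⟩
    simpa [mul_assoc] using hnorm' g⁻¹ (H.inv_mem hg) _ hx

end CfsgLib.Classical.AschSp
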