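import Cfsg.Agent.Lib.Classical.AschSp.Power
import Cfsg.Agent.Lib.Classical.AschSp.SymTwo

/-!
# Aschbacher's theorem for symplectic groups, all degrees
-/

set_option autoImplicit false
set_option linter.unusedSectionVars false

namespace CfsgLib.Classical.AschSp

open Matrix Cfsg Cfsg.Geo CfsgLib.Classical.AschPrime CfsgLib.Classical.AschGen
open scoped MatrixGroups commutatorElement

variable {F : Type*} [Field F] [Fintype F] {n : ℕ}
variable {f : (Fin n → F) → (Fin n → F) → F}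

/-- Contained in the stabiliser of a tensor power decomposition. -/
def PowerCase (f : (Fin n → F) → (Fin n → F) → F) (H : Subgroup (GL (Fin n) F)) : Prop :=
  ∃ (k t : ℕ) (e : Fin n ≃ (Fin t → Fin k)) (P : GL (Fin n) F)
    (f₁ : (Fin k → F) → (Fin k → F) → F), Odd (Fintype.card F) ∧ Odd t ∧ 3 ≤ t ∧ 2 ≤ k ∧
    k ^ t = n ∧ ¬ (Fintype.card F = 3 ∧ k = 2) ∧ IsSymplecticForm f₁ ∧
    IsTensorPowerFormStructure id f f₁ e P ∧ H ≤ tensorWreathSubgroup k t e P

/-- Where a subgroup of the isometry group of an alternating form can lie, in any degree. -/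
def SpFull (f : (Fin n → F) → (Fin n → F) → F) (H : Subgroup (GL (Fin n) F)) : Prop :=
  (∃ W : Submodule F (Fin n → F), W ≠ ⊥ ∧ IsTotallySingularFor f W ∧ H ≤ subspaceStabilizer W) ∨
  (∃ W : Submodule F (Fin n → F), W ≠ ⊥ ∧ IsNondegenerateOn f W ∧ 2 * Module.finrank F W < n ∧
      H ≤ subspaceStabilizer W) ∨
  CentreCases f H ∨
  TensorCase f H ∨
  SubfieldCase f H ∨
  InSymplecticResidualClass H ∨
  SymTypeCase f H ∨
  PowerCase f H

theorem SpCore.full {H : Subgroup (GL (Fin n) F)} (h : SpCore f H) : SpFull f H := by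
  rcases h with h | h | h | h | h | h
  · exact .inl h
  · exact .inr (.inl h)
  · exact .inr (.inr (.inl h))
  · exact .inr (.inr (.inr (.inl h)))
  · exact .inr (.inr (.inr (.inr (.inl h))))
  · exact .inr (.inr (.inr (.inr (.inr (.inl h)))))

/-- Aschbacher's theorem for subgroups of a finite symplectic group of any degree. -/
theorem sp_full (hf : IsSymplecticForm f) (hn : 3 ≤ n) {H : Subgroup (GL (Fin n) F)}
    (hH : H ≤ isomSubgroup f) : SpFull f H := by
  classical
  have hn0 : 0 < n := by omega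
  by_cases hirr : ActsIrreducibly (matrixSet H)
  swap
  · rw [irr_iff] at hirr
    push Not at hirr
    obtain ⟨W, hW, h0, h1⟩ := hirr
    exact (reducible_outcome hf hH (fun h hh v hv => hW _ (mem_matrixSet hh) v hv) h0 h1).full
  by_cases hall : AllFull H
  swap
  · simp only [AllFull, not_forall] at hall
    obtain ⟨N, hN, hnorm, hN0, hfull⟩ := hall
    exact (not_full_outcome hf hn0 hH hirr hN hnorm hN0 hfull).full
  have hH0 : ¬ H ≤ scalars (Fin n) F := by
    intro hle
    let v : Fin n → F := Pi.single ⟨0, hn0⟩ 1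
    rcases irr_iff.mp hirr (F ∙ v) (by
      rintro _ ⟨x, hx, rfl⟩ w hw
      obtain ⟨c, hc⟩ := (mem_scalars_iff x).mp (hle hx)
      show (x : Mat n F) *ᵥ w ∈ _
      rw [hc, Matrix.smul_mulVec, Matrix.one_mulVec]
      exact Submodule.smul_mem _ _ hw) with h | h
    · have := congrFun (Submodule.span_singleton_eq_bot.mp h) ⟨0, hn0⟩
      simp [v] at this
    · have hmem : (Pi.single ⟨1, by omega⟩ 1 : Fin n → F) ∈ F ∙ v := h ▸ Submodule.mem_top
      obtain ⟨c, hc⟩ := Submodule.mem_span_singleton.mp hmem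
      have := congrFun hc ⟨1, by omega⟩
      simp [v] at this
  have hex : ∃ d, ∃ L ≤ H, (∀ h ∈ H, ∀ x ∈ L, h * x * h⁻¹ ∈ L) ∧
      ¬ L ≤ scalars (Fin n) F ∧ Nat.card L = d :=
    ⟨_, H, le_rfl, fun h hh x hx => H.mul_mem (H.mul_mem hh hx) (H.inv_mem hh), hH0, rfl⟩
  obtain ⟨M, hM, hMn, hM0, hMd⟩ := Nat.find_spec hex
  have hmin : ∀ L ≤ M, (∀ h ∈ H, ∀ x ∈ L, h * x * h⁻¹ ∈ L) → ¬ L ≤ scalars (Fin n) F → L = M :=
    fun L h1 h2 h3 => Subgroup.eq_of_le_of_card_ge h1
      (hMd ▸ Nat.find_min' hex ⟨L, h1.trans hM, h2, h3, rfl⟩)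
  by_cases hMM : ⁅M, M⁆ ≤ scalars (Fin n) F
  · obtain ⟨r, R, hR, hRle, hnorm, hab⟩ := exists_symType_data (by omega) hall hM hMn hM0 hmin hMM
    rcases symType_cases hf hn hH (hM.trans hH) hR hRle hnorm hab with h | h
    · exact .inr (.inr (.inr (.inr (.inr (.inr (.inl h))))))
    · exact .inr (.inr (.inr (.inr (.inl h))))
  have hperf : ⁅M, M⁆ = M :=
    hmin _ (Subgroup.commutator_le_self M) (fun h hh => conj_commutator_mem (hMn h hh)) hMM
  rcases tensor_power_data hn0 hall hM hMn hM0 hmin hperf with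
    hsimple | ⟨m, t, e, P, hm, ht, hle, N, φ₀, g, hNM, hNperf, hN0, hinj, hrange, hg, hφ⟩
  · exact (simple_case hf hn hH hall hM hMn hM0 hperf hsimple).full
  have hherm : AschForm.Herm (RingHom.id F) (-1) f :=
    ⟨isSesq_of_bilinear hf.bilinear, hf.nondegenerate,
      fun u v => by rw [hf.skew v u, RingHom.id_apply, neg_one_mul], fun _ => rfl⟩
  obtain ⟨ε₁, f₁, L, h1, h2, hLperf, hL0, -⟩ :=
    AschForm.tensorPower_forms hherm hn0 hm ht (H := H) (by rintro _ ⟨x, hx, rfl⟩ u v; exact hH hx u v)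
      (hNM.trans hM) hNperf hN0 hinj hrange hg hφ
  obtain ⟨hf₁, htodd⟩ := power_symplectic hf (by omega) (by omega) h1 h2
  by_cases hodd : Odd (Fintype.card F)
  · have ht3 : 3 ≤ t := by
      rcases htodd hodd with ⟨d, hd⟩
      omega
    refine .inr (.inr (.inr (.inr (.inr (.inr (.inr ⟨m, t, e, P, f₁, hodd, htodd hodd, ht3, hm, ?_,
      ?_, hf₁, h2, hle⟩))))))
    · simpa using (Fintype.card_congr e).symm
    · rintro ⟨hq, rfl⟩
      exact hL0 (power_not_plane hq hLperf)
  · exact .inr (.inr (.inl (.inr (.inr (.inr (.inr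
      (quad_of_power hf (two_eq_zero_of_not_odd hodd) (by omega) ht hf₁ h2 hH hle)))))))

end CfsgLib.Classical.AschSp
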