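import Cfsg.Agent.Lib.Classical.AschSp.Basic

/-!
# Self-adjoint idempotents and the orthogonal decompositions they give
-/

set_option autoImplicit false
set_option linter.unusedSectionVars false

namespace CfsgLib.Classical.AschSp

open Matrix Cfsg Cfsg.Geo CfsgLib.Classical.AschPrime CfsgLib.Classical.AschGen
open scoped MatrixGroups

variable {F : Type*} [Field F] [Fintype F] {n : ℕ}
variable {f : (Fin n → F) → (Fin n → F) → F}

/-- The range of an idempotent. -/
noncomputable def eRange (e : Mat n F) : Submodule F (Fin n → F) := LinearMap.range (Matrix.toLin' e)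

theorem mem_eRange {e : Mat n F} (he : e * e = e) {v : Fin n → F} : v ∈ eRange e ↔ e *ᵥ v = v := by
  constructor
  · rintro ⟨w, rfl⟩
    rw [Matrix.toLin'_apply, Matrix.mulVec_mulVec, he]
  · exact fun h => ⟨v, by rw [Matrix.toLin'_apply, h]⟩

theorem eRange_ne_bot {e : Mat n F} (h : e ≠ 0) : eRange e ≠ ⊥ := by
  intro hb
  apply h
  refine Matrix.toLin'.injective ?_
  rw [map_zero]
  exact LinearMap.range_eq_bot.mp hb

theorem conj_mul_eq (g : GL (Fin n) F) (e : Mat n F) :
    conjHom g e * (g : Mat n F) = (g : Mat n F) * e := by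
  rw [conjHom_apply, Units.inv_mul_cancel_right]

theorem conjHom_injective (g : GL (Fin n) F) : Function.Injective (conjHom g) := by
  intro x y h
  have := congrArg (conjHom g⁻¹) h
  simpa [conjHom_apply, mul_assoc] using this

theorem map_eRange {g : GL (Fin n) F} {e e' : Mat n F} (he : e * e = e) (h : conjHom g e = e') :
    (eRange e).map (Matrix.toLin' (g : Mat n F)) = eRange e' := by
  have he' : e' * e' = e' := by rw [← h, ← map_mul, he]
  ext w
  constructor
  · rintro ⟨v, hv, rfl⟩
    rw [mem_eRange he', Matrix.toLin'_apply, Matrix.mulVec_mulVec, ← h, conj_mul_eq,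
      ← Matrix.mulVec_mulVec, (mem_eRange he).mp hv]
  · intro hw
    rw [mem_eRange he'] at hw
    refine ⟨((g⁻¹ : GL (Fin n) F) : Mat n F) *ᵥ w, (mem_eRange he).mpr ?_, ?_⟩
    · conv_rhs => rw [← hw, ← h, conjHom_apply]
      simp [Matrix.mulVec_mulVec, mul_assoc]
    · simp [Matrix.mulVec_mulVec]

/-- An idempotent centralised by an irreducible group is trivial. -/
theorem idem_trivial {H : Subgroup (GL (Fin n) F)} (hirr : ActsIrreducibly (matrixSet H))
    {e : Mat n F} (he : e * e = e) (hfix : ∀ g ∈ H, conjHom g e = e) : e = 0 ∨ e = 1 := by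
  rcases irr_iff.mp hirr (eRange e) (by
    rintro _ ⟨g, hg, rfl⟩ v hv
    rw [← map_eRange he (hfix g hg)]
    exact ⟨v, hv, by simp⟩) with h | h
  · exact .inl (by_contra fun h0 => eRange_ne_bot h0 h)
  · refine .inr (Matrix.ext_of_mulVec_single fun i => ?_)
    rw [Matrix.one_mulVec, (mem_eRange he).mp (h ▸ Submodule.mem_top)]

theorem sum_idem {S : Finset (Mat n F)} (hidem : ∀ e ∈ S, e * e = e)
    (horth : ∀ a ∈ S, ∀ b ∈ S, a ≠ b → a * b = 0) {T : Finset (Mat n F)} (hT : T ⊆ S) :
    (∑ x ∈ T, x) * (∑ x ∈ T, x) = ∑ x ∈ T, x := by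
  classical
  rw [Finset.sum_mul]
  refine Finset.sum_congr rfl fun a ha => ?_
  rw [Finset.mul_sum, Finset.sum_eq_single a (fun b hb hne => horth a (hT ha) b (hT hb) hne.symm)
    (fun h => absurd ha h), hidem a (hT ha)]

/-- A non-empty stable subset of a set of orthogonal idempotents with sum one is everything. -/
theorem stable_subset {H : Subgroup (GL (Fin n) F)} (hirr : ActsIrreducibly (matrixSet H))
    {S : Finset (Mat n F)} (hidem : ∀ e ∈ S, e * e = e) (hne : ∀ e ∈ S, e ≠ 0)
    (horth : ∀ a ∈ S, ∀ b ∈ S, a ≠ b → a * b = 0) {T : Finset (Mat n F)} (hT : T ⊆ S)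
    (hstab : ∀ g ∈ H, ∀ e ∈ T, conjHom g e ∈ T) (hnonempty : T.Nonempty) : T = S := by
  classical
  refine hT.antisymm fun a ha => ?_
  by_contra haT
  have hfix : ∀ g ∈ H, conjHom g (∑ x ∈ T, x) = ∑ x ∈ T, x := fun g hg => by
    rw [map_sum]
    have himg : T.image (conjHom g) = T :=
      Finset.eq_of_subset_of_card_le (Finset.image_subset_iff.mpr (hstab g hg))
        (by rw [Finset.card_image_of_injective _ (conjHom_injective g)])
    conv_rhs => rw [← himg, Finset.sum_image (conjHom_injective g).injOn]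
  rcases idem_trivial hirr (sum_idem hidem horth hT) hfix with h | h
  · obtain ⟨b, hb⟩ := hnonempty
    apply hne b (hT hb)
    have h' := congrArg (fun x => b * x) h
    simp only [mul_zero, Finset.mul_sum] at h'
    rwa [Finset.sum_eq_single b (fun c hc hcb => horth b (hT hb) c (hT hc) hcb.symm)
      (fun h => absurd hb h), hidem b (hT hb)] at h'
  · apply hne a ha
    have h' := congrArg (fun x => a * x) h
    simp only [mul_one, Finset.mul_sum] at h'
    rw [← h']
    exact Finset.sum_eq_zero fun c hc => horth a ha c (hT hc) fun e => haT (e ▸ hc)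

/-- Orthogonal idempotents with sum one give a direct decomposition. -/
theorem idem_indep {t : ℕ} {E : Fin t → Mat n F} (hidem : ∀ i, E i * E i = E i)
    (horth : ∀ i j, i ≠ j → E i * E j = 0) (hsum : ∑ i, E i = 1) :
    iSupIndep (fun i => eRange (E i)) ∧ (⨆ i, eRange (E i)) = ⊤ := by
  refine ⟨iSupIndep_def.mpr fun i => disjoint_iff_inf_le.mpr ?_, eq_top_iff.mpr fun v _ => ?_⟩
  · rintro x ⟨h1, h2⟩
    have hle : (⨆ j, ⨆ _ : j ≠ i, eRange (E j)) ≤ LinearMap.ker (Matrix.toLin' (E i)) :=
      iSup₂_le fun j hj => fun y hy => by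
        rw [LinearMap.mem_ker, Matrix.toLin'_apply, ← (mem_eRange (hidem j)).mp hy,
          Matrix.mulVec_mulVec, horth i j (Ne.symm hj), Matrix.zero_mulVec]
    have h3 := hle h2
    rw [LinearMap.mem_ker, Matrix.toLin'_apply, (mem_eRange (hidem i)).mp h1] at h3
    exact (Submodule.mem_bot F).mpr h3
  · rw [← Matrix.one_mulVec v, ← hsum, Matrix.sum_mulVec]
    exact Submodule.sum_mem _ fun i _ =>
      Submodule.mem_iSup_of_mem i ⟨v, by rw [Matrix.toLin'_apply]⟩

theorem decomp_of_orthogonal (hf : IsSymplecticForm f) {H : Subgroup (GL (Fin n) F)}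
    (hirr : ActsIrreducibly (matrixSet H)) {S : Finset (Mat n F)} (h2 : 2 ≤ S.card)
    (hidem : ∀ e ∈ S, e * e = e) (hne : ∀ e ∈ S, e ≠ 0) (hself : ∀ e ∈ S, adj f e = e)
    (horth : ∀ a ∈ S, ∀ b ∈ S, a ≠ b → a * b = 0) (hsum : ∑ e ∈ S, e = 1)
    (hstab : ∀ g ∈ H, ∀ e ∈ S, conjHom g e ∈ S) :
    ∃ (t k : ℕ) (D : Fin t → Submodule F (Fin n → F)),
      IsNondegenerateMDecomposition f k D ∧ H ≤ decompositionStabilizer D := by
  classical
  let E : Fin S.card → Mat n F := fun i => (S.equivFin.symm i : Mat n F)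
  have hmem : ∀ i, E i ∈ S := fun i => (S.equivFin.symm i).2
  have hinj : Function.Injective E := Subtype.val_injective.comp S.equivFin.symm.injective
  let i₀ : Fin S.card := ⟨0, by omega⟩
  let d := Module.finrank F (eRange (E i₀))
  have hd : ∀ e ∈ S, Module.finrank F (eRange e) = d := by
    have h := stable_subset hirr hidem hne horth
      (T := S.filter fun e => Module.finrank F (eRange e) = d) (Finset.filter_subset _ _)
      (fun g hg e he => by
        rw [Finset.mem_filter] at he ⊢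
        refine ⟨hstab g hg e he.1, ?_⟩
        rw [← map_eRange (g := g) (hidem e he.1) rfl, ← he.2]
        exact ((Submodule.equivMapOfInjective _ (fun x y hxy => by
          have := congrArg (fun z => ((g⁻¹ : GL (Fin n) F) : Mat n F) *ᵥ z)
            (show (g : Mat n F) *ᵥ x = (g : Mat n F) *ᵥ y by simpa using hxy)
          simpa [Matrix.mulVec_mulVec] using this) _).finrank_eq).symm)
      ⟨E i₀, Finset.mem_filter.mpr ⟨hmem i₀, rfl⟩⟩
    intro e he
    exact (Finset.mem_filter.mp (h.symm ▸ he : e ∈ S.filter fun e => Module.finrank F (eRange e) = d)).2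
  obtain ⟨hind, htop⟩ := idem_indep (E := E) (fun i => hidem _ (hmem i))
    (fun i j hij => horth _ (hmem i) _ (hmem j) fun h => hij (hinj h))
    (by
      rw [← hsum, ← Finset.sum_coe_sort S]
      exact Fintype.sum_equiv S.equivFin.symm _ _ fun i => rfl)
  refine ⟨S.card, d, fun i => eRange (E i), ⟨⟨h2, ?_, fun i => hd _ (hmem i), hind, htop⟩,
    fun i w hw hw0 => ?_, fun i j hij u hu v hv => ?_⟩, fun g hg => ?_⟩
  · exact Nat.pos_of_ne_zero fun h =>
      eRange_ne_bot (hne _ (hmem i₀)) (Submodule.finrank_eq_zero.mp h)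
  · obtain ⟨x, hx⟩ := (hf.nondegenerate w hw0).1
    have hy : E i *ᵥ x ∈ eRange (E i) := ⟨x, by rw [Matrix.toLin'_apply]⟩
    have he : f (E i *ᵥ x) w = f x w := by
      rw [adj_spec hf, hself _ (hmem i), (mem_eRange (hidem _ (hmem i))).mp hw]
    exact ⟨⟨_, hy, he.symm ▸ hx⟩, _, hy, by rw [hf.skew, he]; exact neg_ne_zero.mpr hx⟩
  · rw [← (mem_eRange (hidem _ (hmem i))).mp hu, ← (mem_eRange (hidem _ (hmem j))).mp hv,
      adj_spec hf, hself _ (hmem i), Matrix.mulVec_mulVec,
      horth _ (hmem i) _ (hmem j) fun h => hij (hinj h), Matrix.zero_mulVec]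
    exact (bil hf u).map_zero
  · let φ : Fin S.card → Fin S.card := fun i => S.equivFin ⟨conjHom g (E i), hstab g hg _ (hmem i)⟩
    have hφ : Function.Injective φ := fun i j h =>
      hinj (conjHom_injective g (congrArg Subtype.val (S.equivFin.injective h)))
    refine ⟨Equiv.ofBijective φ (Finite.injective_iff_bijective.mp hφ), fun i => ?_⟩
    refine map_eRange (hidem _ (hmem i)) ?_
    simp [E, φ]

/-- A split `k + k* = 1` in characteristic two gives an invariant quadratic form. -/
theorem quad_of_split (hf : IsSymplecticForm f) (h2 : (2 : F) = 0) {H : Subgroup (GL (Fin n) F)}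
    (hH : H ≤ isomSubgroup f) {k : Mat n F} (hk : k + adj f k = 1)
    (hconj : ∀ g ∈ H, conjHom g k = k ∨ conjHom g k = adj f k) :
    ∃ Q : (Fin n → F) → F, IsNondegenerateQuadraticForm Q ∧
      (∀ u v, QuadraticMap.polar Q u v = f u v) ∧ FixesQuadForm (matrixSet H) Q := by
  have hneg : ∀ a : F, -a = a := fun a => by linear_combination (-a) * h2
  refine ⟨fun v => f (k *ᵥ v) v, ?_⟩
  have hpolar : ∀ u v, QuadraticMap.polar (fun v => f (k *ᵥ v) v) u v = f u v := by
    intro u v
    have h1 : f (k *ᵥ v) u = f (adj f k *ᵥ u) v := by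
      rw [hf.skew, hneg, adj_spec hf, adj_adj hf]
    have h : f (k *ᵥ u) v + f (adj f k *ᵥ u) v = f u v := by
      rw [← hf.bilinear.add_left, ← Matrix.add_mulVec, hk, Matrix.one_mulVec]
    rw [← h, ← h1, QuadraticMap.polar]
    simp only [Matrix.mulVec_add, hf.bilinear.add_left, hf.bilinear.add_right]
    ring
  refine ⟨⟨fun c v => ?_, ?_, ?_⟩, hpolar, ?_⟩
  · show f (k *ᵥ (c • v)) (c • v) = c ^ 2 * f (k *ᵥ v) v
    rw [Matrix.mulVec_smul, hf.bilinear.smul_left, hf.bilinear.smul_right]
    ring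
  · exact ⟨fun x y v => by simp only [hpolar, hf.bilinear.add_left],
      fun c x v => by simp only [hpolar, hf.bilinear.smul_left],
      fun v x y => by simp only [hpolar, hf.bilinear.add_right],
      fun c v x => by simp only [hpolar, hf.bilinear.smul_right]⟩
  · intro v hv
    obtain ⟨⟨x, hx⟩, y, hy⟩ := hf.nondegenerate v hv
    exact ⟨⟨x, by rwa [hpolar]⟩, y, by rwa [hpolar]⟩
  · rintro _ ⟨g, hg, rfl⟩ v
    show f (k *ᵥ ((g : Mat n F) *ᵥ v)) ((g : Mat n F) *ᵥ v) = f (k *ᵥ v) v
    have hc : k * (g : Mat n F) = (g : Mat n F) * conjHom g⁻¹ k := by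
      simp [conjHom_apply, mul_assoc]
    rw [Matrix.mulVec_mulVec, hc, ← Matrix.mulVec_mulVec, hH hg]
    rcases hconj g⁻¹ (H.inv_mem hg) with h | h
    · rw [h]
    · rw [h, adj_spec hf, adj_adj hf, hf.skew, hneg]

end CfsgLib.Classical.AschSp
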