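import Cfsg.Agent.Lib.Classical.AschSp.TensorBasic
import Cfsg.Agent.Lib.Classical.SubfieldMax.Member

/-!
# No member of a geometric class contains the isometry group
-/

set_option autoImplicit false
set_option linter.unusedSectionVars false

namespace CfsgLib.Classical.AschSp

open Matrix Cfsg Cfsg.Geo CfsgLib.Classical.AschPrime CfsgLib.Classical.AschGen
open scoped MatrixGroups Kronecker

variable {F : Type*} [Field F] [Fintype F] {n : ℕ}
variable {f : (Fin n → F) → (Fin n → F) → F}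

/-- A maximal subgroup of `I` lying in a proper member is that member cut down. -/
theorem sp_maximal_eq {I H X : Subgroup (GL (Fin n) F)} (hH : IsMaximalIn I H) (hle : H ≤ X)
    (hX : ¬ I ≤ X) : H = X ⊓ I := by
  rcases hH.2 (X ⊓ I) (le_inf hle hH.1.le) inf_le_right with h | h
  · exact h.symm
  · exact absurd (inf_eq_right.mp h) hX

theorem exists_pair_out (hf : IsSymplecticForm f) {W : Submodule F (Fin n → F)} (h0 : W ≠ ⊥)
    (h1 : W ≠ ⊤) : ∃ w ∈ W, ∃ v ∉ W, f w v ≠ 0 := by
  obtain ⟨w, hw, hw0⟩ := Submodule.exists_mem_ne_zero_of_ne_bot h0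
  obtain ⟨x, hx⟩ := (hf.nondegenerate w hw0).2
  by_cases hxW : x ∈ W
  · obtain ⟨z, hz⟩ : ∃ z, z ∉ W := by
      by_contra h
      push Not at h
      exact h1 (eq_top_iff.mpr fun z _ => h z)
    by_cases hz0 : f w z = 0
    · refine ⟨w, hw, x + z, fun h => hz ?_, ?_⟩
      · simpa using sub_mem h hxW
      · rw [hf.bilinear.add_right, hz0, add_zero]; exact hx
    · exact ⟨w, hw, z, hz, hz0⟩
  · exact ⟨w, hw, x, hxW, hx⟩

theorem tv_moves_out (hf : IsSymplecticForm f) {W : Submodule F (Fin n → F)} {w v : Fin n → F}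
    (hw : w ∈ W) (hwv : f w v ≠ 0) (h : (tvGL hf v 1 : Mat n F) *ᵥ w ∈ W) : v ∈ W := by
  rw [tvGL_apply] at h
  have h2 : (1 * f w v) • v ∈ W := by simpa using sub_mem h hw
  rw [one_mul] at h2
  have := W.smul_mem (f w v)⁻¹ h2
  rwa [smul_smul, inv_mul_cancel₀ hwv, one_smul] at this

theorem isom_not_le_subspace (hf : IsSymplecticForm f) {W : Submodule F (Fin n → F)} (h0 : W ≠ ⊥)
    (h1 : W ≠ ⊤) : ¬ isomSubgroup f ≤ subspaceStabilizer W := by
  intro hle
  obtain ⟨w, hw, v, hv, hwv⟩ := exists_pair_out hf h0 h1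
  exact hv (tv_moves_out hf hw hwv ((hle (tvGL_mem hf v 1) w).mp hw))

theorem isom_not_le_decomp (hf : IsSymplecticForm f) {t m : ℕ}
    {D : Fin t → Submodule F (Fin n → F)} (hD : IsMDecomposition m D) (hm : 2 ≤ m) :
    ¬ isomSubgroup f ≤ decompositionStabilizer D := by
  classical
  intro hle
  have ht := hD.two_le
  have hbot : ∀ i, D i ≠ ⊥ := fun i e => by
    have := hD.finrank_eq i
    rw [e, finrank_bot] at this
    omega
  let i₀ : Fin t := ⟨0, by omega⟩
  let i₁ : Fin t := ⟨1, by omega⟩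
  have h01 : i₁ ≠ i₀ := by simp [i₀, i₁, Fin.ext_iff]
  have htop : D i₀ ≠ ⊤ := fun e => hbot i₁ (by
    have h := hD.indep.pairwiseDisjoint h01
    rw [Function.onFun, e, disjoint_top] at h
    exact h)
  obtain ⟨w, hw, v, hv, hwv⟩ := exists_pair_out hf (hbot i₀) htop
  obtain ⟨x, hx, hxs⟩ : ∃ x ∈ D i₀, x ∉ F ∙ w := by
    by_contra h
    push Not at h
    have h1 := Submodule.finrank_mono (show D i₀ ≤ F ∙ w from h)
    rw [hD.finrank_eq, finrank_span_singleton (by
      rintro rfl
      exact hwv (by rw [← bil_apply hf, map_zero, LinearMap.zero_apply]))] at h1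
    omega
  set y := x - (f x v * (f w v)⁻¹) • w with hy
  have hy0 : y ≠ 0 := fun h => hxs (Submodule.mem_span_singleton.mpr ⟨_, (sub_eq_zero.mp h).symm⟩)
  have hyD : y ∈ D i₀ := sub_mem hx (Submodule.smul_mem _ _ hw)
  have hyv : f y v = 0 := by
    rw [hy, ← bil_apply hf, map_sub, map_smul, LinearMap.sub_apply, LinearMap.smul_apply, bil_apply hf,
      bil_apply hf, smul_eq_mul, mul_assoc, inv_mul_cancel₀ hwv, mul_one, sub_self]
  obtain ⟨σ, hσ⟩ := hle (tvGL_mem hf v 1)
  have himg : ∀ u ∈ D i₀, (tvGL hf v 1 : Mat n F) *ᵥ u ∈ D (σ i₀) := fun u hu => by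
    rw [← hσ i₀]; exact ⟨u, hu, Matrix.toLin'_apply _ _⟩
  have hfix : σ i₀ = i₀ := by
    by_contra hne
    have h := himg y hyD
    rw [tvGL_apply, hyv, mul_zero, zero_smul, add_zero] at h
    exact hy0 (Submodule.disjoint_def.mp (hD.indep.pairwiseDisjoint hne) y h hyD)
  exact hv (tv_moves_out hf hw hwv (hfix ▸ himg w hw))

/-- A matrix with every vector as eigenvector is scalar. -/
theorem scalar_of_eigen_all (hn : 0 < n) {k : Mat n F} (h : ∀ v, ∃ c : F, k *ᵥ v = c • v) :
    ∃ c : F, k = c • 1 := by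
  classical
  choose c hc using h
  let e : Fin n → Fin n → F := fun i => Pi.single i 1
  refine ⟨c (e ⟨0, hn⟩), Matrix.ext_of_mulVec_single fun i => ?_⟩
  rw [Matrix.smul_mulVec, Matrix.one_mulVec, hc]
  by_cases hi : i = (⟨0, hn⟩ : Fin n)
  · rw [hi]
  have h2 := hc (e i + e ⟨0, hn⟩)
  rw [Matrix.mulVec_add, hc, hc, smul_add] at h2
  have ha := congrFun h2 i
  have hb := congrFun h2 ⟨0, hn⟩
  simp [e, hi, Ne.symm hi] at ha hb
  show c (e i) • e i = _
  rw [ha, ← hb]

/-- If the commutator of `L` with every transvection can be invertible only by being zero,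
`L` is scalar. -/
theorem tv_rank_two (hf : IsSymplecticForm f) (v : Fin n → F) {D L : Mat n F}
    (hD : D = (tvGL hf v 1 : Mat n F) * L * (((tvGL hf v 1)⁻¹ : GL (Fin n) F) : Mat n F) - L)
    (x : Fin n → F) : D *ᵥ ((tvGL hf v 1 : Mat n F) *ᵥ x) = f (L *ᵥ x) v • v - f x v • (L *ᵥ v) := by
  rw [hD, Matrix.sub_mulVec, Matrix.mulVec_mulVec, mul_assoc, Units.inv_mul, mul_one,
    ← Matrix.mulVec_mulVec, tvGL_apply, tvGL_apply, Matrix.mulVec_add, Matrix.mulVec_smul, one_mul,
    one_mul]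
  abel

theorem eigen_of_D_zero (hf : IsSymplecticForm f) {L : Mat n F} {v : Fin n → F}
    (h : ∀ x, f (L *ᵥ x) v • v - f x v • (L *ᵥ v) = 0) : ∃ c : F, L *ᵥ v = c • v := by
  by_cases hv : v = 0
  · exact ⟨0, by rw [hv, Matrix.mulVec_zero, smul_zero]⟩
  obtain ⟨x, hx⟩ := (hf.nondegenerate v hv).1
  refine ⟨(f x v)⁻¹ * f (L *ᵥ x) v, ?_⟩
  rw [← smul_smul, sub_eq_zero.mp (h x), smul_smul, inv_mul_cancel₀ hx, one_smul]

theorem isom_not_le_field (hf : IsSymplecticForm f) (hn : 3 ≤ n) {r : ℕ} (hr : 2 ≤ r)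
    {K : Subalgebra F (Mat n F)} (hK : IsFieldSubalgebra r K) :
    ¬ isomSubgroup f ≤ subalgebraNormalizer K := by
  classical
  intro hle
  have hbot : K ≤ ⊥ := fun k hk => by
    obtain ⟨c, rfl⟩ := scalar_of_eigen_all (by omega) (k := k) fun v => by
      set g := tvGL hf v 1
      set D := (g : Mat n F) * k * ((g⁻¹ : GL (Fin n) F) : Mat n F) - k with hD
      have hDK : D ∈ K := K.sub_mem ((hle (tvGL_mem hf v 1) k).mp hk) hk
      refine eigen_of_D_zero hf fun x => ?_
      rw [← tv_rank_two hf v hD x]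
      suffices D = 0 by rw [this, Matrix.zero_mulVec]
      by_contra hD0
      obtain ⟨y, -, hy⟩ := hK.inv D hDK hD0
      have hsurj : ∀ z, ∃ a b : F, z = a • v + b • (k *ᵥ v) := fun z => by
        refine ⟨f (k *ᵥ (((g⁻¹ : GL (Fin n) F) : Mat n F) *ᵥ (y *ᵥ z))) v,
          -f (((g⁻¹ : GL (Fin n) F) : Mat n F) *ᵥ (y *ᵥ z)) v, ?_⟩
        rw [neg_smul, ← sub_eq_add_neg, ← tv_rank_two hf v hD, Matrix.mulVec_mulVec, Matrix.mulVec_mulVec,
          mul_assoc D, Units.mul_inv, mul_one, Matrix.mulVec_mulVec, hy, Matrix.one_mulVec]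
      have htop : (⊤ : Submodule F (Fin n → F)) ≤ Submodule.span F {v, k *ᵥ v} := fun z _ => by
        obtain ⟨a, b, rfl⟩ := hsurj z
        exact Submodule.mem_span_pair.mpr ⟨a, b, rfl⟩
      have h1 := Submodule.finrank_mono htop
      rw [finrank_top, Module.finrank_fintype_fun_eq_card, Fintype.card_fin] at h1
      have h2 := finrank_span_le_card (R := F) ({v, k *ᵥ v} : Set (Fin n → F))
      have h3 : ({v, k *ᵥ v} : Set (Fin n → F)).toFinset.card ≤ 2 := by
        simp only [Set.toFinset_insert, Set.toFinset_singleton]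
        exact Finset.card_le_two
      omega
    exact Algebra.mem_bot.mpr ⟨c, one_smul_eq c⟩
  have h1 : Module.finrank F K = 1 := by
    haveI : Nonempty (Fin n) := ⟨⟨0, by omega⟩⟩
    rw [le_bot_iff.mp hbot, Subalgebra.finrank_bot]
  rw [hK.finrank_eq] at h1
  omega

theorem isom_not_le_tensor (hf : IsSymplecticForm f) {m k : ℕ} (hm : 2 ≤ m) (hk : 3 ≤ k)
    (e : Fin n ≃ Fin m × Fin k) (P : GL (Fin n) F) :
    ¬ isomSubgroup f ≤ tensorProductSubgroup m k e P := by
  classical
  intro hle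
  haveI : NeZero m := ⟨by omega⟩
  haveI : NeZero k := ⟨by omega⟩
  have hn : 0 < n := by
    have := Fintype.card_congr e
    rw [Fintype.card_prod, Fintype.card_fin, Fintype.card_fin, Fintype.card_fin] at this
    rw [this]
    exact Nat.mul_pos (by omega) (by omega)
  let X : Mat m F := Matrix.single ⟨0, by omega⟩ ⟨1, by omega⟩ 1
  set L := leftHom e P X with hL
  obtain ⟨c, hc⟩ := scalar_of_eigen_all hn (k := L) fun v => by
    set g := tvGL hf v 1
    set D := (g : Mat n F) * L * ((g⁻¹ : GL (Fin n) F) : Mat n F) - L with hD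
    obtain ⟨a, b, hab⟩ := (mem_tensor_iff e P).mp (hle (tvGL_mem hf v 1))
    obtain ⟨Z, hZ⟩ : ∃ Z : Mat m F, D = leftHom e P Z := by
      refine ⟨(a : Mat m F) * X * ((a⁻¹ : GL (Fin m) F) : Mat m F) - X, ?_⟩
      have h1 := conj_pull e P hab X (1 : Mat k F)
      rw [mul_one, Units.mul_inv, conjHom_apply] at h1
      rw [hD, hL, map_sub, leftHom_apply, leftHom_apply, h1]
    refine eigen_of_D_zero hf fun x => ?_
    rw [← tv_rank_two hf v hD x]
    suffices Z = 0 by rw [hZ, this, map_zero, Matrix.zero_mulVec]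
    by_contra hZ0
    obtain ⟨p, q, hpq⟩ : ∃ p q, Z p q ≠ 0 := by
      by_contra h
      push Not at h
      exact hZ0 (Matrix.ext h)
    let S : Submodule F (Fin n → F) := Submodule.span F {v, L *ᵥ v}
    have himg : ∀ z, D *ᵥ z ∈ S := fun z => by
      have h := tv_rank_two hf v hD (((g⁻¹ : GL (Fin n) F) : Mat n F) *ᵥ z)
      rw [Matrix.mulVec_mulVec z (g : Mat n F), Units.mul_inv, Matrix.one_mulVec] at h
      rw [h]
      exact sub_mem (Submodule.smul_mem _ _ (Submodule.subset_span (Set.mem_insert _ _)))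
        (Submodule.smul_mem _ _ (Submodule.subset_span (Set.mem_insert_of_mem _ rfl)))
    let ext : (Fin k → F) →ₗ[F] (Fin n → F) :=
      { toFun := fun u => fun i => if (e i).1 = q then u (e i).2 else 0
        map_add' := fun u u' => by funext i; by_cases h : (e i).1 = q <;> simp [h]
        map_smul' := fun r u => by funext i; by_cases h : (e i).1 = q <;> simp [h] }
    let φ : (Fin k → F) →ₗ[F] S :=
      LinearMap.codRestrict S ((Matrix.toLin' D).comp ((Matrix.toLin' (P : Mat n F)).comp ext))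
        fun u => by
          rw [LinearMap.comp_apply, Matrix.toLin'_apply]
          exact himg _
    have hval : ∀ u j, (((P⁻¹ : GL (Fin n) F) : Mat n F) *ᵥ (φ u : Fin n → F)) (e.symm (p, j)) =
        Z p q * u j := by
      intro u j
      show (((P⁻¹ : GL (Fin n) F) : Mat n F) *ᵥ (Matrix.toLin' D (Matrix.toLin' (P : Mat n F) (ext u)))) _ = _
      rw [Matrix.toLin'_apply, Matrix.toLin'_apply, hZ, leftHom_apply, pull_apply, Matrix.mulVec_mulVec,
        Matrix.mulVec_mulVec]
      simp only [mul_assoc, Units.inv_mul, mul_one, Units.inv_mul_cancel_left]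
      simp only [Matrix.mulVec, dotProduct]
      rw [Fintype.sum_equiv e _ (fun y : Fin m × Fin k =>
        (Z p y.1 * (1 : Mat k F) j y.2) * (if y.1 = q then u y.2 else 0)) fun i => by
          simp [ext, Matrix.reindex_apply], Fintype.sum_prod_type,
        Finset.sum_eq_single q (fun y _ hy => by simp [hy]) fun h => absurd (Finset.mem_univ q) h,
        Finset.sum_eq_single j (fun y _ hy => by simp [Matrix.one_apply_ne hy.symm])
          fun h => absurd (Finset.mem_univ j) h]
      simp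
    have hinj : Function.Injective φ := fun u u' huu => by
      funext j
      have h1 := hval u j
      rw [huu, hval] at h1
      exact (mul_left_cancel₀ hpq h1).symm
    have h1 := LinearMap.finrank_le_finrank_of_injective hinj
    rw [Module.finrank_fintype_fun_eq_card, Fintype.card_fin] at h1
    change k ≤ Module.finrank F (Submodule.span F ({v, L *ᵥ v} : Set (Fin n → F))) at h1
    have h2 := finrank_span_le_card (R := F) ({v, L *ᵥ v} : Set (Fin n → F))
    have h3 : ({v, L *ᵥ v} : Set (Fin n → F)).toFinset.card ≤ 2 := by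
      simp only [Set.toFinset_insert, Set.toFinset_singleton]
      exact Finset.card_le_two
    omega
  have hXc : X = c • 1 := by
    refine kron_left_inj (k := k) (by omega) (pull_injective e P ?_)
    rw [← leftHom_apply, ← leftHom_apply, map_smul, map_one, ← hL, hc]
  have := congrFun (congrFun hXc ⟨0, by omega⟩) ⟨1, by omega⟩
  simp [X] at this

theorem isom_not_le_subfield (hf : IsSymplecticForm f) (hn : 0 < n) {F₀ : Subfield F} (hF₀ : F₀ ≠ ⊤)
    (P : GL (Fin n) F) : ¬ isomSubgroup f ≤ subfieldSubgroup F₀ P := by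
  classical
  intro hle
  obtain ⟨t, ht⟩ : ∃ t : F, t ∉ F₀ := by
    by_contra h
    push Not at h
    exact hF₀ (eq_top_iff.mpr fun x _ => h x)
  let i : Fin n := ⟨0, hn⟩
  set v := (P : Mat n F) *ᵥ (Pi.single i 1 : Fin n → F) with hv
  have hv0 : v ≠ 0 := fun h => by
    have h' := congrArg (fun x => ((P⁻¹ : GL (Fin n) F) : Mat n F) *ᵥ x) h
    simp only [hv, Matrix.mulVec_mulVec, Units.inv_mul, Matrix.one_mulVec, Matrix.mulVec_zero] at h'
    exact (one_ne_zero (α := F)) (by simpa using congrFun h' i)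
  obtain ⟨j, hj⟩ : ∃ j, f ((P : Mat n F) *ᵥ Pi.single j 1) v ≠ 0 := by
    by_contra h
    push Not at h
    obtain ⟨x, hx⟩ := (hf.nondegenerate v hv0).1
    have hx' : x = ∑ l, (((P⁻¹ : GL (Fin n) F) : Mat n F) *ᵥ x) l • ((P : Mat n F) *ᵥ Pi.single l 1) := by
      simp only [← Matrix.mulVec_smul, ← Matrix.mulVec_sum]
      rw [← pi_eq_sum_univ', Matrix.mulVec_mulVec, Units.mul_inv, Matrix.one_mulVec]
    refine hx ?_
    rw [hx', ← bil_apply hf, LinearMap.map_sum₂]
    exact Finset.sum_eq_zero fun l _ => by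
      rw [map_smul, LinearMap.smul_apply, bil_apply hf, h, smul_zero]
  have hji : j ≠ i := fun h => hj (by rw [h, ← hv, hf.alternating])
  set ρ := f ((P : Mat n F) *ᵥ Pi.single j 1) v
  set g := tvGL hf v (t / ρ)
  obtain ⟨l, hl0, hl⟩ := (SubfieldMax.mem_subfieldSubgroup_iff F₀ P g).mp (hle (tvGL_mem hf v _))
  have hPv : ((P⁻¹ : GL (Fin n) F) : Mat n F) *ᵥ v = Pi.single i 1 := by
    rw [hv, Matrix.mulVec_mulVec, Units.inv_mul, Matrix.one_mulVec]
  have hent : ∀ a b, ((P⁻¹ * g * P : GL (Fin n) F) : Mat n F) a b =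
      (Pi.single b (1 : F) + (t / ρ * f ((P : Mat n F) *ᵥ Pi.single b 1) v) • Pi.single i 1 :
        Fin n → F) a := by
    intro a b
    have h1 : ((P⁻¹ * g * P : GL (Fin n) F) : Mat n F) *ᵥ Pi.single b 1 =
        Pi.single b (1 : F) + (t / ρ * f ((P : Mat n F) *ᵥ Pi.single b 1) v) • Pi.single i 1 := by
      rw [Units.val_mul, Units.val_mul, ← Matrix.mulVec_mulVec, ← Matrix.mulVec_mulVec, tvGL_apply,
        Matrix.mulVec_add, Matrix.mulVec_smul, hPv, Matrix.mulVec_mulVec, Units.inv_mul,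
        Matrix.one_mulVec]
    rw [← h1, Matrix.mulVec_single_one, Matrix.col_apply]
  have h1 := hl i i
  rw [hent, ← hv, hf.alternating, mul_zero, zero_smul, add_zero, Pi.single_eq_same, mul_one] at h1
  have h2 := hl i j
  rw [hent, Pi.add_apply, Pi.single_eq_of_ne hji.symm, Pi.smul_apply, Pi.single_eq_same, smul_eq_mul,
    zero_add, mul_one, div_mul_cancel₀ t hj] at h2
  have h3 := F₀.mul_mem (F₀.inv_mem h1) h2
  rw [inv_mul_cancel_left₀ hl0] at h3
  exact ht h3

theorem isom_not_le_quad (hf : IsSymplecticForm f) (hn : 3 ≤ n) {Q : (Fin n → F) → F}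
    (hQ : IsNondegenerateQuadraticForm Q) (hpol : ∀ u v, QuadraticMap.polar Q u v = f u v)
    (h2 : (2 : F) = 0) : ¬ isomSubgroup f ≤ quadSimilarityGroup Q := by
  classical
  intro hle
  haveI : CharP F 2 := CharTwo.of_one_ne_zero_of_two_eq_zero one_ne_zero h2
  have hadd : ∀ a b, Q (a + b) = Q a + Q b + f a b := fun a b => by
    rw [← hpol a b, QuadraticMap.polar]; ring
  haveI : NeZero n := ⟨by omega⟩
  -- a non-zero singular vector
  obtain ⟨v, hv0, hQv⟩ : ∃ v : Fin n → F, v ≠ 0 ∧ Q v = 0 := by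
    let u : Fin n → F := Pi.single 0 1
    have hu : u ≠ 0 := by simp [u]
    by_cases hQu : Q u = 0
    · exact ⟨u, hu, hQu⟩
    have hker : 2 ≤ Module.finrank F (LinearMap.ker (bil hf u)) := by
      have h := LinearMap.finrank_range_add_finrank_ker (bil hf u)
      have h' := Submodule.finrank_le (LinearMap.range (bil hf u))
      rw [Module.finrank_fintype_fun_eq_card, Fintype.card_fin] at h
      rw [Module.finrank_self] at h'
      omega
    obtain ⟨w, hw, hwu⟩ : ∃ w, f u w = 0 ∧ w ∉ F ∙ u := by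
      by_contra h
      push Not at h
      have h1 := Submodule.finrank_mono (show LinearMap.ker (bil hf u) ≤ F ∙ u from
        fun x hx => h x (LinearMap.mem_ker.mp hx))
      rw [finrank_span_singleton hu] at h1
      omega
    obtain ⟨a, ha⟩ := FiniteField.isSquare_of_char_two (ringChar.eq F 2) (Q w / Q u)
    refine ⟨a • u + w, fun h => hwu (Submodule.mem_span_singleton.mpr ⟨-a, ?_⟩), ?_⟩
    · rw [neg_smul]
      exact (eq_neg_of_add_eq_zero_right h).symm
    · rw [hadd, hQ.smul, hf.bilinear.smul_left, hw, mul_zero, add_zero, sq, ← ha,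
        div_mul_cancel₀ _ hQu, ← two_mul, h2, zero_mul]
  obtain ⟨x, hx⟩ := (hf.nondegenerate v hv0).1
  set x' := x + (-(Q x) / f x v) • v with hx'
  have hfx : f x' v = f x v := by
    rw [hx', hf.bilinear.add_left, hf.bilinear.smul_left, hf.alternating, mul_zero, add_zero]
  have hQx : Q x' = 0 := by
    rw [hx', hadd, hQ.smul, hQv, mul_zero, add_zero, hf.bilinear.smul_right, div_mul_cancel₀ _ hx,
      add_neg_cancel]
  obtain ⟨μ, hμ⟩ := hle (tvGL_mem hf v 1)
  have h := hμ x'
  rw [tvGL_apply, hadd, hQ.smul, hQv, hQx, hfx, hf.bilinear.smul_right, hfx, mul_zero, mul_zero,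
    zero_add, zero_add, one_mul] at h
  exact hx (mul_self_eq_zero.mp h)

end CfsgLib.Classical.AschSp
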