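import Cfsg.Agent.Lib.Classical.AschSp.Field

/-!
# A self-adjoint field of degree `r` forces `2 r ∣ n`
-/

set_option autoImplicit false
set_option linter.unusedSectionVars false

namespace CfsgLib.Classical.AschSp

open Matrix Cfsg Cfsg.Geo CfsgLib.Classical.AschPrime CfsgLib.Classical.AschGen
open scoped MatrixGroups

variable {F : Type*} [Field F] [Fintype F] {n r : ℕ}
variable {f : (Fin n → F) → (Fin n → F) → F}

/-- Over a self-adjoint field every stable non-degenerate subspace has dimension divisible by `2 r`. -/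
theorem selfAdj_dvd_finrank (hf : IsSymplecticForm f) {K : Subalgebra F (Mat n F)}
    (hK : IsFieldSubalgebra r K) (hsa : IsSelfAdjointFor f K)
    (halt : ∀ k ∈ K, ∀ v, f (k *ᵥ v) v = 0) :
    ∀ (d : ℕ) (W : Submodule F (Fin n → F)), Module.finrank F W = d → IsNondegenerateOn f W →
      (∀ k ∈ K, ∀ v ∈ W, k *ᵥ v ∈ W) → 2 * r ∣ d := by
  classical
  intro d
  induction d using Nat.strong_induction_on with
  | _ d ih =>
    intro W hd hnd hst
    rcases Nat.eq_zero_or_pos d with rfl | hpos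
    · exact dvd_zero _
    obtain ⟨v, hv, hv0⟩ := Submodule.exists_mem_ne_zero_of_ne_bot (p := W) (fun h => by
      rw [h, finrank_bot] at hd; omega)
    obtain ⟨-, w, hw, hvw⟩ := hnd v hv hv0
    have kts : ∀ a ∈ K, ∀ b ∈ K, f (a *ᵥ v) (b *ᵥ v) = 0 := fun a ha b hb => by
      rw [← hsa b hb, Matrix.mulVec_mulVec]
      exact halt _ (K.mul_mem hb ha) v
    have pair : ∀ a ∈ K, ∀ b ∈ K, a * b = 1 → f (a *ᵥ v) (b *ᵥ w) = f v w := fun a ha b hb h => by
      rw [hsa a ha, Matrix.mulVec_mulVec, h, Matrix.one_mulVec]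
    let ψ : (K × K) →ₗ[F] (Fin n → F) :=
      { toFun := fun p => (p.1 : Mat n F) *ᵥ v + (p.2 : Mat n F) *ᵥ w
        map_add' := fun p q => by
          simp only [Prod.fst_add, Prod.snd_add, Subalgebra.coe_add, Matrix.add_mulVec]
          abel
        map_smul' := fun c p => by
          simp only [Prod.smul_fst, Prod.smul_snd, Subalgebra.coe_smul, Matrix.smul_mulVec, smul_add,
            RingHom.id_apply] }
    have hψ : ∀ p : K × K, ψ p = (p.1 : Mat n F) *ᵥ v + (p.2 : Mat n F) *ᵥ w := fun _ => rfl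
    have hker : ∀ p : K × K, p ≠ 0 → ∃ p' : K × K, f (ψ p') (ψ p) ≠ 0 := by
      rintro ⟨⟨a, ha⟩, ⟨b, hb⟩⟩ hp
      by_cases hb0 : b = 0
      · subst hb0
        have ha0 : a ≠ 0 := fun h => hp (by simp [h]; rfl)
        obtain ⟨a', ha', h1⟩ := hK.inv a ha ha0
        refine ⟨(0, ⟨a', ha'⟩), ?_⟩
        simp only [hψ, ZeroMemClass.coe_zero, Matrix.zero_mulVec, zero_add, add_zero]
        rw [hf.skew, pair a ha a' ha' h1]
        exact neg_ne_zero.mpr hvw
      · obtain ⟨b', hb', h1⟩ := hK.inv b hb hb0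
        refine ⟨(⟨b', hb'⟩, 0), ?_⟩
        simp only [hψ, ZeroMemClass.coe_zero, Matrix.zero_mulVec, add_zero]
        rw [hf.bilinear.add_right, kts b' hb' a ha, zero_add,
          pair b' hb' b hb (by rw [hK.comm b' hb' b hb, h1])]
        exact hvw
    have hinj : Function.Injective ψ := by
      rw [← LinearMap.ker_eq_bot, eq_bot_iff]
      intro p hp
      rw [Submodule.mem_bot]
      by_contra h
      obtain ⟨p', hp'⟩ := hker p h
      rw [LinearMap.mem_ker] at hp
      rw [hp, ← bil_apply hf, map_zero] at hp'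
      exact hp' rfl
    set U := LinearMap.range ψ with hU
    have hUr : Module.finrank F U = 2 * r := by
      rw [hU, LinearMap.finrank_range_of_inj hinj, Module.finrank_prod, hK.finrank_eq, two_mul]
    have hUnd : IsNondegenerateOn f U := by
      rintro _ ⟨p, rfl⟩ hp0
      obtain ⟨p', hp'⟩ := hker p fun h => hp0 (by rw [h, map_zero])
      exact ⟨⟨_, ⟨p', rfl⟩, hp'⟩, _, ⟨p', rfl⟩, by rw [hf.skew]; exact neg_ne_zero.mpr hp'⟩
    have hUW : U ≤ W := by
      rintro _ ⟨p, rfl⟩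
      rw [hψ]
      exact W.add_mem (hst _ p.1.2 v hv) (hst _ p.2.2 w hw)
    have hUst : ∀ k ∈ K, ∀ x ∈ U, k *ᵥ x ∈ U := by
      rintro k hk _ ⟨p, rfl⟩
      refine ⟨(⟨k, hk⟩ * p.1, ⟨k, hk⟩ * p.2), ?_⟩
      simp only [hψ, Subalgebra.coe_mul, Matrix.mulVec_add, Matrix.mulVec_mulVec]
    have hsup : U ⊔ (fperp hf U ⊓ W) = W := by
      rw [← sup_inf_assoc_of_le _ hUW, (isCompl_fperp hf hUnd).sup_eq_top, top_inf_eq]
    have hdim : Module.finrank F W = 2 * r + Module.finrank F (fperp hf U ⊓ W : Submodule F _) := by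
      have h := Submodule.finrank_sup_add_finrank_inf_eq U (fperp hf U ⊓ W)
      rw [hsup, ← inf_assoc, (isCompl_fperp hf hUnd).inf_eq_bot, bot_inf_eq, finrank_bot, add_zero,
        hUr] at h
      exact h
    have hrpos : 0 < r := by
      rw [← hK.finrank_eq]
      haveI : Nontrivial K := ⟨⟨0, 1, fun h => hv0 (by
        rw [← Matrix.one_mulVec v, ← OneMemClass.coe_one K, ← h, ZeroMemClass.coe_zero,
          Matrix.zero_mulVec])⟩⟩
      exact Module.finrank_pos
    rw [← hd, hdim]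
    refine (Nat.dvd_add_right (dvd_refl (2 * r))).mpr (ih (Module.finrank F (fperp hf U ⊓ W : Submodule F _)) (by omega) _ rfl ?_ ?_)
    · intro x hx hx0
      obtain ⟨⟨y, hy, hyx⟩, -⟩ := hnd x hx.2 hx0
      rw [← hsup, Submodule.mem_sup] at hy
      obtain ⟨u, hu, y', hy', rfl⟩ := hy
      rw [hf.bilinear.add_left, (mem_fperp hf).mp hx.1 u hu, zero_add] at hyx
      exact ⟨⟨y', hy', hyx⟩, y', hy', by rw [hf.skew]; exact neg_ne_zero.mpr hyx⟩
    · rintro k hk x ⟨hx1, hx2⟩
      refine ⟨(mem_fperp hf).mpr fun u hu => ?_, hst k hk x hx2⟩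
      rw [← hsa k hk]
      exact (mem_fperp hf).mp hx1 _ (hUst k hk u hu)

/-- A self-adjoint field of degree `r` with alternation: `2 r ∣ n`. -/
theorem selfAdj_dvd (hf : IsSymplecticForm f) {K : Subalgebra F (Mat n F)}
    (hK : IsFieldSubalgebra r K) (hsa : IsSelfAdjointFor f K)
    (halt : ∀ k ∈ K, ∀ v, f (k *ᵥ v) v = 0) : 2 * r ∣ n := by
  refine selfAdj_dvd_finrank hf hK hsa halt n ⊤ ?_ ?_ fun k _ v _ => Submodule.mem_top
  · rw [finrank_top, Module.finrank_fintype_fun_eq_card, Fintype.card_fin]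
  · intro v _ hv0
    obtain ⟨⟨x, hx⟩, y, hy⟩ := hf.nondegenerate v hv0
    exact ⟨⟨x, Submodule.mem_top, hx⟩, y, Submodule.mem_top, hy⟩

end CfsgLib.Classical.AschSp
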