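import Cfsg.Agent.Lib.Classical.AschSp.Outcome
import Cfsg.Agent.Lib.Classical.AschSp.SelfAdj
import Cfsg.Agent.Lib.Classical.AschSp.PlanesTwo
import Cfsg.Agent.Lib.Classical.AschSp.Proper

/-!
# Maximal subgroups of a symplectic group
-/

set_option autoImplicit false
set_option linter.unusedSectionVars false

namespace CfsgLib.Classical.AschSp

open Matrix Cfsg Cfsg.Geo CfsgLib.Classical.AschPrime CfsgLib.Classical.AschGen
open scoped MatrixGroups

variable {F : Type*} [Field F] [Fintype F] {n : ℕ}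
variable {f : (Fin n → F) → (Fin n → F) → F}

/-- A maximal subgroup of the isometry group is a member of one of these classes, or residual. -/
def SpMaxCases (f : (Fin n → F) → (Fin n → F) → F) (H : Subgroup (GL (Fin n) F)) : Prop :=
  (∃ W : Submodule F (Fin n → F), W ≠ ⊥ ∧ IsTotallySingularFor f W ∧
      H = subspaceStabilizer W ⊓ isomSubgroup f) ∨
  (∃ W : Submodule F (Fin n → F), W ≠ ⊥ ∧ IsNondegenerateOn f W ∧ 2 * Module.finrank F W < n ∧
      H = subspaceStabilizer W ⊓ isomSubgroup f) ∨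
  (∃ (t k : ℕ) (D : Fin t → Submodule F (Fin n → F)), Even k ∧ 2 ≤ k ∧ 2 ≤ t ∧ t * k = n ∧
      (k = 2 → 3 ≤ Fintype.card F) ∧ IsNondegenerateMDecomposition f k D ∧
      H = decompositionStabilizer D ⊓ isomSubgroup f) ∨
  (Odd (Fintype.card F) ∧ ∃ (k : ℕ) (D : Fin 2 → Submodule F (Fin n → F)), 2 * k = n ∧
      IsMDecomposition k D ∧ (∀ i, IsTotallySingularFor f (D i)) ∧
      H = decompositionStabilizer D ⊓ isomSubgroup f) ∨
  (∃ (r : ℕ) (K : Subalgebra F (Mat n F)), r.Prime ∧ 2 * r ∣ n ∧ IsFieldSubalgebra r K ∧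
      IsSelfAdjointFor f K ∧ (∀ k ∈ K, ∀ v, f (k *ᵥ v) v = 0) ∧
      H = subalgebraNormalizer K ⊓ isomSubgroup f) ∨
  (Odd (Fintype.card F) ∧ ∃ K : Subalgebra F (Mat n F), IsFieldSubalgebra 2 K ∧
      IsAdjointClosedFor f K ∧ ¬ IsSelfAdjointFor f K ∧
      H = subalgebraNormalizer K ⊓ isomSubgroup f) ∨
  (Odd (Fintype.card F) ∧ ∃ (n₁ n₂ : ℕ) (e : Fin n ≃ Fin n₁ × Fin n₂) (P : GL (Fin n) F)
      (f₁ : (Fin n₁ → F) → (Fin n₁ → F) → F) (f₂ : (Fin n₂ → F) → (Fin n₂ → F) → F),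
      2 ≤ n₁ ∧ Even n₁ ∧ 3 ≤ n₂ ∧ n₁ * n₂ = n ∧ (n₂ = 3 → 5 ≤ Fintype.card F) ∧
      IsSymplecticForm f₁ ∧ IsSymmetricForm f₂ ∧
      IsTensorFormStructure id f f₁ f₂ e P ∧ H = tensorProductSubgroup n₁ n₂ e P ⊓ isomSubgroup f) ∨
  (∃ (F₀ : Subfield F) (r : ℕ) (P : GL (Fin n) F) (ζ : F), r.Prime ∧
      Fintype.card F = Nat.card F₀ ^ r ∧ ζ ≠ 0 ∧ IsFormRationalStructure f F₀ ζ P ∧
      H = subfieldSubgroup F₀ P ⊓ isomSubgroup f) ∨
  (¬ Odd (Fintype.card F) ∧ ∃ Q : (Fin n → F) → F, IsNondegenerateQuadraticForm Q ∧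
      (∀ u v, QuadraticMap.polar Q u v = f u v) ∧ H = quadSimilarityGroup Q ⊓ isomSubgroup f) ∨
  InSymplecticResidualClass H

theorem five_le_of_odd (hodd : Odd (Fintype.card F)) (h3 : Fintype.card F ≠ 3) :
    5 ≤ Fintype.card F := by
  have h1 := Fintype.one_lt_card (α := F)
  rcases hodd with ⟨d, hd⟩
  omega

theorem quad_case_eq (hf : IsSymplecticForm f) (hn : 3 ≤ n) {H : Subgroup (GL (Fin n) F)}
    (hH : IsMaximalIn (isomSubgroup f) H) (h : QuadCase f H) : SpMaxCases f H := by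
  obtain ⟨hodd, Q, hQ, hpol, hfix⟩ := h
  refine .inr (.inr (.inr (.inr (.inr (.inr (.inr (.inr (.inl ⟨hodd, Q, hQ, hpol,
    sp_maximal_eq hH (fun g hg => ⟨1, fun v => ?_⟩)
      (isom_not_le_quad hf hn hQ hpol (two_eq_zero_of_not_odd hodd))⟩))))))))
  rw [Units.val_one, one_mul]
  exact hfix _ (mem_matrixSet hg) v

/-- Aschbacher's theorem for the maximal subgroups of a symplectic group whose degree is neither a
prime power nor a perfect power. -/
theorem sp_maximal_cases (hf : IsSymplecticForm f) (hn : 3 ≤ n)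
    (hpp : ∀ r k : ℕ, r.Prime → 1 ≤ k → n ≠ r ^ k)
    (hpw : ∀ m t : ℕ, 2 ≤ m → 2 ≤ t → m ^ t ≠ n)
    {H : Subgroup (GL (Fin n) F)} (hH : IsMaximalIn (isomSubgroup f) H) : SpMaxCases f H := by
  classical
  have hn0 : 0 < n := by omega
  rcases sp_outcome hf hn hH.1.le with ⟨W, h0, hts, hle⟩ | ⟨W, h0, hnd, hlt, hle⟩ |
    (⟨t, k, D, hD, hle⟩ | ⟨hodd, k, D, hD, hts, hk, hle⟩ | ⟨r, K, hr, hK, hsa, halt, hle⟩ |
      ⟨hodd, K, hK, hac, hnsa, hle⟩ | hquad) |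
    ⟨hodd, n₁, n₂, e, P, f₁, f₂, h1, h2, h3, hf1, hf2, hst, hle⟩ |
    ⟨F₀, l, P, ζ, hl, hcard, hζ, hrs, hle⟩ | hres | ⟨r, k, hr, hk, hrk⟩ | ⟨m, t, hm, ht, hmt⟩
  · refine .inl ⟨W, h0, hts, sp_maximal_eq hH hle (isom_not_le_subspace hf h0 fun h => ?_)⟩
    have := ts_finrank hf hts
    rw [h, finrank_top, Module.finrank_fintype_fun_eq_card, Fintype.card_fin] at this
    omega
  · refine .inr (.inl ⟨W, h0, hnd, hlt, sp_maximal_eq hH hle (isom_not_le_subspace hf h0 fun h => ?_)⟩)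
    rw [h, finrank_top, Module.finrank_fintype_fun_eq_card, Fintype.card_fin] at hlt
    omega
  · have ht := hD.decomp.two_le
    have hk : Even k := hD.decomp.finrank_eq ⟨0, by omega⟩ ▸ nondeg_finrank_even hf (hD.nondegenerate _)
    have hk2 : 2 ≤ k := by
      have := hD.decomp.pos
      rcases hk with ⟨d, hd⟩
      omega
    by_cases hq : k = 2 ∧ Fintype.card F = 2
    · obtain ⟨rfl, hq⟩ := hq
      exact quad_case_eq hf hn hH (quad_of_planes hf hq hH.1.le hD hle)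
    refine .inr (.inr (.inl ⟨t, k, D, hk, hk2, ht, decomp_card hD.decomp, fun h => ?_, hD,
      sp_maximal_eq hH hle (isom_not_le_decomp hf hD.decomp hk2)⟩))
    have := Fintype.one_lt_card (α := F)
    have : Fintype.card F ≠ 2 := fun h' => hq ⟨h, h'⟩
    omega
  · exact .inr (.inr (.inr (.inl ⟨hodd, k, D, hk, hD, hts,
      sp_maximal_eq hH hle (isom_not_le_decomp hf hD (by omega))⟩)))
  · exact .inr (.inr (.inr (.inr (.inl ⟨r, K, hr, selfAdj_dvd hf hK hsa halt, hK, hsa, halt,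
      sp_maximal_eq hH hle (isom_not_le_field hf hn hr.two_le hK)⟩))))
  · exact .inr (.inr (.inr (.inr (.inr (.inl ⟨hodd, K, hK, hac, hnsa,
      sp_maximal_eq hH hle (isom_not_le_field hf hn le_rfl hK)⟩)))))
  · exact quad_case_eq hf hn hH hquad
  · refine .inr (.inr (.inr (.inr (.inr (.inr (.inl ⟨hodd, n₁, n₂, e, P, f₁, f₂, h1, ?_, h2, ?_,
      fun h => five_le_of_odd hodd fun h' => h3 ⟨h', h⟩, hf1, hf2, hst,
      sp_maximal_eq hH hle (isom_not_le_tensor hf h1 h2 e P)⟩))))))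
    · exact Nat.not_odd_iff_even.mp fun h => not_symplectic h hf1
    · simpa using (Fintype.card_congr e).symm
  · exact .inr (.inr (.inr (.inr (.inr (.inr (.inr (.inl ⟨F₀, l, P, ζ, hl, hcard, hζ, hrs,
      sp_maximal_eq hH hle (isom_not_le_subfield hf hn0 (subfield_ne_top hl hcard) P)⟩)))))))
  · exact .inr (.inr (.inr (.inr (.inr (.inr (.inr (.inr (.inr hres))))))))
  · exact absurd hrk (hpp r k hr hk)
  · exact absurd hmt (hpw m t hm ht)

end CfsgLib.Classical.AschSp
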