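import Cfsg.Agent.Lib.Classical.AschSp.Centre
import Cfsg.Agent.Lib.Classical.AschPrime.UnitaryDescent

/-!
# Forms fixed by an absolutely irreducible group of symplectic isometries
-/

set_option autoImplicit false
set_option linter.unusedSectionVars false

namespace CfsgLib.Classical.AschSp

open Matrix Cfsg Cfsg.Geo CfsgLib.Classical CfsgLib.Classical.AschPrime CfsgLib.Classical.AschGen
open scoped MatrixGroups

variable {F : Type*} [Field F] [Fintype F] {n : ℕ}
variable {f : (Fin n → F) → (Fin n → F) → F}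

theorem fixed_scalar (hf : IsSymplecticForm f) {S : Subgroup (GL (Fin n) F)}
    (hS : ActsAbsolutelyIrreducibly (matrixSet S)) (hSI : S ≤ isomSubgroup f)
    {f' : (Fin n → F) → (Fin n → F) → F} (hf' : IsBilinearForm f') (hfix : FixesForm (matrixSet S) f') :
    ∃ c : F, ∀ u v, f' u v = c * f u v := by
  obtain ⟨Au, hAu⟩ := gram_unit hf
  set X : Mat n F := ((Au⁻¹ : (Mat n F)ˣ) : Mat n F) * gramMatrix f'
  have hX : ∀ u v, f' u v = f u (X *ᵥ v) := fun u v => by
    rw [(isSesq_of_bilinear hf').apply u v, form_apply hf, Matrix.mulVec_mulVec, ← mul_assoc, ← hAu,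
      Units.mul_inv, one_mul]
    rfl
  clear_value X
  obtain ⟨c, hc⟩ := hS.2 X (by
    rintro _ ⟨s, hs, rfl⟩
    refine Matrix.ext_of_mulVec_single fun i => eq_of_form hf fun u => ?_
    set u' := ((s⁻¹ : GL (Fin n) F) : Mat n F) *ᵥ u with hu'
    have hu : u = (s : Mat n F) *ᵥ u' := by
      simp [hu', Matrix.mulVec_mulVec]
    rw [← Matrix.mulVec_mulVec, ← Matrix.mulVec_mulVec, ← hX, hu, hfix _ (mem_matrixSet hs),
      hSI hs, hX])
  exact ⟨c, fun u v => by rw [hX, hc, Matrix.smul_mulVec, Matrix.one_mulVec, hf.bilinear.smul_right]⟩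

/-- A fixed quadratic form forces characteristic two and is then fixed by the normaliser. -/
theorem quad_of_fixed (hf : IsSymplecticForm f) (hn : 2 ≤ n) {H S : Subgroup (GL (Fin n) F)}
    (hH : H ≤ isomSubgroup f) (hSH : S ≤ H) (hnorm : ∀ h ∈ H, ∀ x ∈ S, h * x * h⁻¹ ∈ S)
    (hS : ActsAbsolutelyIrreducibly (matrixSet S)) {Q : (Fin n → F) → F}
    (hQ : IsNondegenerateQuadraticForm Q) (hfix : FixesQuadForm (matrixSet S) Q) : QuadCase f H := by
  classical
  haveI : NeZero n := ⟨by omega⟩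
  obtain ⟨c, hc⟩ := fixed_scalar hf hS (hSH.trans hH) hQ.polar_bilinear fun s hs u v => by
    simp only [QuadraticMap.polar, ← Matrix.mulVec_add, hfix s hs]
  obtain ⟨⟨x, hx⟩, -⟩ := hQ.nondegenerate (Pi.single 0 1) (by simp)
  have hc0 : c ≠ 0 := fun h => hx (by rw [hc, h, zero_mul])
  have hnodd : ¬ Odd (Fintype.card F) := by
    intro hodd
    have h2 : (2 : F) ≠ 0 := fun h2 => by
      haveI : CharP F 2 := CharTwo.of_one_ne_zero_of_two_eq_zero one_ne_zero h2
      have h := FiniteField.even_card_iff_char_two.mp (ringChar.eq F 2)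
      rcases hodd with ⟨d, hd⟩
      omega
    apply hx
    set v : Fin n → F := Pi.single 0 1
    have h1 : QuadraticMap.polar Q x v = QuadraticMap.polar Q v x := QuadraticMap.polar_comm Q x v
    rw [hc, hc, hf.skew v x] at h1
    have : (2 : F) * (c * f x v) = 0 := by linear_combination h1
    rw [hc]
    exact (mul_eq_zero.mp this).resolve_left h2
  have h2 := two_eq_zero_of_not_odd hnodd
  refine ⟨hnodd, fun v => c⁻¹ * Q v, ?_, ?_, ?_⟩
  · have hp : ∀ u v, QuadraticMap.polar (fun v => c⁻¹ * Q v) u v = f u v := fun u v => by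
      have := hc u v
      simp only [QuadraticMap.polar] at this ⊢
      rw [← mul_sub, ← mul_sub, this, inv_mul_cancel_left₀ hc0]
    refine ⟨fun a v => by simp only [hQ.smul]; ring,
      ⟨fun x y v => by simp only [hp, hf.bilinear.add_left],
       fun a x v => by simp only [hp, hf.bilinear.smul_left],
       fun v x y => by simp only [hp, hf.bilinear.add_right],
       fun a v x => by simp only [hp, hf.bilinear.smul_right]⟩, fun v hv => ?_⟩
    obtain ⟨⟨x, hx⟩, y, hy⟩ := hf.nondegenerate v hv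
    exact ⟨⟨x, by rwa [hp]⟩, y, by rwa [hp]⟩
  · intro u v
    have := hc u v
    simp only [QuadraticMap.polar] at this ⊢
    rw [← mul_sub, ← mul_sub, this, inv_mul_cancel_left₀ hc0]
  · rintro _ ⟨g, hg, rfl⟩
    show ∀ v, c⁻¹ * Q ((g : Mat n F) *ᵥ v) = c⁻¹ * Q v
    have hadd : ∀ u v, Q (u + v) = Q u + Q v + c * f u v := fun u v => by
      rw [← hc, QuadraticMap.polar]; ring
    let W : Submodule F (Fin n → F) :=
      { carrier := {v | Q ((g : Mat n F) *ᵥ v) - Q v = 0}
        add_mem' := fun {a b} (ha : _ = 0) (hb : _ = 0) => show _ = 0 by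
          rw [Matrix.mulVec_add, hadd, hadd, hH hg]
          linear_combination ha + hb
        zero_mem' := show _ = 0 by rw [Matrix.mulVec_zero, sub_self]
        smul_mem' := fun a v (hv : _ = 0) => show _ = 0 by
          rw [Matrix.mulVec_smul, hQ.smul, hQ.smul, ← mul_sub, hv, mul_zero] }
    have hW := irr_iff.mp hS.1 W (by
      rintro _ ⟨s, hs, rfl⟩ v (hv : _ = 0)
      show _ = 0
      have e : (g : Mat n F) *ᵥ ((s : Mat n F) *ᵥ v) =
          ((g * s * g⁻¹ : GL (Fin n) F) : Mat n F) *ᵥ ((g : Mat n F) *ᵥ v) := by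
        simp [Matrix.mulVec_mulVec, mul_assoc]
      rw [e, hfix _ (mem_matrixSet (hnorm g hg s hs)), hfix _ (mem_matrixSet hs)]
      exact hv)
    rcases hW with h | h
    · exfalso
      set d : (Fin n → F) → F := fun v => Q ((g : Mat n F) *ᵥ v) - Q v
      let a : Fin n → F := Pi.single ⟨0, by omega⟩ 1
      let b : Fin n → F := Pi.single ⟨1, by omega⟩ 1
      have hW0 : ∀ v, d v = 0 → v = 0 := fun v hv => (Submodule.mem_bot F).mp (h ▸ (hv : v ∈ W))
      have hda : d a ≠ 0 := fun e => by simpa [a] using congrFun (hW0 a e) ⟨0, by omega⟩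
      haveI : CharP F 2 := CharTwo.of_one_ne_zero_of_two_eq_zero one_ne_zero h2
      obtain ⟨t, ht⟩ := FiniteField.isSquare_of_char_two (ringChar.eq F 2) (d b / d a)
      have hv : d (b + t • a) = 0 := by
        have hsm : d (t • a) = t * t * d a := by
          simp only [d, Matrix.mulVec_smul, hQ.smul]; ring
        have hda' : d (b + t • a) = d b + d (t • a) := by
          simp only [d, Matrix.mulVec_add, hadd, mem_isom.mp (hH hg)]; ring
        rw [hda', hsm, ← ht, div_mul_cancel₀ _ hda]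
        linear_combination (d b) * h2
      have := congrFun (hW0 _ hv) ⟨1, by omega⟩
      simp [a, b] at this
    · intro v
      have hv : Q ((g : Mat n F) *ᵥ v) - Q v = 0 := (show v ∈ W from h ▸ Submodule.mem_top)
      rw [sub_eq_zero.mp hv]

/-- A group rational over a subfield carries the form to it up to a scalar. -/
theorem descend (hf : IsSymplecticForm f) (hn : 0 < n) {H S : Subgroup (GL (Fin n) F)}
    (hSI : S ≤ isomSubgroup f) (hS : ActsAbsolutelyIrreducibly (matrixSet S))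
    (hHS : ∀ h ∈ H, ∀ s ∈ S, h * s * h⁻¹ ∈ S) {F₁ : Subfield F} {B : GL (Fin n) F}
    (hrat : ∀ s ∈ S, RatAt F₁ B s) :
    ∃ ζ : F, ζ ≠ 0 ∧ IsFormRationalStructure f F₁ ζ B⁻¹ ∧ H ≤ subfieldSubgroup F₁ B⁻¹ := by
  classical
  haveI : NeZero n := ⟨hn.ne'⟩
  set P₀ : GL (Fin n) F := B⁻¹ with hP₀
  set M : Mat n F := (P₀ : Mat n F)ᵀ * gramMatrix f * (P₀ : Mat n F) with hM
  have hval : ∀ u v, f ((P₀ : Mat n F) *ᵥ u) ((P₀ : Mat n F) *ᵥ v) = u ⬝ᵥ (M *ᵥ v) := fun u v => by
    rw [hM, form_apply hf, ← Matrix.vecMul_transpose, ← Matrix.dotProduct_mulVec]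
    simp only [Matrix.mulVec_mulVec, mul_assoc]
  obtain ⟨τ, hτ⟩ := exists_frob_fixed F₁
  let f' : (Fin n → F) → (Fin n → F) → F := fun u v =>
    ((B : Mat n F) *ᵥ u) ⬝ᵥ (M.map τ *ᵥ ((B : Mat n F) *ᵥ v))
  have hf' : IsBilinearForm f' :=
    ⟨fun x y v => by simp only [f', Matrix.mulVec_add, add_dotProduct],
     fun a x v => by simp only [f', Matrix.mulVec_smul, smul_dotProduct, smul_eq_mul],
     fun v x y => by simp only [f', Matrix.mulVec_add, dotProduct_add],
     fun a v x => by simp only [f', Matrix.mulVec_smul, dotProduct_smul, smul_eq_mul]⟩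
  obtain ⟨c, hc⟩ := fixed_scalar hf hS hSI hf' (by
    rintro _ ⟨s, hs, rfl⟩ u v
    set A := ((B * s * B⁻¹ : GL (Fin n) F) : Mat n F) with hA
    have hAτ : A.map τ = A := by ext i j; exact (hτ _).mpr (hrat s hs i j)
    have hAB : ∀ w, (B : Mat n F) *ᵥ ((s : Mat n F) *ᵥ w) = A *ᵥ ((B : Mat n F) *ᵥ w) := fun w => by
      simp [hA, Matrix.mulVec_mulVec, mul_assoc]
    have hPA : ∀ w, (P₀ : Mat n F) *ᵥ (A *ᵥ w) = (s : Mat n F) *ᵥ ((P₀ : Mat n F) *ᵥ w) := fun w => by
      simp [hA, hP₀, Matrix.mulVec_mulVec, mul_assoc]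
    have hAM : Aᵀ * M * A = M := by
      refine Matrix.ext fun i j => ?_
      have h := hSI hs ((P₀ : Mat n F) *ᵥ Pi.single i 1) ((P₀ : Mat n F) *ᵥ Pi.single j 1)
      rw [← hPA, ← hPA, hval, hval, ← Matrix.vecMul_transpose, ← Matrix.dotProduct_mulVec] at h
      simp only [Matrix.mulVec_mulVec, ← mul_assoc] at h
      simpa [single_one_dotProduct, Matrix.mulVec_single_one, mul_assoc] using h
    have hAMτ : Aᵀ * M.map τ * A = M.map τ := by
      have h := congrArg (fun X : Mat n F => X.map τ) hAM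
      simp only [Matrix.map_mul, Matrix.transpose_map, hAτ] at h
      exact h
    simp only [f', hAB]
    rw [← Matrix.vecMul_transpose, ← Matrix.dotProduct_mulVec]
    simp only [Matrix.mulVec_mulVec, ← mul_assoc, hAMτ])
  have hτM : ∀ i j, τ (M i j) = c * M i j := by
    intro i j
    have h := hc ((P₀ : Mat n F) *ᵥ Pi.single i 1) ((P₀ : Mat n F) *ᵥ Pi.single j 1)
    rw [hval] at h
    have hPB : ∀ w, (B : Mat n F) *ᵥ ((P₀ : Mat n F) *ᵥ w) = w := fun w => by
      rw [Matrix.mulVec_mulVec, hP₀, Units.mul_inv, Matrix.one_mulVec]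
    simp only [f', hPB] at h
    simpa [single_one_dotProduct, Matrix.mulVec_single_one] using h
  have hMu : IsUnit M := (((Matrix.isUnit_transpose _).mpr P₀.isUnit).mul (gram_unit hf)).mul P₀.isUnit
  obtain ⟨i₀, j₀, hij⟩ : ∃ i j, M i j ≠ 0 := by
    by_contra hno
    push Not at hno
    exact hMu.ne_zero (Matrix.ext hno)
  have hc0 : c ≠ 0 := fun h => hij (by
    have := hτM i₀ j₀
    rw [h, zero_mul, map_eq_zero] at this
    exact this)
  refine ⟨(M i₀ j₀)⁻¹, inv_ne_zero hij, fun u v hu hv => ?_,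
    fun g hg => mem_subfieldSubgroup hn hS hrat (hHS g hg)⟩
  rw [hval]
  have hmem : ∀ i j, (M i₀ j₀)⁻¹ * M i j ∈ F₁ := fun i j => (hτ _).mp (by
    rw [map_mul, map_inv₀, hτM, hτM, mul_inv, mul_mul_mul_comm, inv_mul_cancel₀ hc0, one_mul])
  simp only [dotProduct, Matrix.mulVec, Finset.mul_sum]
  refine sum_mem fun i _ => sum_mem fun j _ => ?_
  have h := F₁.mul_mem (F₁.mul_mem (hu i) (hv j)) (hmem i j)
  convert h using 1
  ring

theorem gram_isometry {σ : F →+* F} {g : (Fin n → F) → (Fin n → F) → F} (hg : IsSesq σ g)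
    {A : Mat n F} (h : ∀ u v, g (A *ᵥ u) (A *ᵥ v) = g u v) :
    Aᵀ * gramMatrix g * A.map σ = gramMatrix g := by
  simpa using (hg.isometry (c := 1)).mp fun u v => by rw [one_mul]; exact h u v

/-- A symplectic group fixing a unitary form is realised over the fixed field. -/
theorem realisable_of_unitary (hf : IsSymplecticForm f) (hn : 0 < n) {S : Subgroup (GL (Fin n) F)}
    (hS : ActsAbsolutelyIrreducibly (matrixSet S)) (hSI : S ≤ isomSubgroup f)
    {σ' : F ≃+* F} {h : (Fin n → F) → (Fin n → F) → F} (hh : IsUnitaryForm σ' h)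
    (hfix : FixesForm (matrixSet S) h) :
    ∃ F₀ : Subfield F, F₀ ≠ ⊤ ∧ RealisableOver F₀ (matrixSet S) := by
  classical
  set σ : F →+* F := σ'.toRingHom with hσdef
  have hc : IsConjugation σ := ⟨hh.involutive, fun e => hh.ne_refl (RingEquiv.ext fun a => RingHom.congr_fun e a)⟩
  have hsh : IsSesq σ h := isSesq_of_unitary hh
  obtain ⟨Au, hAu⟩ : ∃ Au : (Mat n F)ˣ, (Au : Mat n F) = gramMatrix f := gram_unit hf
  obtain ⟨Hu, hHu⟩ : ∃ Hu : (Mat n F)ˣ, (Hu : Mat n F) = gramMatrix h :=
    hsh.isUnit_gram hh.nondegenerate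
  set C₀ : Mat n F := ((Au⁻¹ : (Mat n F)ˣ) : Mat n F) * gramMatrix h with hC₀
  set G₀ : Mat n F := ((Hu⁻¹ : (Mat n F)ˣ) : Mat n F) * gramMatrix f with hG₀
  have hAC : G₀ * C₀ = 1 := by
    rw [hG₀, hC₀, ← hAu, ← hHu, mul_assoc, Units.mul_inv_cancel_left, Units.inv_mul]
  have hCA : C₀ * G₀ = 1 := by
    rw [hG₀, hC₀, ← hAu, ← hHu, mul_assoc, Units.mul_inv_cancel_left, Units.inv_mul]
  have hcomm : ∀ s ∈ S, (s : Mat n F) * C₀ = C₀ * (s : Mat n F).map σ := by
    intro s hs'
    have h1 : (s : Mat n F)ᵀ * gramMatrix f * (s : Mat n F) = gramMatrix f := by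
      simpa using gram_isometry (isSesq_of_bilinear hf.bilinear) (hSI hs')
    have h2 := gram_isometry hsh (hfix _ (mem_matrixSet hs'))
    have hu : IsUnit ((s : Mat n F)ᵀ * gramMatrix f) := by
      rw [← hAu]; exact ((Matrix.isUnit_transpose _).mpr s.isUnit).mul Au.isUnit
    refine hu.mul_right_injective ?_
    show (s : Mat n F)ᵀ * gramMatrix f * ((s : Mat n F) * C₀) =
      (s : Mat n F)ᵀ * gramMatrix f * (C₀ * (s : Mat n F).map σ)
    rw [← mul_assoc, h1, hC₀, ← hAu, Units.mul_inv_cancel_left]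
    simp only [mul_assoc, Units.mul_inv_cancel_left]
    rw [← mul_assoc, h2]
  clear_value C₀ G₀
  have hσσ : ∀ A : Mat n F, (A.map σ).map σ = A := fun A => by ext i j; simp [hc.invol]
  set D := C₀ * C₀.map σ
  obtain ⟨t, ht⟩ := hS.2 D (by
    rintro _ ⟨s, hs', rfl⟩
    have h := congrArg (fun A : Mat n F => A.map σ) (hcomm s hs')
    simp only [Matrix.map_mul, hσσ] at h
    calc D * (s : Mat n F) = C₀ * (C₀.map σ * (s : Mat n F)) := mul_assoc _ _ _
      _ = C₀ * ((s : Mat n F).map σ * C₀.map σ) := by rw [h]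
      _ = (s : Mat n F) * D := by rw [← mul_assoc, ← hcomm s hs', mul_assoc])
  have hDσ : C₀.map σ * C₀ = t • 1 := by
    have e : C₀.map σ * C₀ = G₀ * D * C₀ := by
      rw [show D = C₀ * C₀.map σ from rfl, ← mul_assoc, hAC, one_mul]
    rw [e, ht, Matrix.mul_smul, Matrix.smul_mul, mul_one, hAC]
  let i₀ : Fin n := ⟨0, hn⟩
  have htσ : σ t = t := by
    have h := congrArg (fun A : Mat n F => A.map σ) hDσ
    simp only [Matrix.map_mul, hσσ] at h
    change D = _ at h
    rw [ht] at h
    have := congrFun (congrFun h i₀) i₀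
    simpa using this.symm
  have ht0 : t ≠ 0 := by
    rintro rfl
    rw [zero_smul] at hDσ
    have h := congrArg (fun A => A * G₀) hDσ
    simp only [zero_mul, mul_assoc, hCA, mul_one] at h
    have h1 := congrArg (fun A : Mat n F => A.map σ) h
    simp only [hσσ, Matrix.map_zero _ (map_zero σ)] at h1
    rw [h1, zero_mul] at hCA
    exact zero_ne_one (congrFun (congrFun hCA i₀) i₀ |>.trans (by simp))
  obtain ⟨b, hb⟩ := hc.exists_norm_eq (a := t⁻¹) (by rw [map_inv₀, htσ])
  set C := b • C₀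
  have hCC : C * C.map σ = 1 := by
    have : C.map σ = σ b • C₀.map σ := by ext i j; simp [C]
    rw [this, Matrix.smul_mul, Matrix.mul_smul, smul_smul, show C₀ * C₀.map σ = D from rfl, ht,
      smul_smul, hb, inv_mul_cancel₀ ht0, one_smul]
  have hCs : ∀ s ∈ S, (s : Mat n F) * C = C * (s : Mat n F).map σ := fun s hs' => by
    rw [Matrix.mul_smul, Matrix.smul_mul, hcomm s hs']
  -- the fixed vectors of `v ↦ C σ(v)` span
  let J : (Fin n → F) → (Fin n → F) := fun v => C *ᵥ (σ ∘ v)
  have hJJ : ∀ v, J (J v) = v := fun v => by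
    have e : σ ∘ (C *ᵥ (σ ∘ v)) = C.map σ *ᵥ (σ ∘ σ ∘ v) := by
      funext i; exact RingHom.map_mulVec σ C _ i
    have e2 : σ ∘ σ ∘ v = v := funext fun i => hc.invol _
    simp only [J, e, e2, Matrix.mulVec_mulVec, hCC, Matrix.one_mulVec]
  have hJadd : ∀ v w, J (v + w) = J v + J w := fun v w => by
    simp only [J]
    rw [← Matrix.mulVec_add]; congr 1; funext i; simp
  have hJsmul : ∀ (c : F) v, J (c • v) = σ c • J v := fun c v => by
    simp only [J]
    rw [← Matrix.mulVec_smul]; congr 1; funext i; simp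
  set E : Set (Fin n → F) := {v | J v = v}
  have hspan : Submodule.span F E = ⊤ := by
    refine eq_top_iff.mpr fun v _ => ?_
    obtain ⟨a, ha⟩ := hc.exists_not_fixed
    have h1 : v + J v ∈ Submodule.span F E :=
      Submodule.subset_span (show J (v + J v) = v + J v by rw [hJadd, hJJ, add_comm])
    have h2 : a • v + J (a • v) ∈ Submodule.span F E :=
      Submodule.subset_span (show J _ = _ by rw [hJadd, hJJ, add_comm])
    have h3 := Submodule.sub_mem _ h2 (Submodule.smul_mem _ (σ a) h1)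
    rw [hJsmul, smul_add, add_sub_add_right_eq_sub, ← sub_smul] at h3
    have := Submodule.smul_mem _ (a - σ a)⁻¹ h3
    rwa [smul_smul, inv_mul_cancel₀ (sub_ne_zero.mpr (Ne.symm ha)), one_smul] at this
  obtain ⟨Bs, hBE, hBspan, hBli⟩ := exists_linearIndependent F E
  haveI : Fintype Bs := (hBli.setFinite).fintype
  let b0 : Module.Basis Bs F (Fin n → F) := Module.Basis.mk hBli (by
    rw [Subtype.range_coe, hBspan, hspan])
  have hBcard : Fintype.card Bs = n := by
    have := Module.finrank_eq_card_basis b0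
    rw [Module.finrank_fintype_fun_eq_card, Fintype.card_fin] at this
    exact this.symm
  let col : Fin n → (Fin n → F) := fun i => ((Fintype.equivFinOfCardEq hBcard).symm i).1
  have hcol : LinearIndependent F col :=
    hBli.comp _ (Fintype.equivFinOfCardEq hBcard).symm.injective
  let P : Mat n F := Matrix.of fun i j => col j i
  obtain ⟨Pu, hPu⟩ : IsUnit P := by
    rw [← Matrix.linearIndependent_cols_iff_isUnit]; exact hcol
  have hCP : C * P.map σ = P := by
    ext i j
    exact congrFun (show J (col j) = col j from hBE ((Fintype.equivFinOfCardEq hBcard).symm j).2) i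
  refine ⟨RingHom.eqLocusField σ (RingHom.id F), fun htop => ?_,
    realisableOver_iff.mpr ⟨Pu⁻¹, fun s hs' i j => ?_⟩⟩
  · obtain ⟨a, ha⟩ := hc.exists_not_fixed
    have h : a ∈ RingHom.eqLocusField σ (RingHom.id F) := htop ▸ Subfield.mem_top a
    exact ha h
  · change σ _ = _
    set X := ((Pu⁻¹ * s * Pu⁻¹⁻¹ : GL (Fin n) F) : Mat n F) with hX
    suffices h : X.map σ = X from congrFun (congrFun h i) j
    have hP1 : P * X = (s : Mat n F) * P := by
      rw [hX, inv_inv, Units.val_mul, Units.val_mul, ← hPu, mul_assoc, Units.mul_inv_cancel_left]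
    refine Pu.isUnit.mul_right_injective ?_
    change (Pu : Mat n F) * _ = (Pu : Mat n F) * _
    rw [hPu]
    calc P * X.map σ = C * P.map σ * X.map σ := by rw [hCP]
      _ = C * (P * X).map σ := by rw [Matrix.map_mul, mul_assoc]
      _ = (s : Mat n F) * (C * P.map σ) := by
        rw [hP1, Matrix.map_mul, ← mul_assoc, ← hCs s hs', mul_assoc]
      _ = P * X := by rw [hCP, hP1]


end CfsgLib.Classical.AschSp
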