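import Cfsg.Agent.Lib.Classical.AschSp.Tensor
import Cfsg.Agent.Lib.Classical.AschSp.Simple
import Cfsg.Agent.Lib.Classical.AschGen.Linear

/-!
# Where a subgroup of a symplectic group can lie
-/

set_option autoImplicit false
set_option linter.unusedSectionVars false

namespace CfsgLib.Classical.AschSp

open Matrix Cfsg Cfsg.Geo CfsgLib.Classical.AschPrime CfsgLib.Classical.AschGen
open scoped MatrixGroups commutatorElement

variable {F : Type*} [Field F] [Fintype F] {n : ℕ}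
variable {f : (Fin n → F) → (Fin n → F) → F}

/-- Contained in a subfield group compatible with the form. -/
def SubfieldCase (f : (Fin n → F) → (Fin n → F) → F) (H : Subgroup (GL (Fin n) F)) : Prop :=
  ∃ (F₀ : Subfield F) (l : ℕ) (P : GL (Fin n) F) (ζ : F), l.Prime ∧
    Fintype.card F = Nat.card F₀ ^ l ∧ ζ ≠ 0 ∧ IsFormRationalStructure f F₀ ζ P ∧
    H ≤ subfieldSubgroup F₀ P

/-- Where a subgroup of the isometry group of an alternating form can lie. -/
def SpOutcome (f : (Fin n → F) → (Fin n → F) → F) (H : Subgroup (GL (Fin n) F)) : Prop :=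
  (∃ W : Submodule F (Fin n → F), W ≠ ⊥ ∧ IsTotallySingularFor f W ∧ H ≤ subspaceStabilizer W) ∨
  (∃ W : Submodule F (Fin n → F), W ≠ ⊥ ∧ IsNondegenerateOn f W ∧ 2 * Module.finrank F W < n ∧
      H ≤ subspaceStabilizer W) ∨
  CentreCases f H ∨
  TensorCase f H ∨
  SubfieldCase f H ∨
  InSymplecticResidualClass H ∨
  (∃ r k : ℕ, r.Prime ∧ 1 ≤ k ∧ n = r ^ k) ∨
  (∃ m t : ℕ, 2 ≤ m ∧ 2 ≤ t ∧ m ^ t = n)

/-- The classes which do not depend on the arithmetic of the degree. -/
def SpCore (f : (Fin n → F) → (Fin n → F) → F) (H : Subgroup (GL (Fin n) F)) : Prop :=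
  (∃ W : Submodule F (Fin n → F), W ≠ ⊥ ∧ IsTotallySingularFor f W ∧ H ≤ subspaceStabilizer W) ∨
  (∃ W : Submodule F (Fin n → F), W ≠ ⊥ ∧ IsNondegenerateOn f W ∧ 2 * Module.finrank F W < n ∧
      H ≤ subspaceStabilizer W) ∨
  CentreCases f H ∨
  TensorCase f H ∨
  SubfieldCase f H ∨
  InSymplecticResidualClass H

theorem SpCore.outcome {H : Subgroup (GL (Fin n) F)} (h : SpCore f H) : SpOutcome f H := by
  rcases h with h | h | h | h | h | h
  · exact .inl h
  · exact .inr (.inl h)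
  · exact .inr (.inr (.inl h))
  · exact .inr (.inr (.inr (.inl h)))
  · exact .inr (.inr (.inr (.inr (.inl h))))
  · exact .inr (.inr (.inr (.inr (.inr (.inl h)))))

/-- An invariant subspace. -/
theorem reducible_outcome (hf : IsSymplecticForm f) {H : Subgroup (GL (Fin n) F)}
    (hH : H ≤ isomSubgroup f) {W : Submodule F (Fin n → F)}
    (hW : ∀ g ∈ H, ∀ v ∈ W, (g : Mat n F) *ᵥ v ∈ W) (h0 : W ≠ ⊥) (h1 : W ≠ ⊤) :
    SpCore f H := by
  classical
  have hP := fperp_invariant hf hH hW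
  by_cases hR : W ⊓ fperp hf W = ⊥
  swap
  · refine .inl ⟨_, hR, fun u hu v hv => (mem_fperp hf).mp hv.2 u hu.1,
      le_subspaceStabilizer fun g hg v hv => ⟨hW g hg v hv.1, hP g hg v hv.2⟩⟩
  have hnd : IsNondegenerateOn f W := by
    intro w hw hw0
    obtain ⟨x, hx, hxw⟩ : ∃ x ∈ W, f x w ≠ 0 := by
      by_contra hall
      push Not at hall
      exact hw0 (by rw [← Submodule.mem_bot F, ← hR]; exact ⟨hw, (mem_fperp hf).mpr hall⟩)
    exact ⟨⟨x, hx, hxw⟩, x, hx, by rw [hf.skew]; exact neg_ne_zero.mpr hxw⟩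
  have hsum := finrank_add_fperp hf hnd
  have hpos : 0 < Module.finrank F W :=
    Nat.pos_of_ne_zero fun h => h0 (Submodule.finrank_eq_zero.mp h)
  have hlt : Module.finrank F W < n := by
    have := Submodule.finrank_lt h1
    rwa [Module.finrank_fintype_fun_eq_card, Fintype.card_fin] at this
  rcases lt_trichotomy (2 * Module.finrank F W) n with h | h | h
  · exact .inr (.inl ⟨W, h0, hnd, h, le_subspaceStabilizer hW⟩)
  · refine .inr (.inr (.inl (.inl ⟨2, Module.finrank F W, ![W, fperp hf W], ⟨⟨le_rfl, hpos,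
      Fin.forall_fin_two.mpr ⟨rfl, ?_⟩, ?_, ?_⟩, Fin.forall_fin_two.mpr ⟨hnd, nondeg_fperp hf hnd⟩,
      ?_⟩, fun g hg => ⟨1, ?_⟩⟩)))
    · show Module.finrank F (fperp hf W) = _
      omega
    · rw [iSupIndep_pair (i := (0 : Fin 2)) (j := 1) (by decide) (fun k => by fin_cases k <;> simp)]
      exact (isCompl_fperp hf hnd).disjoint
    · rw [eq_top_iff, ← (isCompl_fperp hf hnd).sup_eq_top]
      exact sup_le (le_iSup ![W, fperp hf W] 0) (le_iSup ![W, fperp hf W] 1)
    · intro i j hij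
      fin_cases i <;> fin_cases j
      · exact absurd rfl hij
      · exact fun u hu v hv => (mem_fperp hf).mp hv u hu
      · exact fun u hu v hv => by rw [hf.skew, (mem_fperp hf).mp hu v hv, neg_zero]
      · exact absurd rfl hij
    · have key : ∀ U : Submodule F (Fin n → F), (∀ g ∈ H, ∀ v ∈ U, (g : Mat n F) *ᵥ v ∈ U) →
          U.map (Matrix.toLin' (g : Mat n F)) = U := fun U hU => by
        refine le_antisymm (Submodule.map_le_iff_le_comap.mpr fun v hv => ?_) fun v hv => ?_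
        · rw [Submodule.mem_comap, Matrix.toLin'_apply]; exact hU g hg v hv
        · refine ⟨_, hU g⁻¹ (H.inv_mem hg) v hv, ?_⟩
          rw [Matrix.toLin'_apply, Matrix.mulVec_mulVec, Units.mul_inv, Matrix.one_mulVec]
      exact Fin.forall_fin_two.mpr ⟨key W hW, key _ hP⟩
  · refine .inr (.inl ⟨fperp hf W, fun he => ?_, nondeg_fperp hf hnd, by omega,
      le_subspaceStabilizer hP⟩)
    rw [he, finrank_bot] at hsum
    omega

/-- A normal subgroup which does not span. -/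
theorem not_full_outcome (hf : IsSymplecticForm f) (hn : 0 < n) {H N : Subgroup (GL (Fin n) F)}
    (hH : H ≤ isomSubgroup f) (hirr : ActsIrreducibly (matrixSet H)) (hNH : N ≤ H)
    (hnorm : ∀ h ∈ H, ∀ x ∈ N, h * x * h⁻¹ ∈ N)
    (hN0 : ¬ N ≤ scalars (Fin n) F) (hfull : algOf N ≠ ⊤) : SpCore f H := by
  classical
  have hA := algOf_normalised hnorm
  have hadjA : ∀ x ∈ algOf N, adj f x ∈ algOf N := fun x hx => adj_algOf hf (hNH.trans hH) hx
  by_cases hsc : ∃ z ∈ centre (algOf N), ∀ c : F, z ≠ c • 1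
  · exact .inr (.inr (.inl (centre_cases hf hn hH hirr hA hadjA hsc)))
  push Not at hsc
  haveI := isSemisimple hirr hA
  obtain ⟨m, Φ, hm, hinj, hrange⟩ := exists_matrixHom hn fun z hz hzc =>
    hsc z (mem_centre.mpr ⟨hz, fun a ha => (hzc a ha).symm⟩)
  haveI : NeZero m := ⟨hm.ne'⟩
  obtain ⟨k, e, P, hP⟩ := exists_std Φ
  have hcard : m * k = n := by
    have := Fintype.card_congr e
    rw [Fintype.card_prod, Fintype.card_fin, Fintype.card_fin, Fintype.card_fin] at this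
    exact this.symm
  have hm1 : m ≠ 1 := by
    rintro rfl
    refine hN0 fun x hx => ?_
    obtain ⟨X, hX⟩ : (x : Mat n F) ∈ Φ.range := hrange ▸ mem_algOf hx
    have hX1 : X = X 0 0 • (1 : Mat 1 F) := by
      ext i j
      obtain rfl : i = 0 := Subsingleton.elim _ _
      obtain rfl : j = 0 := Subsingleton.elim _ _
      simp
    refine mem_scalars_of_eq hn (c := X 0 0) ?_
    rw [← hX]
    show Φ X = _
    conv_lhs => rw [hX1, map_smul, map_one]
  have hk1 : k ≠ 1 := by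
    intro hk
    apply hfull
    rw [← hrange, AlgHom.range_eq_top]
    refine (LinearMap.injective_iff_surjective_of_finrank_eq_finrank (f := Φ.toLinearMap) ?_).mp hinj
    rw [Module.finrank_matrix, Module.finrank_matrix, Fintype.card_fin, Fintype.card_fin, ← hcard,
      hk, mul_one]
  have hk0 : 0 < k := k_pos (e := e) hn
  have hl : ∀ X, leftHom e P X = Φ X := fun X => by
    rw [hP, leftHom_apply, pull_apply]
    rfl
  have hle : H ≤ tensorProductSubgroup m k e P := fun h hh => mem_tensor hm hn hP fun X => by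
    have hmem : conjHom h (Φ X) ∈ algOf N := hA h hh _ (hrange ▸ ⟨X, rfl⟩)
    obtain ⟨Y, hY⟩ : conjHom h (Φ X) ∈ Φ.range := hrange ▸ hmem
    exact ⟨Y, hY.symm⟩
  have hadj : ∀ X : Mat m F, ∃ Y : Mat m F, adj f (leftHom e P X) = leftHom e P Y := fun X => by
    obtain ⟨Y, hY⟩ : adj f (Φ X) ∈ Φ.range := hrange ▸ hadjA _ (hrange ▸ ⟨X, rfl⟩)
    exact ⟨Y, by rw [hl, hl]; exact hY.symm⟩
  rcases tensor_cases hf hn hH hirr (by omega) (by omega) e P hadj hle with h | h
  · exact .inr (.inr (.inr (.inl h)))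
  · exact .inr (.inr (.inl h))

/-- A minimal normal subgroup that is simple modulo the scalars. -/
theorem simple_case (hf : IsSymplecticForm f) (hn : 3 ≤ n) {H M : Subgroup (GL (Fin n) F)}
    (hH : H ≤ isomSubgroup f) (hall : AllFull H)
    (hM : M ≤ H) (hMn : ∀ h ∈ H, ∀ x ∈ M, h * x * h⁻¹ ∈ M) (hM0 : ¬ M ≤ scalars (Fin n) F)
    (hperf : ⁅M, M⁆ = M)
    (hsimple : ∀ L ≤ M, (∀ g ∈ M, ∀ x ∈ L, g * x * g⁻¹ ∈ L) → ¬ L ≤ scalars (Fin n) F → L = M) :
    SpCore f H := by
  classical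
  have hn0 : 0 < n := by omega
  have hfull := hall M hM hMn hM0
  have habs := full_absIrred hn0 hfull
  have hMI : M ≤ isomSubgroup f := hM.trans hH
  by_cases hsub : ∃ F₀ : Subfield F, F₀ ≠ ⊤ ∧ RealisableOver F₀ (matrixSet M)
  · obtain ⟨F₀, hF₀, hreal⟩ := hsub
    obtain ⟨B, hB⟩ := realisableOver_iff.mp hreal
    obtain ⟨F₁, l, hle, -, hl, hcard⟩ := exists_prime_index _ hF₀
    obtain ⟨ζ, hζ, hrs, hHle⟩ := descend hf hn0 hMI habs hMn fun s hs => (hB s hs).mono hle
    exact .inr (.inr (.inr (.inr (.inl ⟨F₁, l, B⁻¹, ζ, hl, hcard, hζ, hrs, hHle⟩))))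
  by_cases hquad : ∃ Q : (Fin n → F) → F,
      IsNondegenerateQuadraticForm Q ∧ FixesQuadForm (matrixSet M) Q
  · obtain ⟨Q, hQ, hfix⟩ := hquad
    exact .inr (.inr (.inl (.inr (.inr (.inr (.inr
      (quad_of_fixed hf (by omega) hH hM hMn habs hQ hfix)))))))
  have hsimp : IsSimpleGroup (M ⧸ (scalars (Fin n) F).subgroupOf M) := by
    haveI : Nontrivial (M ⧸ (scalars (Fin n) F).subgroupOf M) := by
      rw [QuotientGroup.nontrivial_iff]
      exact fun e => hM0 (Subgroup.subgroupOf_eq_top.mp e)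
    refine ⟨fun L hL => ?_⟩
    set π := QuotientGroup.mk' ((scalars (Fin n) F).subgroupOf M)
    let L' := (L.comap π).map M.subtype
    have hL'n : ∀ g ∈ M, ∀ x ∈ L', g * x * g⁻¹ ∈ L' := by
      intro g hg y hy
      obtain ⟨x, hx, hxy⟩ := Subgroup.mem_map.mp hy
      let gM : M := ⟨g, hg⟩
      refine Subgroup.mem_map.mpr ⟨gM * x * gM⁻¹, ?_, ?_⟩
      · exact (Subgroup.Normal.comap hL π).conj_mem x hx gM
      · rw [map_mul, map_mul, map_inv, hxy]; rfl
    by_cases hsc : L' ≤ scalars (Fin n) F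
    · left
      rw [Subgroup.eq_bot_iff_forall]
      intro z hz
      obtain ⟨x, rfl⟩ := QuotientGroup.mk'_surjective _ z
      exact (QuotientGroup.eq_one_iff x).mpr (hsc ⟨x, hz, rfl⟩)
    · right
      have e := hsimple L' (Subgroup.map_subtype_le _) hL'n hsc
      refine eq_top_iff.mpr fun z _ => ?_
      obtain ⟨x, rfl⟩ := QuotientGroup.mk'_surjective _ z
      obtain ⟨y, hy, hyx⟩ := (e.symm ▸ x.2 : x.1 ∈ L')
      rw [show x = y from Subtype.ext hyx.symm]
      exact hy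
  have hnab : ¬ IsMulCommutative (M ⧸ (scalars (Fin n) F).subgroupOf M) := by
    intro hab
    refine hM0 ?_
    rw [← hperf]
    refine Subgroup.commutator_le.mpr fun a ha b hb => ?_
    have := hab.is_comm.comm ((⟨a, ha⟩ : M) : M ⧸ (scalars (Fin n) F).subgroupOf M)
      ((⟨b, hb⟩ : M) : M ⧸ (scalars (Fin n) F).subgroupOf M)
    rw [← QuotientGroup.mk_mul, ← QuotientGroup.mk_mul, eq_comm, QuotientGroup.eq,
      Subgroup.mem_subgroupOf] at this
    have := scalars_normal.conj_mem _ this (b * a)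
    simpa [commutatorElement_def, mul_assoc] using this
  have hcent : ∀ h ∈ H, (∀ x ∈ M, h * x * h⁻¹ * x⁻¹ ∈ scalars (Fin n) F) →
      h ∈ scalars (Fin n) F := by
    intro h _ hx
    obtain ⟨c, hc⟩ := habs.2 h (by
      rintro _ ⟨x, hxM, rfl⟩
      exact congrArg Units.val (commute_commutator hx x (hperf.symm ▸ hxM)))
    exact mem_scalars_of_eq hn0 hc
  refine .inr (.inr (.inr (.inr (.inr ⟨M,
    ⟨hM, hMn, hperf, hsimp, hnab, hcent, habs, fun F₀ h h' => hsub ⟨F₀, h, h'⟩⟩, hquad, ?_⟩))))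
  rintro ⟨σ, h, hh, hfix⟩
  exact hsub (realisable_of_unitary hf hn0 habs hMI hh hfix)

/-- Aschbacher's theorem for subgroups of a finite symplectic group. -/
theorem sp_outcome (hf : IsSymplecticForm f) (hn : 3 ≤ n) {H : Subgroup (GL (Fin n) F)}
    (hH : H ≤ isomSubgroup f) : SpOutcome f H := by
  classical
  have hn0 : 0 < n := by omega
  by_cases hirr : ActsIrreducibly (matrixSet H)
  swap
  · rw [irr_iff] at hirr
    push Not at hirr
    obtain ⟨W, hW, h0, h1⟩ := hirr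
    exact (reducible_outcome hf hH (fun h hh v hv => hW _ (mem_matrixSet hh) v hv) h0 h1).outcome
  by_cases hall : AllFull H
  swap
  · simp only [AllFull, not_forall] at hall
    obtain ⟨N, hN, hnorm, hN0, hfull⟩ := hall
    exact (not_full_outcome hf hn0 hH hirr hN hnorm hN0 hfull).outcome
  have hH0 : ¬ H ≤ scalars (Fin n) F := by
    intro hle
    let v : Fin n → F := Pi.single ⟨0, hn0⟩ 1
    rcases irr_iff.mp hirr (F ∙ v) (by
      rintro _ ⟨x, hx, rfl⟩ w hw
      obtain ⟨c, hc⟩ := (mem_scalars_iff x).mp (hle hx)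
      show (x : Mat n F) *ᵥ w ∈ _
      rw [hc, Matrix.smul_mulVec, Matrix.one_mulVec]
      exact Submodule.smul_mem _ _ hw) with h | h
    · have := congrFun (Submodule.span_singleton_eq_bot.mp h) ⟨0, hn0⟩
      simp [v] at this
    · have hmem : (Pi.single ⟨1, by omega⟩ 1 : Fin n → F) ∈ F ∙ v := h ▸ Submodule.mem_top
      obtain ⟨c, hc⟩ := Submodule.mem_span_singleton.mp hmem
      have := congrFun hc ⟨1, by omega⟩
      simp [v] at this
  have hex : ∃ d, ∃ L ≤ H, (∀ h ∈ H, ∀ x ∈ L, h * x * h⁻¹ ∈ L) ∧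
      ¬ L ≤ scalars (Fin n) F ∧ Nat.card L = d :=
    ⟨_, H, le_rfl, fun h hh x hx => H.mul_mem (H.mul_mem hh hx) (H.inv_mem hh), hH0, rfl⟩
  obtain ⟨M, hM, hMn, hM0, hMd⟩ := Nat.find_spec hex
  have hmin : ∀ L ≤ M, (∀ h ∈ H, ∀ x ∈ L, h * x * h⁻¹ ∈ L) → ¬ L ≤ scalars (Fin n) F → L = M :=
    fun L h1 h2 h3 => Subgroup.eq_of_le_of_card_ge h1
      (hMd ▸ Nat.find_min' hex ⟨L, h1.trans hM, h2, h3, rfl⟩)
  by_cases hMM : ⁅M, M⁆ ≤ scalars (Fin n) F
  · obtain ⟨r, R, hR, -, -⟩ := exists_symType (by omega) hall hM hMn hM0 hmin hMM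
    obtain ⟨m, hm, hnm⟩ := hR.exists_dim (by omega)
    exact .inr (.inr (.inr (.inr (.inr (.inr (.inl ⟨r, m, hR.prime, hm, hnm⟩))))))
  have hperf : ⁅M, M⁆ = M :=
    hmin _ (Subgroup.commutator_le_self M) (fun h hh => conj_commutator_mem (hMn h hh)) hMM
  rcases tensor_power hn0 hall hM hMn hM0 hmin hperf with hsimple | ⟨m, t, e, P, hm, ht, hle⟩
  · exact (simple_case hf hn hH hall hM hMn hM0 hperf hsimple).outcome
  · refine .inr (.inr (.inr (.inr (.inr (.inr (.inr ⟨m, t, hm, ht, ?_⟩))))))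
    simpa using (Fintype.card_congr e).symm

end CfsgLib.Classical.AschSp
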