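import Cfsg.Agent.Lib.Classical.AschSp.FieldThree
import Cfsg.Agent.Lib.Classical.AschSp.Classes

/-!
# Degree four over three elements: the classes that are not maximal
-/

set_option autoImplicit false
set_option linter.unusedSectionVars false

namespace CfsgLib.Classical.AschSp

open Matrix Cfsg Cfsg.Geo CfsgLib.Classical.AschPrime CfsgLib.Classical.AschGen
open CfsgLib.Classical.OrthPrime (coord mulVec_coord mulVec_coord_symm)
open scoped MatrixGroups

variable {ι : Type} [Fintype ι] [DecidableEq ι] {F : Type*} [Field F] [Fintype F]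
variable {f : (ι → F) → (ι → F) → F}

theorem isMDecomp_pair {m : ℕ} (hm : 0 < m) {A B : Submodule F (ι → F)} (hA : Module.finrank F A = m)
    (hB : Module.finrank F B = m) (hd : A ⊓ B = ⊥) (hs : A ⊔ B = ⊤) :
    IsMDecomposition m ![A, B] where
  two_le := le_rfl
  pos := hm
  finrank_eq i := by fin_cases i <;> assumption
  indep := by
    refine (iSupIndep_pair (i := (0 : Fin 2)) (j := 1) (by decide) (fun k => by omega)).mpr ?_
    exact disjoint_iff.mpr hd
  iSup_eq_top := by
    refine eq_top_iff.mpr (hs.symm.le.trans (sup_le ?_ ?_))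
    · exact le_iSup ![A, B] 0
    · exact le_iSup ![A, B] 1

/-- Over three elements, two totally singular planes give two orthogonal non-degenerate planes. -/
theorem nd_of_ts_pair (hf : IsSymplecticForm f) (hq : Fintype.card F = 3)
    {D : Fin 2 → Submodule F (ι → F)} (hD : IsMDecomposition 2 D)
    (hts : ∀ i, IsTotallySingularFor f (D i)) {H : Subgroup (GL ι F)} (hH : H ≤ isomI f)
    (hle : H ≤ decompositionStabilizer D) :
    ∃ D' : Fin 2 → Submodule F (ι → F), IsNondegenerateMDecomposition f 2 D' ∧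
      H ≤ decompositionStabilizer D' := by
  classical
  have h3 := three_eq_zero hq
  have h2 : (2 : F) ≠ 0 := fun h => one_ne_zero (α := F) (by linear_combination h3 - h)
  let B : (ι → F) →ₗ[F] (ι → F) →ₗ[F] F :=
    LinearMap.mk₂ F f hf.bilinear.add_left hf.bilinear.smul_left hf.bilinear.add_right
      hf.bilinear.smul_right
  have hB : ∀ u v, B u v = f u v := fun _ _ => rfl
  have htop : D 0 ⊔ D 1 = ⊤ := by
    rw [eq_top_iff, ← hD.iSup_eq_top]
    exact iSup_le fun i => by fin_cases i; exacts [le_sup_left, le_sup_right]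
  have hdis : Disjoint (D 0) (D 1) :=
    (iSupIndep_pair (i := (0 : Fin 2)) (j := 1) (by decide) (fun k => by omega)).mp hD.indep
  have hsplit : ∀ x, ∃ a ∈ D 0, ∃ b ∈ D 1, a + b = x := fun x =>
    Submodule.mem_sup.mp (htop ▸ Submodule.mem_top)
  let U := D 0
  let U' := D 1
  haveI : Module.Free F U := Module.Free.of_divisionRing F U
  let b : Module.Basis (Fin 2) F U := Module.finBasisOfFinrankEq F U (hD.finrank_eq 0)
  -- the pairing
  let Ψ : U' →ₗ[F] (Fin 2 → F) :=
    LinearMap.pi fun i => (B (b i : ι → F)).comp U'.subtype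
  have hpair : ∀ (u' : U') (u : U), f u u' = ∑ i, b.repr u i * Ψ u' i := fun u' u => by
    conv_lhs => rw [← b.sum_repr u, AddSubmonoidClass.coe_finset_sum, ← hB, map_sum, LinearMap.sum_apply]
    refine Finset.sum_congr rfl fun i _ => ?_
    rw [Submodule.coe_smul, map_smul, LinearMap.smul_apply, smul_eq_mul]
    rfl
  have hΨi : Function.Injective Ψ := by
    refine (injective_iff_map_eq_zero Ψ).mpr fun u' h0 => ?_
    by_contra hne
    obtain ⟨⟨x, hx⟩, -⟩ := hf.nondegenerate (u' : ι → F) (fun e => hne (Subtype.ext e))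
    obtain ⟨a, ha, c, hc, rfl⟩ := hsplit x
    refine hx ?_
    rw [hf.bilinear.add_left, hts 1 c hc u' u'.2, add_zero, hpair u' ⟨a, ha⟩, h0]
    simp
  have hΨb : Function.Bijective Ψ := ⟨hΨi, (LinearMap.injective_iff_surjective_of_finrank_eq_finrank
    (by rw [hD.finrank_eq 1, Module.finrank_fintype_fun_eq_card, Fintype.card_fin])).mp hΨi⟩
  let rot : (Fin 2 → F) →ₗ[F] (Fin 2 → F) :=
    LinearMap.pi ![LinearMap.proj 1, -LinearMap.proj 0]
  let φ : U →ₗ[F] U' :=
    ((LinearEquiv.ofBijective Ψ hΨb).symm : (Fin 2 → F) →ₗ[F] U') ∘ₗ rot ∘ₗ (b.equivFun : U →ₗ[F] _)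
  let ω : U → U → F := fun u v => b.repr u 0 * b.repr v 1 - b.repr u 1 * b.repr v 0
  have hφ : ∀ u v : U, f u (φ v) = ω u v := fun u v => by
    rw [hpair]
    have : Ψ (φ v) = rot (b.equivFun v) := (LinearEquiv.ofBijective Ψ hΨb).apply_symm_apply _
    rw [this, Fin.sum_univ_two]
    simp [rot, ω, Module.Basis.equivFun_apply]
    ring
  have hφi : Function.Injective φ := by
    intro u v h
    have e : ∀ w, ω w u = ω w v := fun w => by rw [← hφ, ← hφ, h]
    have e0 := e (b 0)
    have e1 := e (b 1)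
    simp [ω, Module.Basis.repr_self] at e0 e1
    refine b.repr.injective (Finsupp.ext fun i => ?_)
    fin_cases i
    · exact e1
    · exact e0
  have hφs : Function.Surjective φ := (LinearMap.injective_iff_surjective_of_finrank_eq_finrank
    ((hD.finrank_eq 0).trans (hD.finrank_eq 1).symm)).mp hφi
  -- the new planes
  let T : F → U →ₗ[F] (ι → F) := fun s => U.subtype + s • (U'.subtype ∘ₗ φ)
  have hT : ∀ (s : F) (u : U), T s u = (u : ι → F) + s • ((φ u : U') : ι → F) := fun s u => rfl
  have hTi : ∀ s, Function.Injective (T s) := fun s => (injective_iff_map_eq_zero _).mpr fun u hu => by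
    rw [hT] at hu
    have h1 : (u : ι → F) ∈ U' := by
      rw [eq_neg_of_add_eq_zero_left hu]
      exact U'.neg_mem (U'.smul_mem _ (φ u).2)
    exact Subtype.ext (Submodule.disjoint_def.mp hdis _ u.2 h1)
  have hfT : ∀ (s s' : F) (u v : U), f (T s u) (T s' v) = (s + s') * ω u v := fun s s' u v => by
    have e : f ((φ u : U') : ι → F) v = ω u v := by
      rw [hf.skew, hφ]; simp only [ω]; ring
    rw [hT, hT, hf.bilinear.add_left, hf.bilinear.add_right, hf.bilinear.add_right,
      hf.bilinear.smul_left, hf.bilinear.smul_left, hf.bilinear.smul_right, hf.bilinear.smul_right,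
      hts 0 u u.2 v v.2, hts 1 _ (φ u).2 _ (φ v).2, hφ, e]
    ring
  let E : Fin 2 → Submodule F (ι → F) := ![LinearMap.range (T 1), LinearMap.range (T (-1))]
  have hdec : IsMDecomposition 2 E := by
    refine isMDecomp_pair (by norm_num) ?_ ?_ ?_ ?_
    · rw [LinearMap.finrank_range_of_inj (hTi 1)]; exact hD.finrank_eq 0
    · rw [LinearMap.finrank_range_of_inj (hTi (-1))]; exact hD.finrank_eq 0
    · rw [eq_bot_iff]
      rintro x ⟨⟨u, rfl⟩, v, hv⟩
      rw [hT, hT, one_smul, neg_one_smul] at hv
      have h1 : (v : ι → F) - u = (φ u : ι → F) + (φ v : ι → F) := by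
        linear_combination (norm := abel) hv
      have h1' : (v : ι → F) - u ∈ U' := h1 ▸ U'.add_mem (φ u).2 (φ v).2
      obtain rfl : v = u := Subtype.ext (sub_eq_zero.mp
        (Submodule.disjoint_def.mp hdis _ (U.sub_mem v.2 u.2) h1'))
      rw [sub_self, eq_comm, ← two_smul F] at h1
      have h4 : φ v = 0 := Subtype.ext ((smul_eq_zero.mp h1).resolve_left h2)
      rw [Submodule.mem_bot, (map_eq_zero_iff φ hφi).mp h4, map_zero]
    · refine eq_top_iff.mpr fun x _ => ?_
      obtain ⟨a, ha, c, hc, rfl⟩ := hsplit x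
      obtain ⟨w, hw⟩ := hφs ⟨c, hc⟩
      refine Submodule.mem_sup.mpr ⟨_, ⟨(2 : F)⁻¹ • (⟨a, ha⟩ + w), rfl⟩, _,
        ⟨(2 : F)⁻¹ • (⟨a, ha⟩ - w), rfl⟩, ?_⟩
      simp only [map_smul, map_add, map_sub, hT, one_smul, neg_one_smul, hw]
      simp only [Submodule.coe_add, Submodule.coe_sub, Submodule.coe_smul]
      match_scalars <;> (try field_simp) <;> (try ring)
  refine ⟨E, ⟨hdec, fun i => ?_, ?_⟩, fun g hg => ?_⟩
  · have aux : ∀ s : F, s + s ≠ 0 → IsNondegenerateOn f (LinearMap.range (T s)) := by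
      rintro s hs _ ⟨u, rfl⟩ hu
      have hu0 : u ≠ 0 := fun h => hu (by rw [h, map_zero])
      obtain ⟨v, hv⟩ : ∃ v, ω v u ≠ 0 := by
        by_contra hno
        push Not at hno
        refine hu0 (b.repr.injective (Finsupp.ext fun i => ?_))
        have e0 := hno (b 0)
        have e1 := hno (b 1)
        simp [ω, Module.Basis.repr_self] at e0 e1
        fin_cases i <;> simp [e0, e1]
      refine ⟨⟨_, ⟨v, rfl⟩, by rw [hfT]; exact mul_ne_zero hs hv⟩, _, ⟨v, rfl⟩, ?_⟩
      rw [hfT]
      refine mul_ne_zero hs ?_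
      simp only [ω] at hv ⊢
      intro h
      exact hv (by linear_combination -h)
    fin_cases i
    · exact aux 1 (by rw [← two_mul, mul_one]; exact h2)
    · exact aux (-1) (by rw [← two_mul, mul_neg, mul_one]; exact neg_ne_zero.mpr h2)
  · intro i j hij
    fin_cases i <;> fin_cases j <;> first | exact absurd rfl hij | skip
    · rintro _ ⟨u, rfl⟩ _ ⟨v, rfl⟩; rw [hfT]; ring
    · rintro _ ⟨u, rfl⟩ _ ⟨v, rfl⟩; rw [hfT]; ring
  obtain ⟨σ, hσ⟩ := hle hg
  let G := Matrix.toLin' (g : Matrix ι ι F)
  have hGinj : Function.Injective G := by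
    intro x y h
    have := congrArg (((g⁻¹ : GL ι F) : Matrix ι ι F) *ᵥ ·) h
    simpa [G, Matrix.toLin'_apply, Matrix.mulVec_mulVec] using this
  have hmem : ∀ i x, x ∈ D i → G x ∈ D (σ i) := fun i x hx => hσ i ▸ Submodule.mem_map_of_mem hx
  have hiso : ∀ x y, f (G x) (G y) = f x y := fun x y => hH hg x y
  -- multipliers of the determinant form
  have hω : ∀ (A : U →ₗ[F] U), ∃ d : F, ∀ u v, ω (A u) (A v) = d * ω u v := by
    intro A
    refine ⟨b.repr (A (b 0)) 0 * b.repr (A (b 1)) 1 - b.repr (A (b 0)) 1 * b.repr (A (b 1)) 0,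
      fun u v => ?_⟩
    have e : ∀ w i, b.repr (A w) i = b.repr w 0 * b.repr (A (b 0)) i + b.repr w 1 * b.repr (A (b 1)) i := by
      intro w i
      conv_lhs => rw [← b.sum_repr w, Fin.sum_univ_two, map_add, map_smul, map_smul, map_add,
        map_smul, map_smul]
      simp
    simp only [ω]
    rw [e u 0, e u 1, e v 0, e v 1]
    ring
  have hω1 : ω (b 0) (b 1) = 1 := by simp [ω, Module.Basis.repr_self]
  have hF : ∀ a : Fin 2, a = 0 ∨ a = 1 := by decide
  -- the key: `g` acts on the planes
  have key : ∃ s : F, s * s = 1 ∧ ∀ t : F, t * t = 1 → ∀ u : U, ∃ v : U, G (T t u) = T (s * t) v := by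
    by_cases h0 : σ 0 = 0
    · have h1 : σ 1 = 1 := (hF _).resolve_left fun h =>
        absurd (σ.injective (h.trans h0.symm)) (by decide)
      let A : U →ₗ[F] U := (G ∘ₗ U.subtype).codRestrict U fun u => by have := hmem 0 u u.2; rwa [h0] at this
      obtain ⟨d, hd⟩ := hω A
      have hd0 : d ≠ 0 := by
        rintro rfl
        have hA : Function.Surjective A := LinearMap.injective_iff_surjective.mp fun u v h =>
          Subtype.ext (hGinj (congrArg Subtype.val h))
        obtain ⟨u, hu⟩ := hA (b 0)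
        obtain ⟨v, hv⟩ := hA (b 1)
        have h := hd u v
        rw [hu, hv, hω1, zero_mul] at h
        exact one_ne_zero h
      have hdd : d * d = 1 := by
        rcases three_cases hq d with h | h | h
        · exact absurd h hd0
        all_goals rw [h]; ring
      refine ⟨d, hdd, fun t ht u => ⟨A u, ?_⟩⟩
      have hgφ : G (φ u : ι → F) = d • ((φ (A u) : U') : ι → F) := by
        have hmem' : G (φ u : ι → F) ∈ U' := by have := hmem 1 _ (φ u).2; rwa [h1] at this
        refine congrArg Subtype.val (hΨi (?_ : Ψ ⟨_, hmem'⟩ = Ψ (d • φ (A u))))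
        funext i
        obtain ⟨w, hw⟩ := (LinearMap.injective_iff_surjective (f := A)).mp
          (fun u v h => Subtype.ext (hGinj (congrArg Subtype.val h))) (b i)
        show f (b i : ι → F) (G (φ u : ι → F)) = f (b i : ι → F) (d • ((φ (A u) : U') : ι → F))
        rw [hf.bilinear.smul_right, hφ, ← hw, hd, ← mul_assoc, hdd, one_mul, ← hφ]
        exact hiso w _
      rw [hT, hT, map_add, map_smul, hgφ, smul_smul, mul_comm t d]
      rfl
    · have h0' : σ 0 = 1 := (hF _).resolve_left h0
      have h1 : σ 1 = 0 := (hF _).resolve_right fun h =>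
        absurd (σ.injective (h.trans h0'.symm)) (by decide)
      let G0 : U →ₗ[F] U' := (G ∘ₗ U.subtype).codRestrict U' fun u => by have := hmem 0 u u.2; rwa [h0'] at this
      let A : U →ₗ[F] U := ((LinearEquiv.ofBijective φ ⟨hφi, hφs⟩).symm : U' →ₗ[F] U) ∘ₗ G0
      have hA : ∀ u, φ (A u) = G0 u := fun u => (LinearEquiv.ofBijective φ ⟨hφi, hφs⟩).apply_symm_apply _
      have hAi : Function.Injective A := fun u v h => Subtype.ext (hGinj (congrArg Subtype.val
        (show G0 u = G0 v by rw [← hA, ← hA, h])))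
      have hAs : Function.Surjective A := LinearMap.injective_iff_surjective.mp hAi
      obtain ⟨d, hd⟩ := hω A
      have hd0 : d ≠ 0 := by
        rintro rfl
        obtain ⟨u, hu⟩ := hAs (b 0)
        obtain ⟨v, hv⟩ := hAs (b 1)
        have h := hd u v
        rw [hu, hv, hω1, zero_mul] at h
        exact one_ne_zero h
      have hdd : d * d = 1 := by
        rcases three_cases hq d with h | h | h
        · exact absurd h hd0
        all_goals rw [h]; ring
      refine ⟨d, hdd, fun t ht u => ⟨(t * d) • A u, ?_⟩⟩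
      have hgφ : G (φ u : ι → F) = d • ((A u : U) : ι → F) := by
        let W : U := ⟨G (φ u : ι → F), by have := hmem 1 _ (φ u).2; rwa [h1] at this⟩
        suffices hW : W = d • A u from congrArg Subtype.val hW
        have e : ∀ v, ω (A v) W = ω v u * 1 := by
          intro v
          have hh := hiso (v : ι → F) (φ u : ι → F)
          rw [hφ, show G (v : ι → F) = ((φ (A v) : U') : ι → F) from (congrArg Subtype.val (hA v)).symm,
            hf.skew, show G (φ u : ι → F) = ((W : U) : ι → F) from rfl, hφ] at hh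
          simp only [ω] at hh ⊢
          linear_combination hh
        have e' : ∀ z, ω z W = ω z (d • A u) := by
          intro z
          obtain ⟨v, rfl⟩ := hAs z
          have : ω (A v) (d • A u) = d * ω (A v) (A u) := by simp [ω]; ring
          rw [e, this, hd, ← mul_assoc, hdd, one_mul, mul_one]
        refine b.repr.injective (Finsupp.ext fun i => ?_)
        have e0 := e' (b 0)
        have e1 := e' (b 1)
        simp [ω, Module.Basis.repr_self] at e0 e1
        fin_cases i
        · simpa using e1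
        · simpa using e0
      rw [hT, hT, map_add, map_smul, hgφ,
        show G (u : ι → F) = ((φ (A u) : U') : ι → F) from (congrArg Subtype.val (hA u)).symm,
        map_smul φ, Submodule.coe_smul, Submodule.coe_smul, smul_smul, smul_smul,
        show d * t * (t * d) = (t * t) * (d * d) by ring, ht, hdd, one_mul, one_smul, add_comm]
  obtain ⟨s, hs, hkey⟩ := key
  have himg : ∀ t : F, t * t = 1 →
      (LinearMap.range (T t)).map G = LinearMap.range (T (s * t)) := by
    intro t ht
    refine Submodule.eq_of_le_of_finrank_le ?_ (le_of_eq ?_)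
    · rintro _ ⟨_, ⟨u, rfl⟩, rfl⟩
      obtain ⟨v, hv⟩ := hkey t ht u
      exact ⟨v, hv.symm⟩
    · rw [LinearMap.finrank_range_of_inj (hTi _),
        ← LinearEquiv.finrank_eq (Submodule.equivMapOfInjective G hGinj _),
        LinearMap.finrank_range_of_inj (hTi t)]
  rcases mul_self_eq_one_iff.mp hs with rfl | rfl
  · refine ⟨1, fun i => ?_⟩
    fin_cases i
    · simpa [E] using himg 1 (one_mul 1)
    · simpa [E] using himg (-1) (by ring)
  · refine ⟨Equiv.swap 0 1, fun i => ?_⟩
    fin_cases i
    · simpa [E] using himg 1 (one_mul 1)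
    · simpa [E] using himg (-1) (by ring)

/-- Transfer of a contradiction to the coordinates `Fin n`. -/
theorem not_le_decomp_of {n : ℕ} (e : ι ≃ Fin n) (hf : IsSymplecticForm f) {t m : ℕ}
    {D : Fin t → Submodule F (ι → F)} (hD : IsMDecomposition m D) (hm : 2 ≤ m) :
    ¬ isomI f ≤ decompositionStabilizer D := by
  intro hall
  let D' : Fin t → Submodule F (Fin n → F) :=
    fun i => (D i).map (coord (F := F) e : (ι → F) →ₗ[F] (Fin n → F))
  have hDD : D = fun i => backW e (D' i) := funext fun i => by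
    rw [backW, ← Submodule.map_comp]
    simp
  refine isom_not_le_decomp (ft_symp e hf) (D := D') (t := t) ?_ hm ?_
  · refine ⟨hD.two_le, hD.pos, fun i => by rw [LinearEquiv.finrank_map_eq]; exact hD.finrank_eq i,
      hD.indep.map_orderIso (Submodule.orderIsoMapComap (coord (F := F) e)), ?_⟩
    rw [show (⨆ i, D' i) = (⨆ i, D i).map (coord (F := F) e : (ι → F) →ₗ[F] (Fin n → F)) from
      (Submodule.map_iSup _ _).symm, hD.iSup_eq_top, Submodule.map_top]
    exact LinearMap.range_eq_top.mpr (coord e).surjective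
  rw [← map_isom e (f := f)]
  rintro _ ⟨g, hg, rfl⟩
  refine (OrthPrime.mem_decomp_iff e g D').mpr ?_
  have := hall hg
  rwa [hDD] at this

theorem field_symType_back {n : ℕ} (e : ι ≃ Fin n) (hn : n = 4) (hf : IsSymplecticForm f)
    (hq : Fintype.card F = 3) {H : Subgroup (GL ι F)} {K : Subalgebra F (Matrix ι ι F)}
    (hK : IsFieldSubalgebra 2 K) (hac : IsAdjointClosedFor f K) (hnsa : ¬ IsSelfAdjointFor f K)
    (hH : H ≤ isomI f) (hle : H ≤ subalgebraNormalizer K) :
    ∃ R : Subgroup (GL ι F), IsSymplecticTypeGroup 2 R ∧ ActsAbsolutelyIrreducibly (matrixSet R) ∧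
      R ≤ similarityGroup f ∧ Nat.card R = 32 ∧ Nat.card (Subgroup.center R) = 2 ∧
      IsOfMinusType 2 R ∧ LiesIn f H (subgroupNormalizer R) := by
  classical
  subst hn
  let K' : Subalgebra F (Mat 4 F) :=
    K.map (Matrix.reindexAlgEquiv F F e : Matrix ι ι F ≃ₐ[F] Mat 4 F).toAlgHom
  have hKK : K = backK e K' := by
    ext x
    rw [mem_backK]
    refine ⟨fun hx => ⟨x, hx, rfl⟩, ?_⟩
    rintro ⟨y, hy, h⟩
    exact (Matrix.reindexAlgEquiv F F e).injective h ▸ hy
  rw [hKK] at hnsa
  have hK' : IsFieldSubalgebra 2 K' := by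
    refine ⟨?_, ?_, ?_⟩
    · rintro _ ⟨x, hx, rfl⟩ _ ⟨y, hy, rfl⟩
      rw [← map_mul, hK.comm x hx y hy, map_mul]
    · rintro _ ⟨x, hx, rfl⟩ hne
      obtain ⟨y, hy, hxy⟩ := hK.inv x hx fun h => hne (by rw [h, map_zero])
      exact ⟨_, ⟨y, hy, rfl⟩, by rw [← map_mul, hxy, map_one]⟩
    · rw [← hK.finrank_eq]
      exact (LinearEquiv.finrank_eq
        (Subalgebra.equivMapOfInjective K _ (Matrix.reindexAlgEquiv F F e).injective).toLinearEquiv).symm
  have hac' : IsAdjointClosedFor (ft e f) K' := by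
    rintro _ ⟨x, hx, rfl⟩
    obtain ⟨y, hy, h⟩ := hac x hx
    refine ⟨_, ⟨y, hy, rfl⟩, fun u v => ?_⟩
    show f ((coord e).symm (Matrix.reindexAlgEquiv F F e x *ᵥ u)) ((coord e).symm v) =
      f ((coord e).symm u) ((coord e).symm (Matrix.reindexAlgEquiv F F e y *ᵥ v))
    rw [reindex_mulVec, reindex_mulVec]
    exact h _ _
  obtain ⟨R, p, k, hdk, hsym, habs, hRI, hp, hpodd, hpq, hcard, hcen, hmin, hinv, hle'⟩ :=
    field_symType (ft_symp e hf) hq (H := H.map (glReindex (F := F) e).toMonoidHom)
      (map_isom e (f := f) ▸ Subgroup.map_mono hH) hK' hac'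
      (fun h => hnsa ((backK_selfAdj e).mpr h)) (by
        rintro _ ⟨g, hg, rfl⟩
        exact (mem_normalizer_reindex e g K').mpr (hKK ▸ hle hg))
  obtain rfl : k = 2 := Nat.pow_right_injective le_rfl (show 2 ^ k = 2 ^ 2 by rw [← hdk])
  have h2 : (2 : F) ≠ 0 := fun h => one_ne_zero (α := F) (by linear_combination three_eq_zero hq - h)
  refine ⟨backR e R, backR_symplecticType e hsym, backR_absIrred e habs, fun g hg => ⟨1, fun u v => ?_⟩,
    by rw [Nat.card_congr (backEquiv e R).toEquiv, hcard]; rfl, by rw [backR_center e R, hcen],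
    backR_minus e hmin, fun g hg => (mem_subgroupNormalizer_reindex e g R).mp (hle' ⟨g, hg, rfl⟩),
    fun hall => isom_not_le_symType (ft_symp e hf) (by norm_num) h2 hRI
      (by rw [hsym.exponent_eq]; rfl) hinv ?_⟩
  · rw [Units.val_one, one_mul]
    exact (mem_isom_iff e g).mp (hRI hg) u v
  · rw [← map_isom e (f := f)]
    rintro _ ⟨g, hg, rfl⟩
    exact (mem_subgroupNormalizer_reindex e g R).mpr (hall hg)

end CfsgLib.Classical.AschSp
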