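import Cfsg.Agent.Lib.Classical.AschSp.Tensor
import Cfsg.Agent.Lib.Classical.AschGen.TwoFactor

/-!
# The similitudes of a four dimensional symmetric form of plus type
-/

set_option autoImplicit false
set_option linter.unusedSectionVars false

namespace CfsgLib.Classical.AschSp

open Matrix Cfsg Cfsg.Geo CfsgLib.Classical.AschPrime CfsgLib.Classical.AschGen
open scoped MatrixGroups Kronecker

variable {F : Type*} [Field F] [Fintype F]

/-- Square matrices on a product of two pairs. -/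
abbrev M22 (F : Type*) := Matrix (Fin 2 × Fin 2) (Fin 2 × Fin 2) F

/-- The exchange of the two factors. -/
def swap22 : M22 F := Matrix.of fun x y => if y = Prod.swap x then 1 else 0

theorem swap22_mul (M : M22 F) (x y : Fin 2 × Fin 2) : ((swap22 : M22 F) * M) x y = M x.swap y := by
  simp [swap22, Matrix.mul_apply]

theorem mul_swap22 (M : M22 F) (x y : Fin 2 × Fin 2) : (M * (swap22 : M22 F)) x y = M x y.swap := by
  simp only [swap22, Matrix.mul_apply, Matrix.of_apply, mul_ite, mul_one, mul_zero]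
  rw [Finset.sum_eq_single y.swap]
  · simp
  · intro b _ hb
    rw [if_neg fun h => hb (by rw [h, Prod.swap_swap])]
  · exact fun h => absurd (Finset.mem_univ _) h

theorem swap22_swap : (swap22 : M22 F) * swap22 = 1 := by
  ext x y
  rw [swap22_mul]
  simp [swap22, Matrix.one_apply, eq_comm]

theorem swap22_kron (a b : Mat 2 F) : (swap22 : M22 F) * (a ⊗ₖ b) * swap22 = b ⊗ₖ a := by
  ext x y
  rw [mul_swap22, swap22_mul]
  simp [Matrix.kroneckerMap_apply, mul_comm]

/-- A skew matrix for the square of the plane form is a sum from the two factors. -/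
theorem skew_split (h2 : (2 : F) ≠ 0) {M : M22 F}
    (hM : Mᵀ * ((planeGram : Mat 2 F) ⊗ₖ planeGram) = -(((planeGram : Mat 2 F) ⊗ₖ planeGram) * M)) :
    ∃ X Y : Mat 2 F, X 0 0 + X 1 1 = 0 ∧ Y 0 0 + Y 1 1 = 0 ∧
      M = X ⊗ₖ (1 : Mat 2 F) + (1 : Mat 2 F) ⊗ₖ Y := by
  have key : ∀ p q, _ := fun p q => congrFun (congrFun hM p) q
  have k00 := key (0, 0) (0, 0)
  have k01 := key (0, 0) (0, 1)
  have k02 := key (0, 0) (1, 0)
  have k03 := key (0, 0) (1, 1)
  have k11 := key (0, 1) (0, 1)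
  have k12 := key (0, 1) (1, 0)
  have k13 := key (0, 1) (1, 1)
  have k22 := key (1, 0) (1, 0)
  have k23 := key (1, 0) (1, 1)
  have k33 := key (1, 1) (1, 1)
  simp [planeGram, Matrix.mul_apply, Fintype.sum_prod_type, Fin.sum_univ_two,
    Matrix.kroneckerMap_apply] at k00 k01 k02 k03 k11 k12 k13 k22 k23 k33
  have z : ∀ a : F, a = -a → a = 0 := fun a h =>
    (mul_eq_zero.mp (show (2 : F) * a = 0 by linear_combination h)).resolve_left h2
  refine ⟨!![(M (0, 0) (0, 0) + M (0, 1) (0, 1)) / 2, M (0, 0) (1, 0);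
      M (1, 0) (0, 0), (M (1, 0) (1, 0) + M (1, 1) (1, 1)) / 2],
    !![(M (0, 0) (0, 0) + M (1, 0) (1, 0)) / 2, M (0, 0) (0, 1);
      M (0, 1) (0, 0), (M (0, 1) (0, 1) + M (1, 1) (1, 1)) / 2], ?_, ?_, ?_⟩
  · simp
    field_simp
    first | linear_combination k03 + k12 | linear_combination k03 - k12 |
      linear_combination -k03 + k12 | linear_combination -k03 - k12
  · simp
    field_simp
    first | linear_combination k03 + k12 | linear_combination k03 - k12 |
      linear_combination -k03 + k12 | linear_combination -k03 - k12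
  · ext ⟨a, c⟩ ⟨b, d⟩
    fin_cases a <;> fin_cases b <;> fin_cases c <;> fin_cases d <;>
      simp [Matrix.kroneckerMap_apply] <;>
      (try field_simp) <;>
      first
        | linear_combination k03 | linear_combination -k03
        | linear_combination k12 | linear_combination -k12
        | linear_combination k03 + k12 | linear_combination k03 - k12
        | linear_combination -k03 + k12 | linear_combination -k03 - k12
        | linear_combination k01 | linear_combination -k01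
        | linear_combination k02 | linear_combination -k02
        | linear_combination k13 | linear_combination -k13
        | linear_combination k23 | linear_combination -k23
        | exact z _ (by linear_combination k00) | exact z _ (by linear_combination -k00)
        | exact z _ (by linear_combination k11) | exact z _ (by linear_combination -k11)
        | exact z _ (by linear_combination k22) | exact z _ (by linear_combination -k22)
        | exact z _ (by linear_combination k33) | exact z _ (by linear_combination -k33)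

/-- A skew matrix with scalar square comes from one factor. -/
theorem split_scalar (h2 : (2 : F) ≠ 0) {X Y : Mat 2 F} (hX : X 0 0 + X 1 1 = 0)
    (hY : Y 0 0 + Y 1 1 = 0) {c : F}
    (h : (X ⊗ₖ (1 : Mat 2 F) + (1 : Mat 2 F) ⊗ₖ Y) * (X ⊗ₖ (1 : Mat 2 F) + (1 : Mat 2 F) ⊗ₖ Y) =
      c • 1) : X = 0 ∨ Y = 0 := by
  have hsq : ∀ Z : Mat 2 F, Z 0 0 + Z 1 1 = 0 → Z * Z = (Z 0 0 * Z 0 0 + Z 0 1 * Z 1 0) • 1 := by
    intro Z hZ
    have e : Z 1 1 = -Z 0 0 := by linear_combination hZ
    ext i j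
    fin_cases i <;> fin_cases j <;> simp [Matrix.mul_apply, Fin.sum_univ_two, e] <;> ring
  set a := X 0 0 * X 0 0 + X 0 1 * X 1 0
  set b := Y 0 0 * Y 0 0 + Y 0 1 * Y 1 0
  have h1 : (2 : F) • (X ⊗ₖ Y) = (c - a - b) • (1 : M22 F) := by
    rw [add_mul, mul_add, mul_add, ← Matrix.mul_kronecker_mul, ← Matrix.mul_kronecker_mul,
      ← Matrix.mul_kronecker_mul, ← Matrix.mul_kronecker_mul, hsq X hX, hsq Y hY] at h
    simp only [mul_one, one_mul] at h
    rw [Matrix.smul_kronecker, Matrix.kronecker_smul, Matrix.one_kronecker_one] at h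
    rw [two_smul, sub_smul, sub_smul, ← h]
    abel
  have hxy : ∀ i j k l, (2 : F) * (X i j * Y k l) = (c - a - b) * (1 : M22 F) (i, k) (j, l) :=
    fun i j k l => congrFun (congrFun h1 (i, k)) (j, l)
  have e0 : c - a - b = 0 := by
    have h00 := hxy 0 0 0 0
    have h10 := hxy 1 1 0 0
    simp at h00 h10
    refine (mul_eq_zero.mp (show (2 : F) * (c - a - b) = 0 from ?_)).resolve_left h2
    linear_combination -h00 - h10 + 2 * Y 0 0 * hX
  by_contra hne
  push Not at hne
  obtain ⟨hX0, hY0⟩ := hne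
  obtain ⟨i, j, hij⟩ : ∃ i j, X i j ≠ 0 := by
    by_contra hno; push Not at hno; exact hX0 (Matrix.ext hno)
  obtain ⟨k, l, hkl⟩ : ∃ k l, Y k l ≠ 0 := by
    by_contra hno; push Not at hno; exact hY0 (Matrix.ext hno)
  have := hxy i j k l
  rw [e0, zero_mul] at this
  exact mul_ne_zero h2 (mul_ne_zero hij hkl) this

/-- Commuting with the first factor means living in the second. -/
theorem of_commute_left {M : M22 F}
    (h : ∀ X : Mat 2 F, M * (X ⊗ₖ (1 : Mat 2 F)) = (X ⊗ₖ (1 : Mat 2 F)) * M) :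
    ∃ Y : Mat 2 F, M = (1 : Mat 2 F) ⊗ₖ Y := by
  refine ⟨Matrix.of fun c d => M (0, c) (0, d), ?_⟩
  ext ⟨a, c⟩ ⟨b, d⟩
  have hh := congrFun (congrFun (h (Matrix.single b 0 1)) (a, c)) (0, d)
  simp [Matrix.mul_apply, Fintype.sum_prod_type, Fin.sum_univ_two, Matrix.kroneckerMap_apply,
    Matrix.single_apply, Matrix.one_apply] at hh ⊢
  fin_cases a <;> fin_cases b <;> fin_cases c <;> fin_cases d <;> simp at hh ⊢ <;>
    first | rfl | exact hh | exact hh.symm | linear_combination hh | linear_combination -hh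

/-- A conjugation preserving the first factor is a pure tensor. -/
theorem pure_of_left (b : (M22 F)ˣ)
    (h : ∀ X : Mat 2 F, ∃ X' : Mat 2 F,
      (b : M22 F) * (X ⊗ₖ (1 : Mat 2 F)) * ((b⁻¹ : (M22 F)ˣ) : M22 F) = X' ⊗ₖ (1 : Mat 2 F)) :
    ∃ (x : GL (Fin 2) F) (Y : Mat 2 F), (b : M22 F) = (x : Mat 2 F) ⊗ₖ Y := by
  choose θ hθ using h
  have hinj : ∀ {X Y : Mat 2 F}, X ⊗ₖ (1 : Mat 2 F) = Y ⊗ₖ (1 : Mat 2 F) → X = Y :=
    fun h => kron_left_inj (by norm_num) h
  let θa : Mat 2 F →ₐ[F] Mat 2 F :=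
    { toFun := θ
      map_one' := hinj (by rw [← hθ, Matrix.one_kronecker_one, mul_one, Units.mul_inv])
      map_mul' := fun X Y => hinj (by
        conv_rhs => rw [← mul_one (1 : Mat 2 F), Matrix.mul_kronecker_mul, ← hθ, ← hθ]
        rw [← hθ, show (X * Y) ⊗ₖ (1 : Mat 2 F) = (X ⊗ₖ (1 : Mat 2 F)) * (Y ⊗ₖ (1 : Mat 2 F)) by
          rw [← Matrix.mul_kronecker_mul, mul_one]]
        simp only [mul_assoc, Units.inv_mul_cancel_left])
      map_zero' := hinj (by rw [← hθ, Matrix.zero_kronecker, mul_zero, zero_mul])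
      map_add' := fun X Y => hinj (by
        rw [← hθ, Matrix.add_kronecker, Matrix.add_kronecker, mul_add, add_mul, hθ, hθ])
      commutes' := fun c => hinj (by
        rw [← hθ, Algebra.algebraMap_eq_smul_one, Matrix.smul_kronecker, Matrix.one_kronecker_one,
          Matrix.mul_smul, mul_one, Matrix.smul_mul, Units.mul_inv]) }
  obtain ⟨x, hx⟩ := exists_inner (by norm_num) θa
  set xi := ((x⁻¹ : GL (Fin 2) F) : Mat 2 F)
  obtain ⟨Y, hY⟩ := of_commute_left (M := (xi ⊗ₖ (1 : Mat 2 F)) * (b : M22 F)) fun X => by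
    have h1 : (b : M22 F) * (X ⊗ₖ (1 : Mat 2 F)) =
        (((x : Mat 2 F) * X * xi) ⊗ₖ (1 : Mat 2 F)) * (b : M22 F) := by
      rw [← hx X]
      show _ = (θ X ⊗ₖ (1 : Mat 2 F)) * (b : M22 F)
      rw [← hθ, mul_assoc, Units.inv_mul, mul_one]
    rw [mul_assoc, h1, ← mul_assoc, ← mul_assoc, ← Matrix.mul_kronecker_mul, ← Matrix.mul_kronecker_mul,
      show xi * ((x : Mat 2 F) * X * xi) = X * xi by simp [xi, ← mul_assoc]]
  refine ⟨x, Y, ?_⟩
  calc (b : M22 F) = ((x : Mat 2 F) ⊗ₖ (1 : Mat 2 F)) * ((xi ⊗ₖ (1 : Mat 2 F)) * (b : M22 F)) := by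
        rw [← mul_assoc, ← Matrix.mul_kronecker_mul, Units.mul_inv, mul_one, Matrix.one_kronecker_one,
          one_mul]
    _ = _ := by rw [hY, ← Matrix.mul_kronecker_mul, mul_one, one_mul]

/-- A similitude of the square of the plane form is a pure tensor, possibly with the factors exchanged. -/
theorem similitude_pure (h2 : (2 : F) ≠ 0) (b : (M22 F)ˣ) {μ : F}
    (hb : (b : M22 F)ᵀ * ((planeGram : Mat 2 F) ⊗ₖ planeGram) * (b : M22 F) =
      μ • ((planeGram : Mat 2 F) ⊗ₖ planeGram)) :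
    ∃ (x : GL (Fin 2) F) (y : GL (Fin 2) F),
      (b : M22 F) = (x : Mat 2 F) ⊗ₖ (y : Mat 2 F) ∨
        (b : M22 F) = swap22 * ((x : Mat 2 F) ⊗ₖ (y : Mat 2 F)) := by
  classical
  set G : M22 F := (planeGram : Mat 2 F) ⊗ₖ planeGram with hG
  set bi : M22 F := ((b⁻¹ : (M22 F)ˣ) : M22 F)
  have hμ : μ ≠ 0 := by
    intro h0
    have h1 : (b : M22 F)ᵀ * G * (b : M22 F) = 0 := by rw [hb, h0, zero_smul]
    have h3 : biᵀ * ((b : M22 F)ᵀ * G * (b : M22 F)) * bi = G := by
      rw [show biᵀ * ((b : M22 F)ᵀ * G * (b : M22 F)) * bi = ((b : M22 F) * bi)ᵀ * G * ((b : M22 F) * bi) by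
        simp [Matrix.transpose_mul, mul_assoc]]
      simp [bi]
    rw [h1, mul_zero, zero_mul] at h3
    have := congrFun (congrFun h3 (0, 0)) (1, 1)
    simp [G, planeGram] at this
  -- the skew matrices
  have hskewG : ∀ M : M22 F, Mᵀ * G = -(G * M) →
      ((b : M22 F) * M * bi)ᵀ * G = -(G * ((b : M22 F) * M * bi)) := by
    intro M hM
    have e1 : biᵀ * G = μ⁻¹ • (G * (b : M22 F)) := by
      have h := congrArg (fun Z => biᵀ * Z) hb
      simp only [Matrix.mul_smul] at h
      rw [← mul_assoc, ← mul_assoc, show biᵀ * (b : M22 F)ᵀ = 1 by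
        rw [← Matrix.transpose_mul, Units.mul_inv, Matrix.transpose_one], one_mul] at h
      rw [h, smul_smul, inv_mul_cancel₀ hμ, one_smul]
    have e2 : (b : M22 F)ᵀ * G = μ • (G * bi) := by
      have h := congrArg (fun Z => Z * bi) hb
      simp only [Matrix.smul_mul, mul_assoc] at h
      rwa [show (b : M22 F) * bi = 1 from Units.mul_inv b, mul_one] at h
    rw [Matrix.transpose_mul, Matrix.transpose_mul, mul_assoc, mul_assoc, e2, Matrix.mul_smul,
      Matrix.mul_smul, ← mul_assoc Mᵀ, hM, neg_mul, mul_neg, smul_neg, ← mul_assoc biᵀ,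
      ← mul_assoc biᵀ, e1, Matrix.smul_mul, Matrix.smul_mul, smul_smul, mul_inv_cancel₀ hμ, one_smul]
    simp only [mul_assoc]
  -- the image of the first factor
  let L : Mat 2 F →ₗ[F] M22 F :=
    { toFun := fun X => X ⊗ₖ (1 : Mat 2 F)
      map_add' := fun X Y => Matrix.add_kronecker _ _ _
      map_smul' := fun c X => Matrix.smul_kronecker c _ _ }
  let Rr : Mat 2 F →ₗ[F] M22 F :=
    { toFun := fun X => (1 : Mat 2 F) ⊗ₖ X
      map_add' := fun X Y => Matrix.kronecker_add _ _ _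
      map_smul' := fun c X => Matrix.kronecker_smul c _ _ }
  let φ : Mat 2 F →ₗ[F] M22 F :=
    { toFun := fun X => (b : M22 F) * (X ⊗ₖ (1 : Mat 2 F)) * bi
      map_add' := fun X Y => by rw [Matrix.add_kronecker, mul_add, add_mul]
      map_smul' := fun c X => by
        rw [Matrix.smul_kronecker, Matrix.mul_smul, Matrix.smul_mul, RingHom.id_apply] }
  let S : Submodule F (Mat 2 F) :=
    { carrier := {X | X 0 0 + X 1 1 = 0}
      add_mem' := fun {X Y} (hX : _ = _) (hY : _ = _) => show (X + Y) 0 0 + (X + Y) 1 1 = 0 by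
        simp only [Matrix.add_apply]; linear_combination hX + hY
      zero_mem' := show (0 : F) + 0 = 0 by ring
      smul_mem' := fun c X (hX : _ = _) => show (c • X) 0 0 + (c • X) 1 1 = 0 by
        simp only [Matrix.smul_apply, smul_eq_mul]; linear_combination c * hX }
  have hcases : ∀ X ∈ S, φ X ∈ LinearMap.range L ∨ φ X ∈ LinearMap.range Rr := by
    intro X hX
    have hX' : X 0 0 + X 1 1 = 0 := hX
    have e : X 1 1 = -X 0 0 := by linear_combination hX'
    have hskew : (X ⊗ₖ (1 : Mat 2 F))ᵀ * G = -(G * (X ⊗ₖ (1 : Mat 2 F))) := by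
      rw [hG, ← Matrix.kroneckerMap_transpose, ← Matrix.mul_kronecker_mul, ← Matrix.mul_kronecker_mul,
        Matrix.transpose_one, one_mul, mul_one, show Xᵀ * planeGram = -((planeGram : Mat 2 F) * X) by
          ext i j
          fin_cases i <;> fin_cases j <;>
            simp [planeGram, Matrix.mul_apply, Fin.sum_univ_two, Matrix.vecMul, dotProduct, e]]
      ext i j; simp
    obtain ⟨A, B, hA, hB, hAB⟩ := skew_split h2 (hskewG _ hskew)
    have hsq : φ X * φ X = (X 0 0 * X 0 0 + X 0 1 * X 1 0) • (1 : M22 F) := by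
      show (b : M22 F) * (X ⊗ₖ (1 : Mat 2 F)) * bi * ((b : M22 F) * (X ⊗ₖ (1 : Mat 2 F)) * bi) = _
      have : X * X = (X 0 0 * X 0 0 + X 0 1 * X 1 0) • 1 := by
        ext i j
        fin_cases i <;> fin_cases j <;> simp [Matrix.mul_apply, Fin.sum_univ_two, e] <;> ring
      simp only [mul_assoc, bi, Units.inv_mul_cancel_left]
      rw [← mul_assoc (X ⊗ₖ (1 : Mat 2 F)), ← Matrix.mul_kronecker_mul, mul_one, this,
        Matrix.smul_kronecker, Matrix.one_kronecker_one, Matrix.smul_mul, one_mul, Matrix.mul_smul,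
        Units.mul_inv]
    rw [show φ X = A ⊗ₖ (1 : Mat 2 F) + (1 : Mat 2 F) ⊗ₖ B from hAB] at hsq ⊢
    rcases split_scalar h2 hA hB hsq with rfl | rfl
    · exact .inr ⟨B, by simp [Rr]⟩
    · exact .inl ⟨A, by simp [L]⟩
  have hone : φ 1 = 1 := by
    show (b : M22 F) * _ * bi = 1
    rw [Matrix.one_kronecker_one, mul_one]; exact Units.mul_inv b
  have hdec : ∀ X : Mat 2 F, X - ((X 0 0 + X 1 1) / 2) • 1 ∈ S := fun X => by
    show _ + _ = (0 : F)
    simp only [Matrix.sub_apply, Matrix.smul_apply, Matrix.one_apply_eq, smul_eq_mul, mul_one]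
    field_simp
    ring
  have hside : (∀ X, φ X ∈ LinearMap.range L) ∨ (∀ X, φ X ∈ LinearMap.range Rr) := by
    have ext1 : ∀ W : Submodule F (M22 F), (1 : M22 F) ∈ W → (∀ X ∈ S, φ X ∈ W) → ∀ X, φ X ∈ W := by
      intro W h1 hW X
      rw [show X = (X - ((X 0 0 + X 1 1) / 2) • 1) + ((X 0 0 + X 1 1) / 2) • 1 by rw [sub_add_cancel],
        map_add, map_smul, hone]
      exact W.add_mem (hW _ (hdec X)) (W.smul_mem _ h1)
    by_cases hl : ∀ X ∈ S, φ X ∈ LinearMap.range L
    · exact .inl (ext1 _ ⟨1, Matrix.one_kronecker_one⟩ hl)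
    push Not at hl
    obtain ⟨X₀, hX₀, hX₀'⟩ := hl
    refine .inr (ext1 _ ⟨1, Matrix.one_kronecker_one⟩ fun X hX => ?_)
    by_contra hXr
    have hXl : φ X ∈ LinearMap.range L := (hcases X hX).resolve_right hXr
    rcases hcases _ (S.add_mem hX hX₀) with h | h
    · exact hX₀' (by simpa using (LinearMap.range L).sub_mem h hXl)
    · exact hXr (by simpa using (LinearMap.range Rr).sub_mem h ((hcases X₀ hX₀).resolve_left hX₀'))
  have fin : ∀ (c : (M22 F)ˣ), (∀ X : Mat 2 F, ∃ X' : Mat 2 F,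
      (c : M22 F) * (X ⊗ₖ (1 : Mat 2 F)) * ((c⁻¹ : (M22 F)ˣ) : M22 F) = X' ⊗ₖ (1 : Mat 2 F)) →
      ∃ (x y : GL (Fin 2) F), (c : M22 F) = (x : Mat 2 F) ⊗ₖ (y : Mat 2 F) := by
    intro c hc
    obtain ⟨x, Y, hxY⟩ := pure_of_left c hc
    have hY : IsUnit Y := by
      refine (Matrix.isUnit_iff_isUnit_det _).mpr ?_
      have h := (Matrix.isUnit_iff_isUnit_det _).mp c.isUnit
      rw [hxY, Matrix.det_kronecker, IsUnit.mul_iff] at h
      exact (isUnit_pow_iff (by simp)).mp h.2
    exact ⟨x, hY.unit, hxY⟩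
  rcases hside with h | h
  · obtain ⟨x, y, hxy⟩ := fin b fun X => by
      obtain ⟨X', hX'⟩ := h X
      exact ⟨X', hX'.symm⟩
    exact ⟨x, y, .inl hxy⟩
  · let sw : (M22 F)ˣ := ⟨swap22, swap22, swap22_swap, swap22_swap⟩
    obtain ⟨x, y, hxy⟩ := fin (sw * b) fun X => by
      obtain ⟨X', hX'⟩ := h X
      refine ⟨X', ?_⟩
      rw [_root_.mul_inv_rev, Units.val_mul, Units.val_mul, show ((sw⁻¹ : (M22 F)ˣ) : M22 F) = swap22 from rfl,
        show (sw : M22 F) = swap22 from rfl,
        show swap22 * (b : M22 F) * (X ⊗ₖ (1 : Mat 2 F)) * (((b⁻¹ : (M22 F)ˣ) : M22 F) * swap22) =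
          swap22 * φ X * swap22 by simp only [φ, LinearMap.coe_mk, AddHom.coe_mk, bi, mul_assoc],
        ← hX']
      exact swap22_kron _ _
    refine ⟨x, y, .inr ?_⟩
    rw [← hxy, Units.val_mul, show (sw : M22 F) = swap22 from rfl, ← mul_assoc, swap22_swap, one_mul]

/-- A symmetric form of plus type in four variables is the square of the plane form. -/
theorem plus_normal_form (h2 : (2 : F) ≠ 0) {f₂ : (Fin 4 → F) → (Fin 4 → F) → F}
    (hf : IsSymmetricForm f₂) (hplus : IsPlusTypeOn (fun v => f₂ v v) ⊤) :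
    ∃ Q : Matrix (Fin 4) (Fin 2 × Fin 2) F, ∀ p q,
      (Qᵀ * gramMatrix f₂ * Q) p q = ((planeGram : Mat 2 F) ⊗ₖ planeGram) p q := by
  classical
  obtain ⟨U, -, hts, hdim⟩ := hplus
  rw [finrank_top, Module.finrank_fintype_fun_eq_card, Fintype.card_fin] at hdim
  have hb := hf.bilinear
  have hU : ∀ u ∈ U, ∀ v ∈ U, f₂ u v = 0 := by
    intro u hu v hv
    have h1 : f₂ (u + v) (u + v) = 0 := hts _ (U.add_mem hu hv)
    have h3 : f₂ u u = 0 := hts u hu
    have h4 : f₂ v v = 0 := hts v hv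
    rw [hb.add_left, hb.add_right, hb.add_right, h3, h4, hf.symm v u] at h1
    exact (mul_eq_zero.mp (show (2 : F) * f₂ u v = 0 by linear_combination h1)).resolve_left h2
  let b : Module.Basis (Fin 2) F U := Module.finBasisOfFinrankEq F U (by omega)
  let B : (Fin 4 → F) →ₗ[F] (Fin 4 → F) →ₗ[F] F :=
    LinearMap.mk₂ F f₂ hb.add_left hb.smul_left hb.add_right hb.smul_right
  let T : (Fin 4 → F) →ₗ[F] (Fin 2 → F) := LinearMap.pi fun i => B (b i : Fin 4 → F)
  have hT : Function.Surjective T := by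
    rw [← LinearMap.dualMap_injective_iff, ← LinearMap.ker_eq_bot, eq_bot_iff]
    intro φ hφ
    rw [Submodule.mem_bot]
    set z : U := φ (Pi.single 0 1) • b 0 + φ (Pi.single 1 1) • b 1
    have hz : z = 0 := by
      by_contra hne
      obtain ⟨x, hx⟩ := (hf.nondegenerate _ (fun e => hne (Subtype.ext e))).2
      refine hx ?_
      have : φ (T x) = 0 := by
        have := LinearMap.congr_fun (LinearMap.mem_ker.mp hφ) x
        simpa using this
      rw [pi_eq_sum_univ' (T x), map_sum, Fin.sum_univ_two, map_smul, map_smul] at this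
      simp only [z, Submodule.coe_add, Submodule.coe_smul, hb.add_left, hb.smul_left]
      simpa [T, B, mul_comm] using this
    refine LinearMap.pi_ext' fun i => LinearMap.ext_ring ?_
    have e : ∀ i, b.repr z i = φ (Pi.single i 1) := by
      intro i; fin_cases i <;> simp [z, Module.Basis.repr_self]
    simp only [LinearMap.comp_apply, LinearMap.zero_apply]
    show φ (Pi.single i 1) = 0
    rw [← e, hz, map_zero]; rfl
  obtain ⟨x1, hx1⟩ := hT (Pi.single 0 1)
  obtain ⟨x2, hx2⟩ := hT (Pi.single 1 1)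
  set u1 : Fin 4 → F := (b 0 : Fin 4 → F)
  set u2 : Fin 4 → F := (b 1 : Fin 4 → F)
  have a11 : f₂ u1 x1 = 1 := by simpa [T, B, u1] using congrFun hx1 0
  have a21 : f₂ u2 x1 = 0 := by simpa [T, B, u2] using congrFun hx1 1
  have a12 : f₂ u1 x2 = 0 := by simpa [T, B, u1] using congrFun hx2 0
  have a22 : f₂ u2 x2 = 1 := by simpa [T, B, u2] using congrFun hx2 1
  have b11 : f₂ x1 u1 = 1 := by rw [hf.symm, a11]
  have b21 : f₂ x1 u2 = 0 := by rw [hf.symm, a21]
  have b12 : f₂ x2 u1 = 0 := by rw [hf.symm, a12]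
  have b22 : f₂ x2 u2 = 1 := by rw [hf.symm, a22]
  have hu11 := hU u1 (b 0).2 u1 (b 0).2
  have hu12 := hU u1 (b 0).2 u2 (b 1).2
  have hu21 := hU u2 (b 1).2 u1 (b 0).2
  have hu22 := hU u2 (b 1).2 u2 (b 1).2
  have hs12 : f₂ x2 x1 = f₂ x1 x2 := hf.symm _ _
  let w1 : Fin 4 → F := x1 + (-(f₂ x1 x1 / 2)) • u1
  let w2 : Fin 4 → F := x2 + (-f₂ x1 x2) • u1 + (-(f₂ x2 x2 / 2)) • u2
  have d1 : f₂ u1 w1 = 1 ∧ f₂ u2 w1 = 0 ∧ f₂ u1 w2 = 0 ∧ f₂ u2 w2 = 1 := by
    refine ⟨?_, ?_, ?_, ?_⟩ <;>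
      simp only [w1, w2, hb.add_right, hb.smul_right, a11, a12, a21, a22, hu11, hu12, hu21, hu22] <;> ring
  have d2 : f₂ w1 w1 = 0 ∧ f₂ w1 w2 = 0 ∧ f₂ w2 w2 = 0 := by
    refine ⟨?_, ?_, ?_⟩ <;>
      simp only [w1, w2, hb.add_left, hb.add_right, hb.smul_left, hb.smul_right, a11, a12, a21, a22, b11,
        b12, b21, b22, hu11, hu12, hu21, hu22, hs12] <;> field_simp <;> ring
  obtain ⟨d11, d21, d12, d22⟩ := d1
  obtain ⟨e11, e12, e22⟩ := d2
  let cols : Fin 2 × Fin 2 → Fin 4 → F := fun p =>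
    ![![u1, u2], ![(-1 : F) • w2, w1]] p.1 p.2
  refine ⟨Matrix.of fun i p => cols p i, fun p q => ?_⟩
  have hS := isSesq_of_bilinear hb
  have e : ((Matrix.of fun i p => cols p i)ᵀ * gramMatrix f₂ * Matrix.of fun i p => cols p i) p q =
      f₂ (cols p) (cols q) := by
    rw [hS.apply]
    simp only [Matrix.mul_apply, Matrix.transpose_apply, Matrix.of_apply, dotProduct, Matrix.mulVec,
      Finset.sum_mul, Finset.mul_sum, RingHom.coe_id, Function.id_comp, mul_assoc]
    exact Finset.sum_comm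
  rw [e]
  obtain ⟨p1, p2⟩ := p
  obtain ⟨q1, q2⟩ := q
  fin_cases p1 <;> fin_cases p2 <;> fin_cases q1 <;> fin_cases q2 <;>
    simp only [cols, Matrix.kroneckerMap_apply, planeGram, Fin.zero_eta, Fin.mk_one, Matrix.of_apply,
      Matrix.cons_val', Matrix.cons_val_zero, Matrix.cons_val_one, Matrix.cons_val_fin_one,
      Matrix.empty_val', hb.smul_left, hb.smul_right, hu11, hu12, hu21, hu22, d11, d12, d21, d22, e11,
      e12, e22, hf.symm w1 u1, hf.symm w1 u2, hf.symm w2 u1, hf.symm w2 u2, hf.symm w2 w1] <;> ring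

end CfsgLib.Classical.AschSp
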