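import Cfsg.Agent.Lib.Classical.AschSp.Centre
import Cfsg.Agent.Lib.Classical.AschForm.TensorPower
import Cfsg.Agent.Lib.Classical.AschGen.NotSL
import Cfsg.Agent.Lib.Classical.Solubilizer.SmallOrders

/-!
# Tensor powers of forms under an alternating form
-/

set_option autoImplicit false
set_option linter.unusedSectionVars false

namespace CfsgLib.Classical.AschSp

open Matrix Cfsg Cfsg.Geo CfsgLib.Classical.AschPrime CfsgLib.Classical.AschGen
open scoped MatrixGroups

variable {F : Type*} [Field F] [Fintype F] {n m t : ℕ}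
variable {f : (Fin n → F) → (Fin n → F) → F}
variable {f₁ : (Fin m → F) → (Fin m → F) → F} {e : Fin n ≃ (Fin t → Fin m)} {P : GL (Fin n) F}

/-- The factor of a tensor power under an alternating form is alternating. -/
theorem power_symplectic (hf : IsSymplecticForm f) (hm : 0 < m) (ht : 0 < t) {ε₁ : F}
    (h₁ : AschForm.Herm (RingHom.id F) ε₁ f₁)
    (hst : IsTensorPowerFormStructure id f f₁ e P) :
    IsSymplecticForm f₁ ∧ (Odd (Fintype.card F) → Odd t) := by
  classical
  haveI : NeZero m := ⟨hm.ne'⟩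
  obtain ⟨c, hc0, hc⟩ := hst
  have hsingle : ∀ a b : Fin t → Fin m,
      f ((P : Mat n F) *ᵥ (Pi.single a 1 ∘ e)) ((P : Mat n F) *ᵥ (Pi.single b 1 ∘ e)) =
        c * ∏ i, gramMatrix f₁ (a i) (b i) := fun a b => by
    rw [hc, Finset.sum_eq_single a (fun x _ hx => Finset.sum_eq_zero fun y _ => by
        rw [Pi.single_eq_of_ne hx, zero_mul, zero_mul]) fun h => absurd (Finset.mem_univ a) h,
      Finset.sum_eq_single b (fun y _ hy => by
        rw [Pi.single_eq_of_ne hy, id_eq, mul_zero]) fun h => absurd (Finset.mem_univ b) h,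
      Pi.single_eq_same, Pi.single_eq_same, one_mul, id_eq, mul_one]
  have hconst : ∀ a b : Fin m,
      f ((P : Mat n F) *ᵥ (Pi.single (fun _ : Fin t => a) 1 ∘ e))
        ((P : Mat n F) *ᵥ (Pi.single (fun _ : Fin t => b) 1 ∘ e)) = c * gramMatrix f₁ a b ^ t := fun a b => by
    rw [hsingle, Finset.prod_const, Finset.card_univ, Fintype.card_fin]
  have hdiag : ∀ a, gramMatrix f₁ a a = 0 := fun a => by
    have h := hconst a a
    rw [hf.alternating, eq_comm, mul_eq_zero, pow_eq_zero_iff ht.ne'] at h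
    exact h.resolve_left hc0
  have hsymm : ∀ a b, gramMatrix f₁ b a = ε₁ * gramMatrix f₁ a b := fun a b => h₁.symm _ _
  obtain ⟨a₀, b₀, hab⟩ : ∃ a b, gramMatrix f₁ a b ≠ 0 := by
    by_contra h
    push Not at h
    exact (h₁.sesq.isUnit_gram h₁.nondeg).ne_zero (Matrix.ext h)
  have hpow : ε₁ ^ t = -1 := by
    have h := hconst b₀ a₀
    rw [hf.skew, hconst, hsymm a₀ b₀, mul_pow] at h
    have : c * gramMatrix f₁ a₀ b₀ ^ t * (ε₁ ^ t + 1) = 0 := by linear_combination -h
    exact eq_neg_of_add_eq_zero_left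
      ((mul_eq_zero.mp this).resolve_left (mul_ne_zero hc0 (pow_ne_zero _ hab)))
  have hε : ε₁ = -1 := by
    rcases mul_self_eq_one_iff.mp (h₁.eps_mul hm) with h | h
    · rw [h, one_pow] at hpow
      rw [h]; exact hpow
    · exact h
  have hskew : ∀ v w, f₁ v w = -f₁ w v := fun v w => by
    rw [h₁.symm w v, hε, RingHom.id_apply, neg_one_mul]
  have hb : IsBilinearForm f₁ :=
    ⟨h₁.sesq.add_left, h₁.sesq.smul_left, h₁.sesq.add_right, fun c v x => h₁.sesq.smul_right c v x⟩
  refine ⟨⟨hb, hskew, fun v => ?_, h₁.nondeg⟩, fun hodd => ?_⟩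
  · rw [pi_eq_sum_univ' v]
    have key : ∀ s : Finset (Fin m), f₁ (∑ i ∈ s, v i • Pi.single i 1) (∑ i ∈ s, v i • Pi.single i 1) = 0 := by
      intro s
      induction s using Finset.induction_on with
      | empty =>
        rw [Finset.sum_empty]
        simpa using hb.smul_left 0 0 0
      | insert i s his ih =>
        rw [Finset.sum_insert his, hb.add_left, hb.add_right, hb.add_right, ih,
          hskew (∑ j ∈ s, _) (v i • Pi.single i 1), hb.smul_left _ (Pi.single i 1) (v i • Pi.single i 1),
          hb.smul_right _ _ (Pi.single i 1), show f₁ (Pi.single i 1) (Pi.single i 1) = gramMatrix f₁ i i from rfl,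
          hdiag]
        ring
    exact key _
  · by_contra hto
    rw [hε, Even.neg_one_pow (Nat.not_odd_iff_even.mp hto)] at hpow
    have h2 : (2 : F) = 0 := by linear_combination hpow
    haveI : CharP F 2 := CharTwo.of_one_ne_zero_of_two_eq_zero one_ne_zero h2
    have h := FiniteField.even_card_iff_char_two.mp (ringChar.eq F 2)
    rcases hodd with ⟨d, hd⟩
    omega

/-- The factor of a tensor power over three elements is not a plane. -/
theorem power_not_plane (hq : Fintype.card F = 3) {L : Subgroup (GL (Fin 2) F)}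
    (hperf : ⁅L, L⁆ = L) : L ≤ scalars (Fin 2) F := by
  classical
  haveI : Fact (Nat.Prime 3) := ⟨Nat.prime_three⟩
  have e3 : ZMod 3 ≃+* F := ZMod.ringEquivOfPrime F Nat.prime_three hq
  let φ : Matrix.SpecialLinearGroup (Fin 2) (ZMod 3) →* GL (Fin 2) F :=
    Matrix.SpecialLinearGroup.toGL.comp (Matrix.SpecialLinearGroup.map e3.toRingHom)
  haveI := Solubilizer.solvable_sl_three
  haveI : Group.IsSolvable φ.range := solvable_of_surjective φ.rangeRestrict_surjective
  have hdet : ∀ x ∈ L, Matrix.GeneralLinearGroup.det x = 1 := fun x hx => by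
    rw [← hperf] at hx
    exact MonoidHom.mem_ker.mp (Subgroup.commutator_le.mpr (fun a _ b _ => MonoidHom.mem_ker.mpr (by
      rw [map_commutatorElement, commutatorElement_eq_one_iff_mul_comm.mpr (mul_comm _ _)])) hx)
  have hle : L ≤ φ.range := fun x hx => by
    have hd : (x : Mat 2 F).det = 1 := congrArg Units.val (hdet x hx)
    let y : Matrix.SpecialLinearGroup (Fin 2) (ZMod 3) :=
      ⟨(x : Mat 2 F).map e3.symm, by
        rw [← RingEquiv.mapMatrix_apply, ← RingEquiv.map_det, hd, map_one]⟩
    refine ⟨y, Units.ext (Matrix.ext fun i j => ?_)⟩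
    show e3 (e3.symm ((x : Mat 2 F) i j)) = _
    exact e3.apply_symm_apply _
  haveI : Group.IsSolvable L := solvable_of_solvable_injective (Subgroup.inclusion_injective hle)
  have hbot : L = ⊥ := by
    by_contra hne
    haveI : Nontrivial L := L.nontrivial_iff_ne_bot.mpr hne
    have hp : ⁅(⊤ : Subgroup L), (⊤ : Subgroup L)⁆ = ⊤ := by
      refine Subgroup.map_injective L.subtype_injective ?_
      rw [Subgroup.map_commutator, ← MonoidHom.range_eq_map, Subgroup.range_subtype, hperf]
    exact (IsSolvable.commutator_lt_of_ne_bot top_ne_bot).ne hp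
  rw [hbot]
  exact bot_le

/-- In characteristic two the wreath product of a tensor power preserves a quadratic form. -/
theorem quad_of_power (hf : IsSymplecticForm f) (h2 : (2 : F) = 0) (hm : 0 < m) (ht : 2 ≤ t)
    (h₁ : IsSymplecticForm f₁) (hst : IsTensorPowerFormStructure id f f₁ e P)
    {H : Subgroup (GL (Fin n) F)} (hH : H ≤ isomSubgroup f)
    (hle : H ≤ tensorWreathSubgroup m t e P) : QuadCase f H := by
  classical
  obtain ⟨c, hc0, hc⟩ := hst
  let i₀ : Fin t := ⟨0, by omega⟩
  let i₁ : Fin t := ⟨1, by omega⟩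
  have h01 : i₀ ≠ i₁ := by simp [i₀, i₁, Fin.ext_iff]
  set G := gramMatrix f₁
  let K : (Fin t → Fin m) → (Fin t → Fin m) → F := fun a b => ∏ i, G (a i) (b i)
  have hneg : ∀ z : F, -z = z := fun z => by linear_combination (-z) * h2
  have hGdiag : ∀ a, G a a = 0 := fun a => h₁.alternating _
  have hGsym : ∀ a b, G b a = G a b := fun a b => by rw [← hneg (G a b)]; exact h₁.skew _ _
  have hKsym : ∀ a b, K b a = K a b := fun a b => Finset.prod_congr rfl fun i _ => hGsym _ _
  have hKdiag : ∀ a b i, a i = b i → K a b = 0 := fun a b i h =>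
    Finset.prod_eq_zero (Finset.mem_univ i) (by rw [h]; exact hGdiag _)
  let xs : (Fin n → F) → ((Fin t → Fin m) → F) := fun v =>
    (((P⁻¹ : GL (Fin n) F) : Mat n F) *ᵥ v) ∘ e.symm
  have hxs : ∀ v, (P : Mat n F) *ᵥ (xs v ∘ e) = v := fun v => by
    have : xs v ∘ e = ((P⁻¹ : GL (Fin n) F) : Mat n F) *ᵥ v := funext fun i => by simp [xs]
    rw [this, Matrix.mulVec_mulVec, Units.mul_inv, Matrix.one_mulVec]
  have hxsP : ∀ x, xs ((P : Mat n F) *ᵥ (x ∘ e)) = x := fun x => funext fun a => by
    simp only [xs, Matrix.mulVec_mulVec, Units.inv_mul, Matrix.one_mulVec, Function.comp_apply,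
      Equiv.apply_symm_apply]
  let Q : (Fin n → F) → F := fun v =>
    c * ∑ a, ∑ b, if a i₀ < b i₀ then K a b * xs v a * xs v b else 0
  have hadd : ∀ u v, xs (u + v) = xs u + xs v := fun u v => funext fun a => by
    simp [xs, Matrix.mulVec_add]
  have hsmul : ∀ (r : F) v, xs (r • v) = r • xs v := fun r v => funext fun a => by
    simp [xs, Matrix.mulVec_smul]
  have hpolar : ∀ u v, QuadraticMap.polar Q u v = f u v := fun u v => by
    conv_rhs => rw [← hxs u, ← hxs v, hc]
    simp only [QuadraticMap.polar, Q, hadd, ← mul_sub, id_eq, ← Finset.sum_sub_distrib]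
    congr 1
    set x := xs u
    set y := xs v
    have e1 : ∀ a b, x a * (∏ i, G (a i) (b i)) * y b =
        (if a i₀ < b i₀ then x a * K a b * y b else 0) + (if b i₀ < a i₀ then x a * K a b * y b else 0) := by
      intro a b
      rcases lt_trichotomy (a i₀) (b i₀) with h | h | h
      · rw [if_pos h, if_neg (lt_asymm h), add_zero]
      · rw [if_neg h.not_lt, if_neg h.symm.not_lt, add_zero]
        show x a * K a b * y b = 0
        rw [hKdiag a b i₀ h, mul_zero, zero_mul]
      · rw [if_neg (lt_asymm h), if_pos h, zero_add]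
    simp only [e1, Finset.sum_add_distrib]
    rw [Finset.sum_comm (f := fun a b => if b i₀ < a i₀ then x a * K a b * y b else 0)]
    simp only [← Finset.sum_add_distrib]
    refine Finset.sum_congr rfl fun a _ => Finset.sum_congr rfl fun b _ => ?_
    by_cases h : a i₀ < b i₀
    · rw [if_pos h, if_pos h, if_pos h, if_pos h, if_pos h, hKsym a b, Pi.add_apply, Pi.add_apply]
      ring
    · rw [if_neg h, if_neg h, if_neg h, if_neg h, if_neg h]
      ring
  have hpure : ∀ z : (Fin t → Fin m) → F, IsPureVec z → Q ((P : Mat n F) *ᵥ (z ∘ e)) = 0 := by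
    rintro z ⟨w, hw⟩
    simp only [Q, hxsP]
    refine mul_eq_zero_of_right _ ?_
    rw [← Fintype.sum_prod_type' (f := fun a b => if a i₀ < b i₀ then K a b * z a * z b else 0)]
    let φ : (Fin t → Fin m) × (Fin t → Fin m) → (Fin t → Fin m) × (Fin t → Fin m) := fun p =>
      (Function.update p.1 i₁ (p.2 i₁), Function.update p.2 i₁ (p.1 i₁))
    refine Finset.sum_involution (fun p _ => φ p) (fun p _ => ?_) (fun p _ hp hφ => hp ?_)
      (fun p _ => Finset.mem_univ _) (fun p _ => ?_)
    · have e0 : (φ p).1 i₀ = p.1 i₀ ∧ (φ p).2 i₀ = p.2 i₀ :=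
        ⟨Function.update_of_ne h01 (p.2 i₁) p.1, Function.update_of_ne h01 (p.1 i₁) p.2⟩
      rw [e0.1, e0.2]
      by_cases h : p.1 i₀ < p.2 i₀
      · rw [if_pos h, if_pos h]
        have e2 : K (φ p).1 (φ p).2 * z (φ p).1 * z (φ p).2 = K p.1 p.2 * z p.1 * z p.2 := by
          simp only [K, hw, ← Finset.prod_mul_distrib]
          refine Finset.prod_congr rfl fun i _ => ?_
          by_cases hi : i = i₁
          · subst hi
            simp only [φ, Function.update_self]
            rw [hGsym]; ring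
          · simp only [φ, Function.update_of_ne hi]
        rw [e2]
        linear_combination (K p.1 p.2 * z p.1 * z p.2) * h2
      · rw [if_neg h, if_neg h, add_zero]
    · have h := congrFun (congrArg Prod.fst hφ) i₁
      simp only [φ, Function.update_self] at h
      rw [hKdiag _ _ i₁ h.symm]
      simp
    · refine Prod.ext (funext fun i => ?_) (funext fun i => ?_) <;> by_cases hi : i = i₁
      · subst hi; simp [φ]
      · simp [φ, hi]
      · subst hi; simp [φ]
      · simp [φ, hi]
  have hsingle : ∀ a : Fin t → Fin m, IsPureVec (Pi.single a (1 : F) : (Fin t → Fin m) → F) :=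
    fun a => ⟨fun i => Pi.single (a i) 1, fun x => by
      by_cases h : x = a
      · subst h; simp
      · obtain ⟨i, hi⟩ := Function.ne_iff.mp h
        rw [Pi.single_eq_of_ne h]
        exact (Finset.prod_eq_zero (Finset.mem_univ i) (Pi.single_eq_of_ne hi _)).symm⟩
  have hQ : IsNondegenerateQuadraticForm Q := by
    have hp : QuadraticMap.polar Q = f := funext fun u => funext (hpolar u)
    refine ⟨fun r v => ?_, hp ▸ hf.bilinear, hp ▸ hf.nondegenerate⟩
    simp only [Q, hsmul, Finset.mul_sum, mul_ite, mul_zero, Pi.smul_apply, smul_eq_mul]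
    refine Finset.sum_congr rfl fun a _ => Finset.sum_congr rfl fun b _ => ?_
    split <;> ring
  refine ⟨fun hodd => ?_, Q, hQ, hpolar, ?_⟩
  · haveI : CharP F 2 := CharTwo.of_one_ne_zero_of_two_eq_zero one_ne_zero h2
    have h := FiniteField.even_card_iff_char_two.mp (ringChar.eq F 2)
    rcases hodd with ⟨d, hd⟩
    omega
  rintro _ ⟨g, hg, rfl⟩ v
  show Q ((g : Mat n F) *ᵥ v) = Q v
  obtain ⟨_, ⟨w, hw, rfl⟩, hgw⟩ := hle hg
  let b : (Fin t → Fin m) → (Fin n → F) := fun a => (P : Mat n F) *ᵥ (Pi.single a 1 ∘ e)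
  have hgb : ∀ a, (g : Mat n F) *ᵥ b a =
      (P : Mat n F) *ᵥ (((w : Matrix (Fin t → Fin m) (Fin t → Fin m) F) *ᵥ Pi.single a 1) ∘ e) := by
    intro a
    rw [← hgw]
    show ((P : Mat n F) * Matrix.reindexAlgEquiv F F e.symm (w : Matrix (Fin t → Fin m) (Fin t → Fin m) F) *
      ((P⁻¹ : GL (Fin n) F) : Mat n F)) *ᵥ ((P : Mat n F) *ᵥ _) = _
    rw [Matrix.mulVec_mulVec, mul_assoc, Units.inv_mul, mul_one, ← Matrix.mulVec_mulVec]
    congr 1
    funext i
    simp only [Matrix.mulVec, dotProduct, Function.comp_apply, Matrix.coe_reindexAlgEquiv]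
    exact Fintype.sum_equiv e _ _ fun j => by simp
  have hD : ∀ (s : Finset (Fin t → Fin m)) (r : (Fin t → Fin m) → F),
      Q ((g : Mat n F) *ᵥ ∑ a ∈ s, r a • b a) = Q (∑ a ∈ s, r a • b a) := by
    intro s r
    induction s using Finset.induction_on with
    | empty => simp [Matrix.mulVec_zero]
    | insert a s has ih =>
      have hQadd : ∀ p q, Q (p + q) = Q p + Q q + f p q := fun p q => by
        rw [← hpolar, QuadraticMap.polar]; ring
      rw [Finset.sum_insert has, Matrix.mulVec_add, hQadd, hQadd, ih, hH hg, Matrix.mulVec_smul,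
        hQ.smul, hQ.smul, hgb, hpure _ (pureVec_standard hw _ (hsingle a)), hpure _ (hsingle a)]
  have hv : v = ∑ a, xs v a • b a := by
    conv_lhs => rw [← hxs v]
    simp only [b, ← Matrix.mulVec_smul, ← Matrix.mulVec_sum]
    congr 1
    funext i
    rw [Finset.sum_apply, Finset.sum_eq_single (e i)]
    · simp
    · intro a _ ha
      simp [Pi.single_eq_of_ne ha.symm]
    · exact fun h => absurd (Finset.mem_univ _) h
  rw [hv]
  exact hD _ _

end CfsgLib.Classical.AschSp
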