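import Cfsg.Agent.Lib.Classical.AschSp.Full
import Cfsg.Agent.Lib.Classical.AschSp.Proper

/-!
# The symplectic-type and tensor-power members are proper
-/

set_option autoImplicit false
set_option linter.unusedSectionVars false

namespace CfsgLib.Classical.AschSp

open Matrix Cfsg Cfsg.Geo CfsgLib.Classical.AschPrime CfsgLib.Classical.AschGen
open scoped MatrixGroups

variable {F : Type*} [Field F] [Fintype F] {n k t : ℕ}
variable {f : (Fin n → F) → (Fin n → F) → F}

theorem isom_not_le_symType (hf : IsSymplecticForm f) (hn : 0 < n) (h2 : (2 : F) ≠ 0)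
    {R : Subgroup (GL (Fin n) F)} (hR : R ≤ isomSubgroup f) (hexp : Monoid.exponent R = 4)
    (hinv : ∃ x ∈ R, x ∉ scalars (Fin n) F ∧ x * x = 1) :
    ¬ isomSubgroup f ≤ subgroupNormalizer R := by
  intro hle
  obtain ⟨x, hx, hns, hxx⟩ := hinv
  have hxinv : x⁻¹ = x := inv_eq_of_mul_eq_one_right hxx
  have hxm : (x : Mat n F) * (x : Mat n F) = 1 := by rw [← Units.val_mul, hxx, Units.val_one]
  have hq : ∀ v, f v ((x : Mat n F) *ᵥ v) = 0 := fun v => by
    have h := hR hx v ((x : Mat n F) *ᵥ v)
    rw [Matrix.mulVec_mulVec, hxm, Matrix.one_mulVec, hf.skew] at h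
    have : (2 : F) * f v ((x : Mat n F) *ᵥ v) = 0 := by linear_combination -h
    exact (mul_eq_zero.mp this).resolve_left h2
  obtain ⟨c, hc⟩ := scalar_of_eigen_all hn (k := (x : Mat n F)) fun v => by
    set w := (x : Mat n F) *ᵥ v with hw
    set g := tvGL hf v 1
    set u : GL (Fin n) F := g * x * g⁻¹ * x⁻¹
    have hu : u ∈ R :=
      R.mul_mem ((Subgroup.mem_normalizer_iff.mp (hle (tvGL_mem hf v 1)) x).mp hx) (R.inv_mem hx)
    -- the inverse of a transvection
    have hginv : ∀ y, ((g⁻¹ : GL (Fin n) F) : Mat n F) *ᵥ y = y - f y v • v := fun y => by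
      have h : (g : Mat n F) *ᵥ (y - f y v • v) = y := by
        rw [tvGL_apply, one_mul, ← bil_apply hf, ← bil_apply hf (y - _), map_sub, map_smul,
          LinearMap.sub_apply, LinearMap.smul_apply, bil_apply hf, bil_apply hf, hf.alternating, smul_zero,
          sub_zero, sub_add_cancel]
      conv_lhs => rw [← h]
      rw [Matrix.mulVec_mulVec, Units.inv_mul, Matrix.one_mulVec]
    let N : (Fin n → F) → (Fin n → F) := fun y => f y v • v - f y w • w
    have hxw : ∀ y, f ((x : Mat n F) *ᵥ y) v = f y w := fun y => by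
      have h := hR hx y w
      rw [hw, Matrix.mulVec_mulVec, hxm, Matrix.one_mulVec] at h
      exact h
    have hvw : f v w = 0 := hq v
    have hwv : f w v = 0 := by rw [hf.skew, hvw, neg_zero]
    have hu1 : ∀ y, (u : Mat n F) *ᵥ y = y + N y := fun y => by
      show ((g * x * g⁻¹ * x⁻¹ : GL (Fin n) F) : Mat n F) *ᵥ y = _
      rw [hxinv, Units.val_mul, Units.val_mul, Units.val_mul, ← Matrix.mulVec_mulVec,
        ← Matrix.mulVec_mulVec, ← Matrix.mulVec_mulVec, hginv, Matrix.mulVec_sub, Matrix.mulVec_mulVec,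
        hxm, Matrix.one_mulVec, Matrix.mulVec_smul, hxw, ← hw, tvGL_apply, one_mul, sub_eq_add_neg,
        ← neg_smul, hf.bilinear.add_left, hf.bilinear.smul_left, hwv, mul_zero, add_zero, neg_smul]
      simp only [N]
      abel
    have hNadd : ∀ y z, N (y + z) = N y + N z := fun y z => by
      simp only [N, hf.bilinear.add_left, add_smul]; abel
    have hN2 : ∀ y, N (N y) = 0 := fun y => by
      simp only [N, sub_eq_add_neg, ← neg_smul, hf.bilinear.add_left, hf.bilinear.smul_left,
        hf.alternating, hvw, hwv, mul_zero, add_zero, neg_zero, zero_smul]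
    have h4 : u ^ 4 = 1 := by
      have h := Monoid.pow_exponent_eq_one (⟨u, hu⟩ : R)
      rw [hexp] at h
      exact congrArg Subtype.val h
    have hN0 : ∀ y, N y = 0 := fun y => by
      have h := congrArg (fun z : GL (Fin n) F => (z : Mat n F) *ᵥ y) h4
      simp only [Units.val_pow_eq_pow_val, Units.val_mul, Units.val_one, Matrix.one_mulVec, pow_succ, pow_zero, one_mul,
        ← Matrix.mulVec_mulVec, hu1, hNadd, hN2, add_zero] at h
      have h' : (4 : F) • N y = 0 := by
        rw [← sub_eq_zero] at h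
        rw [← h]
        module
      exact (smul_eq_zero.mp h').resolve_left (by
        rw [show (4 : F) = 2 * 2 from by norm_num]; exact mul_ne_zero h2 h2)
    by_cases hv : v = 0
    · exact ⟨0, by simp [hw, hv]⟩
    obtain ⟨y, hy⟩ := (hf.nondegenerate v hv).1
    by_cases hyw : f y w = 0
    · have h := hN0 y
      simp only [N, hyw, zero_smul, sub_zero] at h
      exact absurd ((smul_eq_zero.mp h).resolve_right hv) hy
    refine ⟨(f y w)⁻¹ * f y v, ?_⟩
    rw [← smul_smul, sub_eq_zero.mp (hN0 y), smul_smul, inv_mul_cancel₀ hyw, one_smul]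
  exact hns (mem_scalars_of_eq hn hc)

theorem isom_not_le_power (hf : IsSymplecticForm f) (hk : 2 ≤ k) (ht : 2 ≤ t)
    {e : Fin n ≃ (Fin t → Fin k)} {P : GL (Fin n) F} {f₁ : (Fin k → F) → (Fin k → F) → F}
    (h₁ : IsSymplecticForm f₁) (hst : IsTensorPowerFormStructure id f f₁ e P) :
    ¬ isomSubgroup f ≤ tensorWreathSubgroup k t e P := by
  classical
  intro hle
  obtain ⟨c, hc0, hc⟩ := hst
  obtain ⟨a₀, b₀, hab⟩ : ∃ a b, gramMatrix f₁ a b ≠ 0 := by
    haveI : NeZero k := ⟨by omega⟩
    by_contra h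
    push Not at h
    exact ((isSesq_of_bilinear h₁.bilinear).isUnit_gram h₁.nondegenerate).ne_zero (Matrix.ext h)
  have hne : a₀ ≠ b₀ := fun h => hab (by rw [h]; exact h₁.alternating _)
  let i₀ : Fin t := ⟨0, by omega⟩
  let i₁ : Fin t := ⟨1, by omega⟩
  have h01 : i₀ ≠ i₁ := by simp [i₀, i₁, Fin.ext_iff]
  let a : Fin t → Fin k := fun _ => a₀
  let b : Fin t → Fin k := fun _ => b₀
  let b' : Fin t → Fin k := Function.update (Function.update b i₀ a₀) i₁ a₀
  let d : Fin t → Fin k := Function.update b i₀ a₀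
  let d' : Fin t → Fin k := Function.update b i₁ a₀
  let w : (Fin t → Fin k) → F := Pi.single b 1 + Pi.single b' 1
  let em : ((Fin t → Fin k) → F) → (Fin n → F) := fun z => (P : Mat n F) *ᵥ (z ∘ e)
  have hemi : Function.Injective em := fun z z' h => funext fun p => by
    have h' := congrArg (fun v => ((P⁻¹ : GL (Fin n) F) : Mat n F) *ᵥ v) h
    simp only [em, Matrix.mulVec_mulVec, Units.inv_mul, Matrix.one_mulVec] at h'
    simpa using congrFun h' (e.symm p)
  have hsingle : ∀ p q, f (em (Pi.single p 1)) (em (Pi.single q 1)) =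
      c * ∏ i, gramMatrix f₁ (p i) (q i) := fun p q => by
    simp only [em]
    rw [hc, Finset.sum_eq_single p (fun x _ hx => Finset.sum_eq_zero fun y _ => by
        rw [Pi.single_eq_of_ne hx, zero_mul, zero_mul]) fun h => absurd (Finset.mem_univ p) h,
      Finset.sum_eq_single q (fun y _ hy => by
        rw [Pi.single_eq_of_ne hy, id_eq, mul_zero]) fun h => absurd (Finset.mem_univ q) h,
      Pi.single_eq_same, Pi.single_eq_same, one_mul, id_eq, mul_one]
  set v := em (Pi.single a 1)
  set z := em w - v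
  have hvz : f v z ≠ 0 := by
    have e1 : em w = em (Pi.single b 1) + em (Pi.single b' 1) := by
      simp only [em, w, ← Matrix.mulVec_add]
      rfl
    simp only [z, e1, sub_eq_add_neg, hf.bilinear.add_right, ← neg_one_smul F v, hf.bilinear.smul_right,
      hf.alternating, mul_zero, add_zero, v, hsingle]
    rw [Finset.prod_eq_zero (f := fun i => gramMatrix f₁ (a i) (b' i)) (Finset.mem_univ i₁) (show gramMatrix f₁ (a i₁) (b' i₁) = 0 by
      simp only [a, b', Function.update_self]; exact h₁.alternating _), mul_zero, add_zero]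
    refine mul_ne_zero hc0 (Finset.prod_ne_zero_iff.mpr fun i _ => ?_)
    exact hab
  set g := tvGL hf z (f v z)⁻¹
  have hgv : (g : Mat n F) *ᵥ v = em w := by
    rw [tvGL_apply, inv_mul_cancel₀ hvz, one_smul, add_sub_cancel]
  obtain ⟨_, ⟨u, hu, rfl⟩, hgu⟩ := hle (tvGL_mem hf z (f v z)⁻¹)
  have hpure : IsPureVec (Pi.single a (1 : F) : (Fin t → Fin k) → F) :=
    ⟨fun i => Pi.single (a i) 1, fun x => by
      by_cases h : x = a
      · subst h; simp
      · obtain ⟨i, hi⟩ := Function.ne_iff.mp h
        rw [Pi.single_eq_of_ne h]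
        exact (Finset.prod_eq_zero (Finset.mem_univ i) (Pi.single_eq_of_ne hi _)).symm⟩
  have himg : (g : Mat n F) *ᵥ v =
      em ((u : Matrix (Fin t → Fin k) (Fin t → Fin k) F) *ᵥ Pi.single a 1) := by
    simp only [g, ← hgu, v, em]
    show ((P : Mat n F) * Matrix.reindexAlgEquiv F F e.symm (u : Matrix (Fin t → Fin k) (Fin t → Fin k) F) *
      ((P⁻¹ : GL (Fin n) F) : Mat n F)) *ᵥ ((P : Mat n F) *ᵥ _) = _
    rw [Matrix.mulVec_mulVec, mul_assoc, Units.inv_mul, mul_one, ← Matrix.mulVec_mulVec]
    congr 1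
    funext i
    simp only [Matrix.mulVec, dotProduct, Function.comp_apply, Matrix.coe_reindexAlgEquiv]
    exact Fintype.sum_equiv e _ _ fun j => by simp
  obtain ⟨ws, hws⟩ := pureVec_standard hu _ hpure
  rw [← hemi (hgv.symm.trans himg)] at hws
  have hbb : b ≠ b' := fun h => hne (by
    have := congrFun h i₁
    simpa [b, b'] using this.symm)
  have hdb : d ≠ b := fun h => hne (by
    have := congrFun h i₀
    simpa [d, b] using this)
  have hdb' : d ≠ b' := fun h => hne (by
    have := congrFun h i₁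
    simpa [d, b, b', h01.symm] using this.symm)
  have hprod : (∏ i, ws i (b i)) * (∏ i, ws i (b' i)) = (∏ i, ws i (d i)) * ∏ i, ws i (d' i) := by
    rw [← Finset.prod_mul_distrib, ← Finset.prod_mul_distrib]
    refine Finset.prod_congr rfl fun i _ => ?_
    by_cases h0 : i = i₀
    · subst h0; simp [b, b', d, d', h01, mul_comm]
    · by_cases h1 : i = i₁
      · subst h1; simp [b, b', d, d', h01.symm]
      · simp [b, b', d, d', h0, h1]
  rw [← hws, ← hws, ← hws, ← hws] at hprod
  simp [w, Pi.single_eq_of_ne hbb, Pi.single_eq_of_ne hbb.symm, Pi.single_eq_of_ne hdb,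
    Pi.single_eq_of_ne hdb'] at hprod

end CfsgLib.Classical.AschSp
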