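import Cfsg.Agent.Lib.Classical.AschSp.Transport

/-!
# Degrees six, ten and twelve
-/

set_option autoImplicit false

namespace CfsgLib.Classical.AschSp

theorem not_prime_power {d p s : ℕ} (hp : p.Prime) (hs : s.Prime) (hps : p ≠ s) (hpd : p ∣ d)
    (hsd : s ∣ d) (r k : ℕ) (hr : r.Prime) (_ : 1 ≤ k) : d ≠ r ^ k := by
  rintro rfl
  exact hps (((Nat.prime_dvd_prime_iff_eq hp hr).mp (hp.dvd_of_dvd_pow hpd)).trans
    ((Nat.prime_dvd_prime_iff_eq hs hr).mp (hs.dvd_of_dvd_pow hsd)).symm)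

theorem not_power_small {d : ℕ} (hd : d = 6 ∨ d = 10 ∨ d = 12) (m t : ℕ) (hm : 2 ≤ m) (ht : 2 ≤ t) :
    m ^ t ≠ d := by
  intro h
  have h1 : m ^ 2 ≤ m ^ t := Nat.pow_le_pow_right (by omega) ht
  have h2 : 2 ^ t ≤ m ^ t := Nat.pow_le_pow_left hm t
  have hd12 : d ≤ 12 := by omega
  have hm3 : m ≤ 3 := by nlinarith
  have ht3 : t ≤ 3 := by
    by_contra hh
    have : 2 ^ 4 ≤ 2 ^ t := Nat.pow_le_pow_right (by omega) (by omega)
    omega
  interval_cases m <;> interval_cases t <;> norm_num at h <;> omega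

/-- The divisors of a small number, as a finite case split. -/
theorem factor_cases {a b d : ℕ} (hd : d ≠ 0) (h : a * b = d) :
    a ∈ Nat.divisors d ∧ b = d / a := by
  have ha : a ∣ d := ⟨b, h.symm⟩
  refine ⟨Nat.mem_divisors.mpr ⟨ha, hd⟩, ?_⟩
  subst h
  rw [Nat.mul_div_cancel_left _ (Nat.pos_of_ne_zero fun e => hd (by rw [e, zero_mul]))]

theorem prime_dvd_cases {r d : ℕ} (hd : d ≠ 0) (h : 2 * r ∣ d) : r ∈ Nat.divisors (d / 2) := by
  have h2 : 2 ∣ d := (Dvd.intro r rfl).trans h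
  refine Nat.mem_divisors.mpr ⟨?_, by omega⟩
  exact Nat.dvd_div_of_mul_dvd h

end CfsgLib.Classical.AschSp
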