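import Cfsg.Agent.Lib.Classical.AschSp.Transport

/-!
# Small facts for the low degrees
-/

set_option autoImplicit false

namespace CfsgLib.Classical.AschSp

open Cfsg Cfsg.Geo

variable {ι : Type} [Fintype ι] [DecidableEq ι] {F : Type*} [Field F]
variable {f : (ι → F) → (ι → F) → F}

/-- An alternating form has no non-degenerate line. -/
theorem no_nondeg_line (hf : IsSymplecticForm f) {W : Submodule F (ι → F)} (h0 : W ≠ ⊥)
    (hnd : IsNondegenerateOn f W) (h1 : Module.finrank F W ≤ 1) : False := by
  obtain ⟨w, hw, hw0⟩ := Submodule.exists_mem_ne_zero_of_ne_bot h0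
  have hline : Submodule.span F {w} = W :=
    Submodule.eq_of_le_of_finrank_le (by rwa [Submodule.span_singleton_le_iff_mem])
      (by rw [finrank_span_singleton hw0]; exact h1)
  obtain ⟨⟨x, hx, hxw⟩, -⟩ := hnd w hw hw0
  rw [← hline, Submodule.mem_span_singleton] at hx
  obtain ⟨c, rfl⟩ := hx
  exact hxw (by rw [hf.bilinear.smul_left, hf.alternating, mul_zero])

end CfsgLib.Classical.AschSp
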