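import Cfsg.Agent.Lib.Classical.AschSp.FourThree
import Cfsg.Agent.Lib.Classical.AschSp.PlusFour
import Cfsg.Agent.Lib.Classical.AschForm.TensorPower

/-!
# The cube of the plane: symplectic type over three elements, and the plus type tensor class
-/

set_option autoImplicit false
set_option linter.unusedSectionVars false

namespace CfsgLib.Classical.AschSp

open Matrix Cfsg Cfsg.Geo CfsgLib.Classical.AschPrime CfsgLib.Classical.AschGen
open scoped MatrixGroups Kronecker

variable {F : Type*} [Field F] [Fintype F] {n t : ℕ}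
variable {f : (Fin n → F) → (Fin n → F) → F}

/-- Matrices on the index set of a tensor power, inside the matrices of the space. -/
noncomputable def pullW (e : Fin n ≃ (Fin t → Fin 2)) (P : GL (Fin n) F) :
    Matrix (Fin t → Fin 2) (Fin t → Fin 2) F →ₐ[F] Mat n F :=
  (conjHom P).comp (Matrix.reindexAlgEquiv F F e.symm : _ ≃ₐ[F] Mat n F).toAlgHom

variable (e : Fin n ≃ (Fin t → Fin 2)) (P : GL (Fin n) F)

theorem pullW_apply (X : Matrix (Fin t → Fin 2) (Fin t → Fin 2) F) :
    pullW e P X = (P : Mat n F) * Matrix.reindex e.symm e.symm X * ((P⁻¹ : GL (Fin n) F) : Mat n F) := rfl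

theorem pullW_injective : Function.Injective (pullW e P) := fun X Y h => by
  rw [pullW_apply, pullW_apply] at h
  exact (Matrix.reindex e.symm e.symm).injective
    (P.isUnit.mul_right_injective ((P⁻¹).isUnit.mul_left_injective h))

theorem pullW_unit (w : GL (Fin t → Fin 2) F) :
    ((MulAut.conj P (glReindex e.symm w) : GL (Fin n) F) : Mat n F) =
      pullW e P (w : Matrix (Fin t → Fin 2) (Fin t → Fin 2) F) := rfl

/-- The Gram matrix in the coordinates of the power. -/
theorem gram_power {c : F} (hf : IsBilinearForm f)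
    (hst : ∀ x y : (Fin t → Fin 2) → F, f ((P : Mat n F) *ᵥ (x ∘ e)) ((P : Mat n F) *ᵥ (y ∘ e)) =
      c * (x ⬝ᵥ (powGram F t *ᵥ y))) :
    (P : Mat n F)ᵀ * gramMatrix f * (P : Mat n F) =
      c • Matrix.reindex e.symm e.symm (powGram F t) := by
  ext i j
  have h0 : ((P : Mat n F)ᵀ * gramMatrix f * (P : Mat n F)) i j =
      f ((P : Mat n F) *ᵥ Pi.single i 1) ((P : Mat n F) *ᵥ Pi.single j 1) := by
    rw [(isSesq_of_bilinear hf).apply, RingHom.coe_id, Function.id_comp, Matrix.mulVec_mulVec,
      ← Matrix.vecMul_transpose, ← Matrix.dotProduct_mulVec,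
      Matrix.mulVec_mulVec, ← mul_assoc, single_one_dotProduct, Matrix.mulVec_single_one]
    rfl
  have hs : ∀ k, (Pi.single (e k) 1 : (Fin t → Fin 2) → F) ∘ e = Pi.single k 1 := fun k => by
    funext l; simp [Pi.single_apply]
  rw [h0, ← hs i, ← hs j, hst, single_one_dotProduct, Matrix.mulVec_single_one]
  rfl

theorem mem_isom_of_pullW (hf : IsBilinearForm f) {c : F}
    (hst : ∀ x y : (Fin t → Fin 2) → F, f ((P : Mat n F) *ᵥ (x ∘ e)) ((P : Mat n F) *ᵥ (y ∘ e)) =
      c * (x ⬝ᵥ (powGram F t *ᵥ y)))
    {g : GL (Fin n) F} {X : Matrix (Fin t → Fin 2) (Fin t → Fin 2) F} (hg : (g : Mat n F) = pullW e P X)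
    (hX : Xᵀ * powGram F t * X = powGram F t) : g ∈ isomSubgroup f := by
  have hG := gram_power e P hf hst
  set Pi' : Mat n F := ((P⁻¹ : GL (Fin n) F) : Mat n F)
  set Z : Mat n F := Matrix.reindex e.symm e.symm X with hZdef
  have hM : (g : Mat n F)ᵀ * gramMatrix f * (g : Mat n F) = gramMatrix f := by
    have hZ : Zᵀ * (c • Matrix.reindex e.symm e.symm (powGram F t)) * Z =
        c • Matrix.reindex e.symm e.symm (powGram F t) := by
      rw [Matrix.mul_smul, Matrix.smul_mul, hZdef]
      congr 1
      simp only [Matrix.reindex_apply, Equiv.symm_symm, Matrix.transpose_submatrix,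
        Matrix.submatrix_mul_equiv, hX]
    rw [hg, pullW_apply, Matrix.transpose_mul, Matrix.transpose_mul]
    calc Pi'ᵀ * (Zᵀ * (P : Mat n F)ᵀ) * gramMatrix f * ((P : Mat n F) * Z * Pi')
        = Pi'ᵀ * (Zᵀ * ((P : Mat n F)ᵀ * gramMatrix f * (P : Mat n F)) * Z) * Pi' := by
          simp only [mul_assoc]
      _ = ((P : Mat n F) * Pi')ᵀ * gramMatrix f * ((P : Mat n F) * Pi') := by
          rw [hG, hZ, ← hG]; simp only [Matrix.transpose_mul, mul_assoc]
      _ = gramMatrix f := by simp [Pi']
  intro u v
  have hs := (isSesq_of_bilinear hf).apply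
  simp only [RingHom.coe_id, Function.id_comp] at hs
  rw [hs, hs, Matrix.mulVec_mulVec, ← Matrix.vecMul_transpose, ← Matrix.dotProduct_mulVec,
    Matrix.mulVec_mulVec, ← mul_assoc, hM]

/-- A subalgebra containing the single factors is everything. -/
theorem pure_top {S : Subalgebra F (Matrix (Fin t → Fin 2) (Fin t → Fin 2) F)}
    (h : ∀ i X, emb i X ∈ S) : S = ⊤ := by
  classical
  have hb : ∀ b : Fin t → Mat 2 F, pureT b ∈ S := by
    intro b
    suffices hs : ∀ s : Finset (Fin t), pureT (fun i => if i ∈ s then b i else 1) ∈ S by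
      simpa using hs Finset.univ
    intro s
    induction s using Finset.induction_on with
    | empty =>
      simp only [Finset.notMem_empty, if_false]
      rw [show (fun _ => 1 : Fin t → Mat 2 F) = 1 from rfl, pureT_one]
      exact S.one_mem
    | insert i s his ih =>
      have e3 : (fun j => if j ∈ insert i s then b j else 1) =
          Pi.mulSingle i (b i) * fun j => if j ∈ s then b j else 1 := by
        funext j
        by_cases hj : j = i
        · subst hj; simp [his]
        · simp [hj, Pi.mulSingle_eq_of_ne hj]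
      rw [e3, pureT_mul, ← emb]
      exact S.mul_mem (h i (b i)) ih
  refine eq_top_iff.mpr fun M _ => ?_
  rw [Matrix.matrix_eq_sum_single M]
  refine sum_mem fun p _ => sum_mem fun q _ => ?_
  have e1 : Matrix.single p q (M p q) = M p q • pureT (fun i => Matrix.single (p i) (q i) (1 : F)) := by
    ext x y
    simp only [pureT_apply, Matrix.single_apply, Matrix.smul_apply, smul_eq_mul]
    by_cases hxy : p = x ∧ q = y
    · obtain ⟨rfl, rfl⟩ := hxy; simp
    · rw [if_neg hxy]
      obtain ⟨i, hi⟩ : ∃ i, ¬ (p i = x i ∧ q i = y i) := by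
        by_contra hall'
        push Not at hall'
        exact hxy ⟨funext fun i => (hall' i).1, funext fun i => (hall' i).2⟩
      rw [Finset.prod_eq_zero (Finset.mem_univ i) (if_neg hi), mul_zero]
  rw [e1]
  exact S.smul_mem (hb _) _

/-- Two pure tensors differing in one factor. -/
theorem pureT_cancel {u v : Fin t → Mat 2 F} {i : Fin t} (hne : ∀ j, j ≠ i → u j = v j)
    (h0 : ∀ j, j ≠ i → u j ≠ 0) (h : pureT u = pureT v) : u i = v i := by
  classical
  have hex : ∀ j, ∃ p q : Fin 2, j ≠ i → u j p q ≠ 0 := fun j => by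
    by_cases hj : j = i
    · exact ⟨0, 0, fun h => absurd hj h⟩
    · by_contra hno
      push Not at hno
      exact h0 j hj (Matrix.ext fun p q => (hno p q).2)
  choose p q hpq using hex
  ext a b
  have h' := congrFun (congrFun h (Function.update p i a)) (Function.update q i b)
  rw [pureT_apply, pureT_apply, ← Finset.mul_prod_erase _ _ (Finset.mem_univ i),
    ← Finset.mul_prod_erase _ _ (Finset.mem_univ i), Function.update_self, Function.update_self] at h'
  have hprod : ∀ j ∈ Finset.univ.erase i, v j (Function.update p i a j) (Function.update q i b j) =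
      u j (Function.update p i a j) (Function.update q i b j) := fun j hj => by
    rw [hne j (Finset.ne_of_mem_erase hj)]
  rw [Finset.prod_congr rfl hprod] at h'
  refine mul_right_cancel₀ (Finset.prod_ne_zero_iff.mpr fun j hj => ?_) h'
  have hj' := Finset.ne_of_mem_erase hj
  rw [Function.update_of_ne hj', Function.update_of_ne hj']
  exact hpq j hj'

/-- Over three elements, the stabiliser of an odd power of the plane normalises a group of symplectic type. -/
theorem wreath_symType (hf : IsSymplecticForm f) (hq : Fintype.card F = 3) (ht : 2 ≤ t) {c : F}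
    (hst : ∀ x y : (Fin t → Fin 2) → F, f ((P : Mat n F) *ᵥ (x ∘ e)) ((P : Mat n F) *ᵥ (y ∘ e)) =
      c * (x ⬝ᵥ (powGram F t *ᵥ y)))
    {H : Subgroup (GL (Fin n) F)} (hH : H ≤ isomSubgroup f) (hle : H ≤ tensorWreathSubgroup 2 t e P) :
    SymTypeCase f H := by
  classical
  have hn : n = 2 ^ t := by simpa using Fintype.card_congr e
  have hn3 : 3 ≤ n := by
    have : 2 ^ 2 ≤ 2 ^ t := Nat.pow_le_pow_right (by norm_num) ht
    omega
  have hn0 : 0 < n := by omega
  have h3 := three_eq_zero hq
  have h2 : (2 : F) ≠ 0 := fun h => one_ne_zero (α := F) (by linear_combination h3 - h)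
  set I := isomSubgroup f
  let U : GL (Fin t → Fin 2) F →* GL (Fin n) F :=
    (MulAut.conj P).toMonoidHom.comp (glReindex e.symm).toMonoidHom
  have hU : ∀ w : GL (Fin t → Fin 2) F, (U w : Mat n F) = pullW e P w := fun w => rfl
  let Pr : GL (Fin n) F → Prop := fun g => ∃ a : Fin t → Mat 2 F, (∀ i, IsQuat (a i)) ∧
    (g : Mat n F) = pullW e P (pureT a)
  have hmul : ∀ a b, Pr a → Pr b → Pr (a * b) := by
    rintro a b ⟨x, hx, ha⟩ ⟨y, hy, hb⟩
    exact ⟨x * y, fun i => (quat_mul hq (hx i) (hy i)).1, by rw [Units.val_mul, ha, hb, ← map_mul, ← pureT_mul]⟩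
  have hfour : ∀ a, Pr a → a ^ 4 = 1 := by
    rintro a ⟨x, hx, ha⟩
    rw [show a ^ 4 = a * a * (a * a) by simp [pow_succ, mul_assoc]]
    refine Units.ext ?_
    rw [Units.val_mul, Units.val_mul, ha, ← map_mul, ← map_mul, ← pureT_mul, ← pureT_mul,
      show x * x * (x * x) = 1 from funext fun i => (quat_mul hq (hx i) (hx i)).2.2, pureT_one, map_one,
      Units.val_one]
  let R : Subgroup (GL (Fin n) F) :=
    { carrier := {g | Pr g}
      one_mem' := ⟨1, fun _ => isQuat_one, by rw [pureT_one, map_one]; rfl⟩
      mul_mem' := fun {a b} ha hb => hmul a b ha hb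
      inv_mem' := fun {a} ha => by
        have e : a⁻¹ = a * a * a := inv_eq_of_mul_eq_one_right (by
          rw [← hfour a ha]; simp only [pow_succ, pow_zero, one_mul, mul_assoc])
        rw [e]
        exact hmul _ _ (hmul a a ha ha) ha }
  have hRI : R ≤ I := by
    rintro g ⟨a, ha, hg⟩
    refine mem_isom_of_pullW e P hf.bilinear hst hg ?_
    rw [pureT_transpose, powGram, ← pureT_mul, ← pureT_mul]
    congr 1
    funext i
    simp only [Pi.mul_apply, plane_sim, (ha i).1, one_smul]
  have mkR : ∀ (i : Fin t) (X : Mat 2 F), IsQuat X → ∃ g ∈ R, (g : Mat n F) = pullW e P (emb i X) := by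
    intro i X hX
    have hu : IsUnit X := (Matrix.isUnit_iff_isUnit_det _).mpr (by rw [hX.1]; exact isUnit_one)
    let g := U (pureUnit (Pi.mulSingle i hu.unit))
    have hgv : (g : Mat n F) = pullW e P (emb i X) := by
      rw [hU]
      congr 1
      show pureT _ = _
      rw [emb]
      congr 1
      funext j
      by_cases hj : j = i
      · subst hj; simp
      · simp [Pi.mulSingle_eq_of_ne hj]
    refine ⟨g, ⟨Pi.mulSingle i X, fun j => ?_, hgv⟩, hgv⟩
    by_cases hj : j = i
    · subst hj; simpa using hX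
    · rw [Pi.mulSingle_eq_of_ne hj]; exact isQuat_one
  have hR : SymType 2 R := by
    refine ⟨Nat.prime_two, fun a ha b hb => ?_, fun a ha => ?_, ?_, ?_, fun x hx hx4 => ?_⟩
    · obtain ⟨x, hx, hav⟩ := ha
      obtain ⟨y, hy, hbv⟩ := hb
      have hs : ∀ i, ∃ s : F, (x * y) i = s • (y * x) i := fun i => by
        rcases (quat_mul hq (hx i) (hy i)).2.1 with h | h
        · exact ⟨1, by rw [one_smul]; exact h⟩
        · exact ⟨-1, by rw [neg_smul, one_smul]; exact h⟩
      choose s hs using hs
      have hab : (a : Mat n F) * b = (∏ i, s i) • ((b : Mat n F) * a) := by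
        rw [hav, hbv, ← map_mul, ← map_mul, ← map_smul, ← pureT_mul, ← pureT_mul, ← pureT_smul]
        congr 2
        funext i; exact hs i
      refine mem_scalars_of_eq hn0 (c := ∏ i, s i) ?_
      rw [Units.val_mul, Units.val_mul, Units.val_mul, hab, Matrix.smul_mul, Matrix.smul_mul,
        mul_assoc (b : Mat n F) a, Units.mul_inv, mul_one, Units.mul_inv]
    · rw [show 2 * Nat.gcd 2 2 = 4 from rfl]; exact hfour a ha
    · have hS : ((algOf R).comap (pullW e P)) = ⊤ := by
        refine pure_top fun i X => ?_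
        let embA : Mat 2 F →ₐ[F] Matrix (Fin t → Fin 2) (Fin t → Fin 2) F :=
          { toFun := emb i
            map_one' := by rw [emb, Pi.mulSingle_one, pureT_one]
            map_mul' := fun X Y => by rw [emb, Pi.mulSingle_mul, pureT_mul]; rfl
            map_zero' := by
              ext x y
              rw [emb, pureT_apply, Finset.prod_eq_zero (Finset.mem_univ i) (by simp)]
              rfl
            map_add' := fun X Y => by
              ext x y
              simp only [emb, pureT_apply, Matrix.add_apply]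
              rw [← Finset.mul_prod_erase _ _ (Finset.mem_univ i),
                ← Finset.mul_prod_erase _ _ (Finset.mem_univ i),
                ← Finset.mul_prod_erase _ _ (Finset.mem_univ i)]
              simp only [Pi.mulSingle_eq_same, Matrix.add_apply]
              have hc : ∀ Z : Mat 2 F, (∏ j ∈ Finset.univ.erase i, (Pi.mulSingle i Z : Fin t → Mat 2 F) j (x j) (y j)) =
                  ∏ j ∈ Finset.univ.erase i, (1 : Mat 2 F) (x j) (y j) := fun Z =>
                Finset.prod_congr rfl fun j hj => by rw [Pi.mulSingle_eq_of_ne (Finset.ne_of_mem_erase hj)]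
              rw [hc, hc X, hc Y]; ring
            commutes' := fun s => by
              rw [Algebra.algebraMap_eq_smul_one, Algebra.algebraMap_eq_smul_one, emb]
              have : (Pi.mulSingle i (s • (1 : Mat 2 F)) : Fin t → Mat 2 F) =
                  fun j => (Pi.mulSingle i s : Fin t → F) j • (1 : Fin t → Mat 2 F) j := by
                funext j
                by_cases hj : j = i
                · subst hj; simp
                · simp [Pi.mulSingle_eq_of_ne hj]
              rw [this, pureT_smul, pureT_one, Fintype.prod_pi_mulSingle'] }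
        have hl : (algOf R).comap ((pullW e P).comp embA) = ⊤ := by
          have m1 : ∀ x : Mat 2 F, IsQuat x → x ∈ (algOf R).comap ((pullW e P).comp embA) := fun x hx => by
            obtain ⟨g, hg, hgv⟩ := mkR i x hx
            show pullW e P (emb i x) ∈ algOf R
            rw [← hgv]
            exact mem_algOf hg
          set S := (algOf R).comap ((pullW e P).comp embA)
          have hI := m1 qI (isQuat_qI hq)
          have hJ := m1 _ (isQuat_qJ hq)
          have hIJ := S.mul_mem hI hJ
          have e1 : (qI : Mat 2 F) * (qT + qS) = qS - qT := by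
            ext i j; fin_cases i <;> fin_cases j <;> simp [qI, qT, qS, Matrix.mul_apply, Fin.sum_univ_two]
          rw [e1] at hIJ
          refine quat_span h2 hI ?_ ?_
          · have := S.smul_mem (S.sub_mem hJ hIJ) (2 : F)⁻¹
            rwa [show qT + qS - (qS - qT) = (2 : F) • (qT : Mat 2 F) by rw [two_smul]; abel, smul_smul,
              inv_mul_cancel₀ h2, one_smul] at this
          · have := S.smul_mem (S.add_mem hJ hIJ) (2 : F)⁻¹
            rwa [show qT + qS + (qS - qT) = (2 : F) • (qS : Mat 2 F) by rw [two_smul]; abel, smul_smul,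
              inv_mul_cancel₀ h2, one_smul] at this
        exact (hl.symm ▸ Algebra.mem_top : X ∈ (algOf R).comap ((pullW e P).comp embA))
      refine eq_top_iff.mpr fun M _ => ?_
      obtain ⟨X, rfl⟩ : ∃ X, pullW e P X = M := by
        refine ⟨Matrix.reindex e e (((P⁻¹ : GL (Fin n) F) : Mat n F) * M * (P : Mat n F)), ?_⟩
        rw [pullW_apply]
        have : Matrix.reindex e.symm e.symm (Matrix.reindex e e
            (((P⁻¹ : GL (Fin n) F) : Mat n F) * M * (P : Mat n F))) =
              ((P⁻¹ : GL (Fin n) F) : Mat n F) * M * (P : Mat n F) := by ext i j; simp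
        rw [this]
        simp [mul_assoc]
      exact (hS.symm ▸ Algebra.mem_top : X ∈ (algOf R).comap (pullW e P))
    · rw [Nat.card_eq_fintype_card, hq]
    · obtain ⟨d, hd⟩ := (mem_scalars_iff x).mp hx
      have hdd : (d : F) * d = 1 := by
        have h := FiniteField.pow_card_sub_one_eq_one (d : F) d.ne_zero
        rw [hq] at h
        simpa [pow_two] using h
      have e0 : (0 : ℕ) < t := by omega
      refine ⟨fun j => (Pi.mulSingle ⟨0, e0⟩ (d : F) : Fin t → F) j • (1 : Fin t → Mat 2 F) j,
        fun j => ?_, ?_⟩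
      · by_cases hj : j = ⟨0, e0⟩
        · subst hj; simpa using isQuat_smul hdd
        · simpa [Pi.mulSingle_eq_of_ne hj] using isQuat_one
      · rw [pureT_smul, pureT_one, Fintype.prod_pi_mulSingle', map_smul, map_one, hd]
  -- the normaliser
  set N := I ⊓ subgroupNormalizer R
  have hclosed : ∀ g : GL (Fin n) F, (∀ x ∈ R, g * x * g⁻¹ ∈ R) → g ∈ subgroupNormalizer R := by
    refine fun g h => Subgroup.mem_normalizer_iff.mpr fun x => ⟨h x, fun hx => ?_⟩
    let φ : R → R := fun y => ⟨g * y.1 * g⁻¹, h y.1 y.2⟩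
    have hφ : Function.Injective φ := fun a b hab => by
      have := congrArg Subtype.val hab
      simpa [φ] using this
    obtain ⟨y, hy⟩ := (Finite.injective_iff_surjective.mp hφ) ⟨g * x * g⁻¹, hx⟩
    have := congrArg Subtype.val hy
    simp only [φ, mul_left_inj, mul_right_inj] at this
    exact this ▸ y.2
  have hpureN : ∀ gs : Fin t → GL (Fin 2) F, U (pureUnit gs) ∈ subgroupNormalizer R := fun gs => by
    refine hclosed _ ?_
    rintro r ⟨a, ha, hr⟩
    refine ⟨fun i => (gs i : Mat 2 F) * a i * (((gs i)⁻¹ : GL (Fin 2) F) : Mat 2 F),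
      fun i => isQuat_conj (ha i) (Units.mul_inv _), ?_⟩
    rw [← map_inv, Units.val_mul, Units.val_mul, hU, hU, hr, ← map_mul, ← map_mul]
    congr 1
    show pureT _ * pureT a * pureT _ = _
    rw [← pureT_mul, ← pureT_mul]
    rfl
  have hWN : tensorWreathSubgroup 2 t e P ≤ subgroupNormalizer R := by
    refine Subgroup.map_le_iff_le_comap.mpr (Subgroup.map_le_iff_le_comap.mpr
      ((Subgroup.closure_le _).mpr ?_))
    intro w hw
    show U w ∈ subgroupNormalizer R
    rcases hw with ⟨gs, hgs⟩ | ⟨σ, hσ⟩
    · obtain rfl : w = pureUnit gs := Units.ext (Matrix.ext fun x y => hgs x y)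
      exact hpureN gs
    · obtain rfl : w = permUnit σ := Units.ext (Matrix.ext fun x y => hσ x y)
      refine hclosed _ ?_
      rintro r ⟨a, ha, hr⟩
      refine ⟨fun i => a (σ.symm i), fun i => ha _, ?_⟩
      rw [← map_inv, Units.val_mul, Units.val_mul, hU, hU, hr, ← map_mul, ← map_mul]
      congr 1
      rw [perm_pure, mul_assoc, Units.mul_inv, mul_one]
  have hHN : H ≤ N := le_inf hH (hle.trans hWN)
  have hNnorm : ∀ h ∈ N, ∀ x ∈ R, h * x * h⁻¹ ∈ R := fun h hh x hx =>
    (Subgroup.mem_normalizer_iff.mp hh.2 x).mp hx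
  have hab : ∀ A ≤ R, (∀ h ∈ N, ∀ x ∈ A, h * x * h⁻¹ ∈ A) →
      (∀ x ∈ A, ∀ y ∈ A, x * y = y * x) → A ≤ scalars (Fin n) F := by
    intro A hA hAn hAc a ha
    obtain ⟨x, hx, hav⟩ := hA ha
    have hsc : ∀ i, ∃ s : F, x i = s • 1 := by
      intro i
      refine (quat_moved hq (hx i)).resolve_right ?_
      rintro ⟨s, u, hs, hsu, hus, hne⟩
      let su : GL (Fin 2) F := ⟨s, u, hsu, hus⟩
      let gs : Fin t → GL (Fin 2) F := Pi.mulSingle i su
      have hdet : ∀ j, (gs j : Mat 2 F).det = 1 := fun j => by
        by_cases hj : j = i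
        · subst hj; simpa [gs, su] using hs
        · simp [gs, Pi.mulSingle_eq_of_ne hj]
      let g := U (pureUnit gs)
      have hgN : g ∈ N := ⟨mem_isom_of_pullW e P hf.bilinear hst (hU _) (by
        rw [pure_sim]; simp [hdet]), hpureN gs⟩
      have hc := congrArg Units.val (hAc a ha _ (hAn g hgN a ha))
      simp only [g, ← map_inv, Units.val_mul, hU, hav, ← map_mul] at hc
      have hc' := pullW_injective e P hc
      rw [show ((pureUnit gs : GL (Fin t → Fin 2) F) : Matrix (Fin t → Fin 2) (Fin t → Fin 2) F) =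
          pureT (fun j => (gs j : Mat 2 F)) from rfl,
        show (((pureUnit gs)⁻¹ : GL (Fin t → Fin 2) F) : Matrix (Fin t → Fin 2) (Fin t → Fin 2) F) =
          pureT (fun j => (((gs j)⁻¹ : GL (Fin 2) F) : Mat 2 F)) from rfl,
        ← pureT_mul, ← pureT_mul, ← pureT_mul, ← pureT_mul] at hc'
      refine hne ?_
      have := pureT_cancel (i := i) (fun j hj => ?_) (fun j hj h0 => ?_) hc'
      · simpa [gs, su, mul_assoc, Matrix.inv_eq_right_inv hsu] using this
      · simp [gs, Pi.mulSingle_eq_of_ne hj]
      · simp [gs, Pi.mulSingle_eq_of_ne hj] at h0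
        have h4 := (quat_mul hq (hx j) (hx j)).2.2
        rw [h0, zero_mul] at h4
        exact one_ne_zero h4.symm
    choose s hs using hsc
    exact mem_scalars_of_eq hn0 (c := ∏ i, s i) (by
      rw [hav, show x = fun i => s i • (1 : Fin t → Mat 2 F) i from funext hs, pureT_smul, pureT_one,
        map_smul, map_one])
  rcases symType_cases hf hn3 (H := N) (M := R) inf_le_left hRI hR le_sup_left hNnorm hab
    with ⟨R', p, k, h1, h2', h3', h4, h5, h6, h7, h8, h9, h10, h11, h12⟩ | ⟨F₀, r, B, c', hr, hcard, -⟩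
  · exact ⟨R', p, k, h1, h2', h3', h4, h5, h6, h7, h8, h9, h10, h11, hHN.trans h12⟩
  · exfalso
    rw [hq] at hcard
    have h2' : 2 ≤ Nat.card F₀ := Finite.one_lt_card
    have : Nat.card F₀ ^ 2 ≤ Nat.card F₀ ^ r := Nat.pow_le_pow_right (by omega) hr.two_le
    nlinarith

end CfsgLib.Classical.AschSp
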